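import Cfsg.Agent.Lib.SymThirtyTwo.Normal
import Cfsg.Agent.Lib.GLOrder.Basic
import Cfsg.Agent.S0071

/-
A normal subgroup meeting the centraliser in `E` (helper22).

* `Fz.normal_eq` : such a subgroup is `E`
* `Fz.psl_of_normal` : then `G` modulo `E` is `PSL(3, 2)`
* `Fz.dichotomy` : the group is of that kind or is simple
-/

set_option autoImplicit false

open Subgroup

namespace Cfsg.Agent.SymThirtyTwo

set_option synthInstance.maxSize 4096 in
theorem e_pair : ∀ sw ∈ bools, ∀ k ∈ ([0, 1, 2] : List (Fin 3)), okE sw k → ∀ a ∈ eList k,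
    ∀ b ∈ eList k, a ≠ oneM → a ≠ cs → b ≠ oneM → b ≠ cs →
      ∃ l ∈ all, mm sw false l b = mm sw false a l := by decide +kernel

theorem eq_one_of_ne_zero_two : ∀ d : ZMod 2, d ≠ 0 → d = 1 := by decide

namespace Fz

variable {G : Type*} [Group G] {s : G} {sw : Bool} {k : Fin 3} (F : Fz s sw k) [Finite G]

local notation "φ" => F.toCd.φ

include F

theorem cent_eq : centralizer (F.E : Set G) = F.E :=
  le_antisymm (fun _ hg => F.cent_E fun a ha => (mem_centralizer_iff.1 hg a ha).symm)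
    fun _ hg => mem_centralizer_iff.2 fun _ ha => (F.comm_E ha hg).eq

theorem stab_le : centralizer ({s} : Set G) ≤ normalizer (F.E : Set G) := by
  intro l hl
  have hls : Commute l s := mem_centralizer_singleton_iff.1 hl
  rw [mem_normalizer_iff]
  refine fun g => ⟨F.conj_E hls, fun h => ?_⟩
  have := F.conj_E hls.inv_left h
  rwa [show l⁻¹ * (l * g * l⁻¹) * l⁻¹⁻¹ = g by group] at this

/-- A normal subgroup meeting the centraliser in `E` is `E`. -/
theorem normal_eq {N : Subgroup G} [hN : N.Normal] (hs : s ∈ N)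
    (hE : ∀ w, φ w ∈ N → inE k w = true) : N = F.E := by
  classical
  haveI := Fact.mk Nat.prime_two
  have hEN := F.E_le_normal hs
  have hNC : ∀ g ∈ N, Commute g s → g ∈ F.E := fun g hg hgs => by
    obtain ⟨a, rfl⟩ := F.toCd.surj g hgs
    exact F.mem_E.2 (hE a hg)
  obtain ⟨S, hS, -⟩ := F.exists_sylow
  have hET : F.E ≤ F.T := by
    rintro _ ⟨a, ha, rfl⟩
    refine ⟨a, ?_, rfl⟩
    have := (Bool.and_eq_true_iff.1 (mem_eList.1 ha)).1
    simp only [inQ, Bool.and_eq_true] at this
    exact this.1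
  -- `E` is a Sylow subgroup of `N`
  obtain ⟨P, hP, hEP⟩ : ∃ P : Sylow 2 N, F.E.subgroupOf N = P ∧ ∀ g, g ∈ F.E ↔ ∃ h : g ∈ N,
      (⟨g, h⟩ : N) ∈ (P : Subgroup N) := by
    have h8 : IsPGroup 2 (F.E.subgroupOf N) := (IsPGroup.of_card (n := 3)
      (F.card_E.trans (by norm_num))).comap_subtype
    obtain ⟨P, hP⟩ := h8.exists_le_sylow
    obtain ⟨R, hR⟩ := (P.2.map N.subtype).exists_le_sylow
    obtain ⟨g, hg⟩ := MulAction.exists_smul_eq G R S
    have heq : F.E.subgroupOf N = P := by
      refine eq_of_le_of_card_ge hP ?_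
      have e : Nat.card (((P : Subgroup N).map N.subtype).map (MulAut.conj g).toMonoidHom) =
          Nat.card (P : Subgroup N) :=
        (Subgroup.card_map_of_injective (MulAut.conj g).injective).trans
          (Subgroup.card_map_of_injective N.subtype_injective)
      rw [Nat.card_congr (subgroupOfEquivOfLe hEN).toEquiv, ← e]
      refine card_le_of_le ?_
      rintro _ ⟨_, ⟨n, hn, rfl⟩, rfl⟩
      have h1 : (MulAut.conj g).toMonoidHom (n : G) ∈ (S : Subgroup G) := by
        rw [← hg, Sylow.coe_subgroup_smul]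
        exact ⟨(n : G), hR ⟨n, hn, rfl⟩, rfl⟩
      rw [hS] at h1
      obtain ⟨a, -, ha⟩ := h1
      exact hNC _ (hN.conj_mem _ n.2 g) (ha ▸ F.toCd.comm a : Commute ((MulAut.conj g).toMonoidHom (n : G)) s)
    refine ⟨P, heq, fun g => ⟨fun h => ⟨hEN h, ?_⟩, fun ⟨h, h'⟩ => ?_⟩⟩
    · rw [← heq]; exact h
    · rw [← heq] at h'; exact h'
  haveI : IsMulCommutative (P : Subgroup N) := ⟨⟨fun a b => Subtype.ext (Subtype.ext
    (F.comm_E ((hEP _).2 ⟨_, a.2⟩) ((hEP _).2 ⟨_, b.2⟩)).eq)⟩⟩
  set H := normalizer (F.E : Set G) with hH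
  have htop : H ⊔ N = ⊤ := by
    have h := Sylow.normalizer_sup_eq_top P
    rwa [← hP, map_subgroupOf_eq_of_le hEN] at h
  have htrans : ∀ e ∈ F.E, e ≠ 1 → ∃ h ∈ H, h * s * h⁻¹ = e := by
    intro e he he1
    obtain ⟨g, hg⟩ := isConj_iff.1 (F.isConj_E he he1)
    obtain ⟨m, hm, n, hn, rfl⟩ := Subgroup.mem_sup_of_normal_right.1 (htop ▸ mem_top g)
    set e' := m⁻¹ * e * m with he'
    have he'E : e' ∈ F.E := by
      refine (mem_normalizer_iff.1 hm e').2 ?_
      rw [he']
      simpa [mul_assoc] using he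
    have hn2 : n * s * n⁻¹ = e' := by rw [he', ← hg]; group
    obtain ⟨n', hn', hcon⟩ := P.conj_eq_normalizer_conj_of_mem ⟨s, hs⟩ (⟨n, hn⟩⁻¹)
      ((hEP s).1 F.s_mem).choose_spec
      (by
        have : ((⟨n, hn⟩ : N)⁻¹)⁻¹ * ⟨s, hs⟩ * (⟨n, hn⟩ : N)⁻¹ = ⟨e', hEN he'E⟩ :=
          Subtype.ext (by simpa using hn2)
        rw [this]
        exact ((hEP e').1 he'E).choose_spec)
    have hn'H : (n' : G)⁻¹ ∈ H := by
      refine inv_mem ?_
      rw [hH, mem_normalizer_iff]
      intro g
      constructor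
      · intro hg'
        obtain ⟨hgN, hgP⟩ := (hEP g).1 hg'
        exact (hEP _).2 ⟨_, (mem_normalizer_iff.1 hn' ⟨g, hgN⟩).1 hgP⟩
      · intro hg'
        obtain ⟨hgN, hgP⟩ := (hEP _).1 hg'
        have hgN' : g ∈ N := by
          have := hN.conj_mem _ hgN (n' : G)⁻¹
          simpa [mul_assoc] using this
        exact (hEP g).2 ⟨hgN', (mem_normalizer_iff.1 hn' ⟨g, hgN'⟩).2 hgP⟩
    refine ⟨m * (n' : G)⁻¹, mul_mem hm hn'H, ?_⟩
    have hc : n * s * n⁻¹ = (n' : G)⁻¹ * s * n' := by simpa using congrArg Subtype.val hcon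
    rw [← hg]
    calc m * (n' : G)⁻¹ * s * (m * (n' : G)⁻¹)⁻¹ = m * ((n' : G)⁻¹ * s * n') * m⁻¹ := by group
      _ = m * (n * s * n⁻¹) * m⁻¹ := by rw [hc]
      _ = _ := by group
  -- the normaliser in `N`
  set K := N ⊓ H with hK
  have hEK : F.E ≤ K := le_inf hEN le_normalizer
  have hKle : K ≤ F.E := by
    by_contra hne
    obtain ⟨n, hnK, hnE⟩ := Set.not_subset.1 hne
    have hKnorm : ∀ h ∈ H, ∀ u ∈ K, h * u * h⁻¹ ∈ K := fun h hh u hu =>
      mem_inf.2 ⟨hN.conj_mem _ hu.1 h, mul_mem (mul_mem hh hu.2) (H.inv_mem hh)⟩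
    -- the orbit of `s` under `K`
    have hKt : ∀ e ∈ F.E, e ≠ 1 → ∃ u ∈ K, u * s * u⁻¹ = e := by
      intro e he he1
      by_cases hes : e = s
      · exact ⟨1, one_mem K, by rw [hes]; group⟩
      set f := n * s * n⁻¹ with hf
      have hfE : f ∈ F.E := (mem_normalizer_iff.1 hnK.2 s).1 F.s_mem
      have hf1 : f ≠ 1 := fun h => F.ne_one (conj_eq_one_iff.1 h)
      have hfs : f ≠ s := fun h => hnE (hNC n hnK.1 (mul_inv_eq_iff_eq_mul.1 h))
      obtain ⟨a, ha, rfl⟩ := he
      obtain ⟨b, hb, hfb⟩ := hfE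
      obtain ⟨l, -, hl⟩ := e_pair sw (mem_bools _) k (mem_fin k) F.ok a ha b hb
        (fun h => he1 (by rw [h, F.toCd.map_one]))
        (fun h => hes (by rw [h, F.toCd.map_cs]))
        (fun h => hf1 (by rw [← hfb, h, F.toCd.map_one]))
        (fun h => hfs (by rw [← hfb, h, F.toCd.map_cs]))
      have hls : Commute (φ l) s := F.toCd.comm l
      refine ⟨φ l * n * (φ l)⁻¹, hKnorm _ (F.stab_le (mem_centralizer_singleton_iff.2 hls)) n hnK, ?_⟩
      have hls' : (φ l)⁻¹ * s * φ l = s := by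
        rw [mul_assoc, ← hls.eq, inv_mul_cancel_left]
      calc φ l * n * (φ l)⁻¹ * s * (φ l * n * (φ l)⁻¹)⁻¹
          = φ l * (n * ((φ l)⁻¹ * s * φ l) * n⁻¹) * (φ l)⁻¹ := by group
        _ = φ l * φ b * (φ l)⁻¹ := by rw [hls', hfb]
        _ = φ a := by rw [F.toCd.mul, hl, ← F.toCd.mul, mul_inv_cancel_right]
    -- the quotient has order seven
    let Q7 := K ⧸ F.E.subgroupOf K
    haveI : (F.E.subgroupOf K).Normal := ⟨fun g hg h => mem_subgroupOf.2
      ((mem_normalizer_iff.1 h.2.2 g).1 (mem_subgroupOf.1 hg))⟩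
    have hstab : ∀ u : K, (u : G) * s * (u : G)⁻¹ = s ↔ (u : G) ∈ F.E :=
      fun u => ⟨fun h => hNC _ u.2.1 (mul_inv_eq_iff_eq_mul.1 h),
        fun h => by rw [(F.commute_mem h).eq, mul_inv_cancel_right]⟩
    let θ : Q7 → {e : F.E // e ≠ 1} := Quotient.lift
      (fun u : K => (⟨⟨(u : G) * s * (u : G)⁻¹, (mem_normalizer_iff.1 u.2.2 s).1 F.s_mem⟩,
        fun h => F.ne_one (conj_eq_one_iff.1 (congrArg Subtype.val h))⟩ : {e : F.E // e ≠ 1}))
      (fun u v huv => by
        refine Subtype.ext (Subtype.ext ?_)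
        have h := (hstab (u⁻¹ * v)).2 (mem_subgroupOf.1 (QuotientGroup.leftRel_apply.1 huv))
        simp only [Subgroup.coe_mul, Subgroup.coe_inv] at h
        calc (u : G) * s * (u : G)⁻¹ = (u : G) * ((u : G)⁻¹ * v * s * ((u : G)⁻¹ * v)⁻¹) * (u : G)⁻¹ := by
              rw [h]
          _ = _ := by group)
    have hθ : Function.Bijective θ := by
      constructor
      · intro p q
        induction p using QuotientGroup.induction_on with | _ u => ?_
        induction q using QuotientGroup.induction_on with | _ v => ?_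
        intro h
        have h' : (u : G) * s * (u : G)⁻¹ = (v : G) * s * (v : G)⁻¹ :=
          congrArg (fun e : {e : F.E // e ≠ 1} => ((e : F.E) : G)) h
        refine QuotientGroup.eq.2 (mem_subgroupOf.2 ((hstab _).1 ?_))
        simp only [Subgroup.coe_mul, Subgroup.coe_inv]
        calc (u : G)⁻¹ * v * s * ((u : G)⁻¹ * v)⁻¹ = (u : G)⁻¹ * ((v : G) * s * (v : G)⁻¹) * u := by
              group
          _ = _ := by rw [← h']; group
      · intro e
        obtain ⟨u, hu, he⟩ := hKt _ e.1.2 (fun h => e.2 (Subtype.ext h))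
        exact ⟨QuotientGroup.mk ⟨u, hu⟩, Subtype.ext (Subtype.ext he)⟩
    have h7 : Nat.card Q7 = 7 := by
      rw [Nat.card_eq_of_bijective θ hθ]
      have h8 := F.card_E
      haveI := Fintype.ofFinite F.E
      rw [Nat.card_eq_fintype_card] at h8 ⊢
      rw [Fintype.card_subtype_compl, Fintype.card_subtype_eq, h8]
    haveI : Fact (Nat.Prime 7) := ⟨by norm_num⟩
    haveI : IsCyclic Q7 := isCyclic_of_prime_card h7
    -- `x` is a commutator in the centraliser
    have key : ∀ sw ∈ bools, ∃ a ∈ all, ∃ b ∈ all, com sw false a b = xE := by decide +kernel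
    obtain ⟨a, -, b, -, hab⟩ := key sw (mem_bools _)
    let ψ : M → (Q7 ≃* Q7) := fun a =>
      QuotientGroup.congr (F.E.subgroupOf K) (F.E.subgroupOf K)
        { toFun := fun u => ⟨φ a * u * (φ a)⁻¹, hKnorm _
            (F.stab_le (mem_centralizer_singleton_iff.2 (F.toCd.comm a))) u u.2⟩
          invFun := fun u => ⟨(φ a)⁻¹ * u * φ a, by
            have := hKnorm _ (inv_mem (F.stab_le (mem_centralizer_singleton_iff.2 (F.toCd.comm a))))
              u u.2
            rwa [inv_inv] at this⟩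
          left_inv := fun u => Subtype.ext (by group)
          right_inv := fun u => Subtype.ext (by group)
          map_mul' := fun u v => Subtype.ext (by simp only [Subgroup.coe_mul]; group) }
        (by
          ext g
          simp only [mem_map, mem_subgroupOf]
          constructor
          · rintro ⟨u, hu, rfl⟩
            exact F.conj_E (F.toCd.comm a) hu
          · intro hg
            refine ⟨⟨(φ a)⁻¹ * g * φ a, ?_⟩, ?_, Subtype.ext (by simp [mul_assoc])⟩
            · have := hKnorm _ (inv_mem (F.stab_le (mem_centralizer_singleton_iff.2 (F.toCd.comm a))))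
                g g.2
              rwa [inv_inv] at this
            · have := F.conj_E (F.toCd.comm a).inv_left hg
              rwa [inv_inv] at this)
    have hcommaut : ∀ (f g : Q7 ≃* Q7) (y : Q7), f (g y) = g (f y) := by
      intro f g y
      obtain ⟨y0, hy0⟩ := IsCyclic.exists_generator (α := Q7)
      obtain ⟨i, hi⟩ := mem_zpowers_iff.1 (hy0 (f y0))
      obtain ⟨j, hj⟩ := mem_zpowers_iff.1 (hy0 (g y0))
      obtain ⟨m, rfl⟩ := mem_zpowers_iff.1 (hy0 y)
      rw [map_zpow g, ← hj, map_zpow f, map_zpow f, map_zpow f, ← hi, map_zpow g, map_zpow g,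
        ← hj, ← zpow_mul, ← zpow_mul, ← zpow_mul, ← zpow_mul, mul_left_comm i j]
    obtain ⟨-, -, -, -, hr, hr1, hr2⟩ := eList_spec k (mem_fin k)
    obtain ⟨u, hu, hus⟩ := hKt (φ (repE k)) ⟨_, hr, rfl⟩
      (fun h => hr1 (F.toCd.inj (h.trans F.toCd.map_one.symm)))
    have hfix : (QuotientGroup.mk ⟨φ xE * u * (φ xE)⁻¹, hKnorm _
        (F.stab_le (mem_centralizer_singleton_iff.2 (F.toCd.comm xE))) u hu⟩ : Q7) =
        QuotientGroup.mk ⟨u, hu⟩ := by
      set y : Q7 := QuotientGroup.mk ⟨u, hu⟩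
      have e1 : ∀ z, (ψ a) ((ψ b) ((ψ a).symm ((ψ b).symm z))) = z := fun z => by
        rw [hcommaut (ψ a) (ψ b), MulEquiv.apply_symm_apply, MulEquiv.apply_symm_apply]
      refine Eq.trans ?_ (e1 y)
      refine congrArg QuotientGroup.mk (Subtype.ext ?_)
      show φ xE * u * (φ xE)⁻¹ = φ a * (φ b * ((φ a)⁻¹ * ((φ b)⁻¹ * u * φ b) * φ a) * (φ b)⁻¹) * (φ a)⁻¹
      rw [← hab, F.toCd.map_com]
      group
    have h2 : θ _ = θ _ := congrArg θ hfix
    have h3 : φ xE * u * (φ xE)⁻¹ * s * (φ xE * u * (φ xE)⁻¹)⁻¹ = u * s * u⁻¹ :=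
      congrArg (fun e : {e : F.E // e ≠ 1} => ((e : F.E) : G)) h2
    have hxs := F.toCd.comm xE
    have h4 : φ xE * φ (repE k) * (φ xE)⁻¹ = φ (repE k) := by
      rw [← hus]
      refine Eq.trans ?_ h3
      calc φ xE * (u * s * u⁻¹) * (φ xE)⁻¹
          = φ xE * (u * ((φ xE)⁻¹ * (φ xE * s)) * u⁻¹) * (φ xE)⁻¹ := by group
        _ = φ xE * (u * ((φ xE)⁻¹ * (s * φ xE)) * u⁻¹) * (φ xE)⁻¹ := by rw [hxs.eq]
        _ = _ := by group
    rcases e_fix sw (mem_bools _) k (mem_fin k) F.ok _ hr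
      (F.toCd.commute_iff.1 (mul_inv_eq_iff_eq_mul.1 h4)) with h | h
    exacts [hr1 h, hr2 h]
  -- Burnside's transfer theorem
  have hBurn : normalizer ((P : Subgroup N) : Set N) ≤ centralizer ((P : Subgroup N) : Set N) := by
    intro g hg
    have hgH : (g : G) ∈ H := by
      rw [hH, mem_normalizer_iff]
      intro a
      constructor
      · intro ha
        obtain ⟨haN, haP⟩ := (hEP a).1 ha
        exact (hEP _).2 ⟨_, (mem_normalizer_iff.1 hg ⟨a, haN⟩).1 haP⟩
      · intro ha
        obtain ⟨haN, haP⟩ := (hEP _).1 ha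
        have haN' : a ∈ N := by
          have := mul_mem (mul_mem (inv_mem g.2) haN) g.2
          simpa [mul_assoc] using this
        exact (hEP a).2 ⟨haN', (mem_normalizer_iff.1 hg ⟨a, haN'⟩).2 haP⟩
    rw [mem_centralizer_iff]
    intro a ha
    exact Subtype.ext (F.comm_E ((hEP _).2 ⟨_, ha⟩) (hKle ⟨g.2, hgH⟩)).eq
  have hcomp := MonoidHom.ker_transferSylow_isComplement' P hBurn
  set R := (MonoidHom.transferSylow P hBurn).ker with hR
  have hodd : ¬ 2 ∣ Nat.card R := MonoidHom.not_dvd_card_ker_transferSylow P hBurn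
  have hRn : (R.map N.subtype).Normal := by
    haveI : R.Characteristic := by
      refine characteristic_iff_map_le.2 fun σ => ?_
      rintro _ ⟨r, hr, rfl⟩
      rw [hR, MonoidHom.mem_ker]
      have hr2 : ¬ 2 ∣ orderOf (σ r) := fun h => hodd (h.trans (by
        rw [MulEquiv.orderOf_eq]; exact Subgroup.orderOf_dvd_natCard _ hr))
      have h1 : orderOf (MonoidHom.transferSylow P hBurn (σ r)) ∣ orderOf (σ r) := orderOf_map_dvd _ _
      obtain ⟨n, hn⟩ := P.2 (MonoidHom.transferSylow P hBurn (σ r))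
      obtain ⟨j, -, hj⟩ := (Nat.dvd_prime_pow Nat.prime_two).1 (orderOf_dvd_of_pow_eq_one hn)
      rcases j with - | j
      · exact orderOf_eq_one_iff.1 (hj.trans (pow_zero 2))
      · exact absurd (dvd_trans (hj ▸ dvd_pow_self 2 j.succ_ne_zero) h1) hr2
    infer_instance
  have hR1 : R = ⊥ := by
    have := F.odd_normal (N := R.map N.subtype) (by
      rw [Subgroup.card_map_of_injective N.subtype_injective]
      exact Nat.not_even_iff_odd.1 fun h => hodd h.two_dvd)
    rwa [Subgroup.map_eq_bot_iff, ker_subtype, le_bot_iff] at this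
  have htopP : (P : Subgroup N) = ⊤ := by
    rw [hR1] at hcomp
    exact isComplement'_bot_left.1 hcomp
  refine le_antisymm (fun g hg => ?_) hEN
  exact (hEP g).2 ⟨hg, htopP ▸ mem_top _⟩

/-- If `E` is normal then the quotient is `PSL(3, 2)`. -/
theorem psl_of_normal [hN : F.E.Normal] :
    Nonempty (G ⧸ F.E ≃* Matrix.ProjectiveSpecialLinearGroup (Fin 3) (ZMod 2)) := by
  classical
  haveI := Fact.mk Nat.prime_two
  letI : CommGroup F.E :=
    { (inferInstance : Group F.E) with mul_comm := fun a b => Subtype.ext (F.comm_E a.2 b.2).eq }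
  have hexp : ∀ e : F.E, e ^ 2 = 1 := fun e => Subtype.ext (by
    rw [Subgroup.coe_pow, pow_two, F.sq_E e.2]; rfl)
  letI : Module (ZMod 2) (Additive F.E) := AddCommGroup.zmodModule (n := 2)
    fun x => congrArg Additive.ofMul (hexp x.toMul)
  haveI : Module.Finite (ZMod 2) (Additive F.E) := Module.Finite.of_finite
  haveI : Module.Free (ZMod 2) (Additive F.E) := Module.Free.of_divisionRing (ZMod 2) (Additive F.E)
  have hfr : Module.finrank (ZMod 2) (Additive F.E) = 3 := by
    have h := Nat.card_congr (Module.finBasis (ZMod 2) (Additive F.E)).equivFun.toEquiv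
    rw [Nat.card_congr Additive.toMul, F.card_E, Nat.card_fun, Nat.card_zmod, Nat.card_fin] at h
    exact (Nat.pow_right_injective (le_refl 2) (h.symm.trans (by norm_num : (8 : ℕ) = 2 ^ 3)))
  let ρ : G →* Module.End (ZMod 2) (Additive F.E) :=
    { toFun := fun g => (MulEquiv.toAdditive (MulAut.conjNormal g : MulAut F.E)).toAddMonoidHom.toZModLinearMap 2
      map_one' := by
        refine LinearMap.ext fun e => ?_
        show Additive.ofMul ((MulAut.conjNormal (1 : G) : MulAut F.E) e.toMul) = e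
        rw [map_one]; rfl
      map_mul' := fun g h => by
        refine LinearMap.ext fun e => ?_
        show Additive.ofMul ((MulAut.conjNormal (g * h) : MulAut F.E) e.toMul) = _
        rw [map_mul]; rfl }
  let em : (Module.End (ZMod 2) (Additive F.E))ˣ ≃* GL (Fin 3) (ZMod 2) :=
    Units.mapEquiv (LinearMap.toMatrixAlgEquiv
      (Module.finBasisOfFinrankEq (ZMod 2) (Additive F.E) hfr)).toMulEquiv
  let g3 : G →* GL (Fin 3) (ZMod 2) := em.toMonoidHom.comp ρ.toHomUnits
  have hker : g3.ker = F.E := by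
    ext g
    rw [MonoidHom.mem_ker]
    constructor
    · intro h
      refine F.cent_E fun a ha => ?_
      have h2 : ρ.toHomUnits g = 1 := em.injective (h.trans (map_one em).symm)
      have h3 := LinearMap.congr_fun (congrArg Units.val h2) (Additive.ofMul (⟨a, ha⟩ : F.E))
      have h4 : g * a * g⁻¹ = a := congrArg (fun x : Additive F.E => ((x.toMul : F.E) : G)) h3
      exact mul_inv_eq_iff_eq_mul.1 h4
    · intro h
      have h2 : ρ.toHomUnits g = 1 := Units.ext (LinearMap.ext fun e => Subtype.ext (by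
        show g * ((Additive.toMul e : F.E) : G) * g⁻¹ = _
        rw [(F.comm_E h (Additive.toMul e).2).eq, mul_inv_cancel_right]
        rfl))
      show em (ρ.toHomUnits g) = 1
      rw [h2, map_one]
  -- counting
  have hcG : Nat.card G = 7 * 192 := by
    have horb : MulAction.orbit (ConjAct G) s = {g | g ∈ F.E ∧ g ≠ 1} := by
      ext g
      rw [ConjAct.mem_orbit_conjAct]
      refine ⟨fun h => ?_, fun h => (F.isConj_E h.1 h.2).symm⟩
      obtain ⟨w, rfl⟩ := isConj_iff.1 h.symm
      exact ⟨hN.conj_mem _ F.s_mem w, fun e => F.ne_one (conj_eq_one_iff.1 e)⟩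
    have hst : MulAction.stabilizer (ConjAct G) s =
        (centralizer ({s} : Set G)).map (ConjAct.toConjAct : G ≃* ConjAct G).toMonoidHom := by
      ext g
      rw [MulAction.mem_stabilizer_iff, ConjAct.smul_def, mem_map]
      refine ⟨fun h => ⟨ConjAct.ofConjAct g,
        mem_centralizer_singleton_iff.2 (mul_inv_eq_iff_eq_mul.1 h), rfl⟩, ?_⟩
      rintro ⟨u, hu, rfl⟩
      show u * s * u⁻¹ = s
      rw [mem_centralizer_singleton_iff.1 hu, mul_inv_cancel_right]
    have h := (MulAction.stabilizer (ConjAct G) s).card_mul_index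
    rw [MulAction.index_stabilizer, horb, hst, Subgroup.card_map_of_injective (MulEquiv.injective _),
      F.card_cent, ← Nat.card_congr ConjAct.toConjAct.toEquiv] at h
    rw [← h, mul_comm]
    congr 1
    have e : {g : G | g ∈ F.E ∧ g ≠ 1} = (F.E : Set G) \ {1} := rfl
    have h8 : (F.E : Set G).ncard = 8 := F.card_E
    rw [e, Set.ncard_sdiff_singleton_of_mem (one_mem F.E), h8]
  have h168 : Nat.card (G ⧸ F.E) = 168 := by
    have h := Subgroup.card_eq_card_quotient_mul_card_subgroup F.E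
    rw [hcG, F.card_E] at h
    omega
  have hSL : Nat.card (Matrix.SpecialLinearGroup (Fin 3) (ZMod 2)) = 168 := by
    rw [Cfsg.Agent.GLOrder.card_SL, Nat.card_zmod]; decide
  have hPSL : Nat.card (Matrix.ProjectiveSpecialLinearGroup (Fin 3) (ZMod 2)) = 168 := by
    rw [Cfsg.Agent.GLOrder.card_PSL, hSL, Nat.card_zmod, Fintype.card_fin]; decide
  have hdet : ∀ g, (g3 g).val.det = 1 := fun g => by
    have h := (Matrix.isUnit_iff_isUnit_det _).1 (g3 g).isUnit
    exact eq_one_of_ne_zero_two _ h.ne_zero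
  let toSL : G →* Matrix.SpecialLinearGroup (Fin 3) (ZMod 2) :=
    { toFun := fun g => ⟨(g3 g).val, hdet g⟩
      map_one' := Subtype.ext (by
        show (g3 1).val = 1
        rw [map_one]; rfl)
      map_mul' := fun a b => Subtype.ext (by
        show (g3 (a * b)).val = (g3 a).val * (g3 b).val
        rw [map_mul]; rfl) }
  let q : G →* Matrix.ProjectiveSpecialLinearGroup (Fin 3) (ZMod 2) :=
    (QuotientGroup.mk' _).comp toSL
  have hmk : Function.Bijective (QuotientGroup.mk' (center (Matrix.SpecialLinearGroup (Fin 3) (ZMod 2)))) :=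
    (Nat.bijective_iff_surjective_and_card _).2 ⟨QuotientGroup.mk'_surjective _, hSL.trans hPSL.symm⟩
  have hqk : q.ker = F.E := by
    rw [← hker]
    ext g
    rw [MonoidHom.mem_ker, MonoidHom.mem_ker]
    constructor
    · intro h
      exact Units.ext (congrArg Subtype.val (hmk.1 (h.trans (map_one _).symm)))
    · intro h
      have h1 : toSL g = 1 := Subtype.ext (by
        show (g3 g).val = _
        rw [h]; rfl)
      show QuotientGroup.mk' _ (toSL g) = 1
      rw [h1, map_one]
  let f := QuotientGroup.lift F.E q hqk.ge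
  have hf : Function.Injective f := by
    rw [← MonoidHom.ker_eq_bot_iff, eq_bot_iff]
    intro u hu
    induction u using QuotientGroup.induction_on with | _ g => ?_
    exact (QuotientGroup.eq_one_iff g).2 (hqk ▸ (show g ∈ q.ker from hu))
  exact ⟨MulEquiv.ofBijective f ((Nat.bijective_iff_injective_and_card _).2
    ⟨hf, h168.trans hPSL.symm⟩)⟩

/-- The group has a normal subgroup of the first kind or is simple. -/
theorem dichotomy :
    (∃ (N : Subgroup G) (_ : N.Normal), IsMulCommutative N ∧ (∀ n ∈ N, n ^ 2 = 1) ∧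
      Nat.card N = 8 ∧
      Nonempty (G ⧸ N ≃* Matrix.ProjectiveSpecialLinearGroup (Fin 3) (ZMod 2))) ∨
    IsSimpleGroup G := by
  by_cases h : F.E.Normal
  · exact .inl ⟨F.E, h, ⟨⟨fun a b => Subtype.ext (F.comm_E a.2 b.2).eq⟩⟩,
      fun n hn => by rw [pow_two, F.sq_E hn], F.card_E, F.psl_of_normal⟩
  refine .inr ?_
  haveI : Nontrivial G := ⟨s, 1, F.ne_one⟩
  refine ⟨fun N hN => ?_⟩
  by_cases hN1 : N = ⊥
  · exact .inl hN1
  refine .inr ?_
  have hs := F.mem_normal (hN := hN) hN1
  by_cases hE : ∀ w, φ w ∈ N → inE k w = true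
  · exact absurd (F.normal_eq (hN := hN) hs hE ▸ hN) h
  · push Not at hE
    obtain ⟨w, hw, hwE⟩ := hE
    exact F.normal_top (hN := hN) hs hw (by simpa using hwE)

end Fz

end Cfsg.Agent.SymThirtyTwo
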