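import Cfsg.Agent.Lib.SymThirtyTwo.Affine

/-
The classes of involutions of the centraliser in the case with exchanged factors (helper22).

* `clsIdx` : the class of an involution, `wList` : the elementary abelian subgroup of order 16
* `Fz.w_unique` : it is the only one in the Sylow 2-subgroup
* `Fz.conj_w` : it is weakly closed, so its normaliser controls fusion in it
* `Fz.patterns` : the possible sets of fused classes
-/

set_option autoImplicit false
set_option synthInstance.maxSize 4096
set_option maxRecDepth 100000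

namespace Cfsg.Agent.SymThirtyTwo

/-- The six classes of involutions of the centraliser. -/
def clsLists : List (List M) := [
  [((true, (false, false), (false, false)), 0, false)],
  [((false, (false, true), (false, true)), 0, false),
    ((false, (true, false), (true, false)), 0, false),
    ((false, (true, true), (true, true)), 0, false),
    ((true, (false, true), (false, true)), 0, false),
    ((true, (true, false), (true, false)), 0, false),
    ((true, (true, true), (true, true)), 0, false)],
  [((false, (false, true), (true, true)), 0, false),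
    ((false, (true, false), (false, true)), 0, false),
    ((false, (true, true), (true, false)), 0, false),
    ((true, (false, true), (true, true)), 0, false),
    ((true, (true, false), (false, true)), 0, false),
    ((true, (true, true), (true, false)), 0, false)],
  [((false, (false, true), (true, false)), 0, false),
    ((false, (true, false), (true, true)), 0, false),
    ((false, (true, true), (false, true)), 0, false),
    ((true, (false, true), (true, false)), 0, false),
    ((true, (true, false), (true, true)), 0, false),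
    ((true, (true, true), (false, true)), 0, false)],
  [((false, (false, false), (false, false)), 0, true),
    ((false, (false, false), (false, false)), 1, true),
    ((false, (false, false), (false, false)), 2, true),
    ((false, (false, true), (false, true)), 2, true),
    ((false, (false, true), (true, false)), 1, true),
    ((false, (false, true), (true, true)), 0, true),
    ((false, (true, false), (false, true)), 1, true),
    ((false, (true, false), (true, false)), 0, true),
    ((false, (true, false), (true, true)), 2, true),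
    ((false, (true, true), (false, true)), 0, true),
    ((false, (true, true), (true, false)), 2, true),
    ((false, (true, true), (true, true)), 1, true)],
  [((true, (false, false), (false, false)), 0, true),
    ((true, (false, false), (false, false)), 1, true),
    ((true, (false, false), (false, false)), 2, true),
    ((true, (false, true), (false, true)), 2, true),
    ((true, (false, true), (true, false)), 1, true),
    ((true, (false, true), (true, true)), 0, true),
    ((true, (true, false), (false, true)), 1, true),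
    ((true, (true, false), (true, false)), 0, true),
    ((true, (true, false), (true, true)), 2, true),
    ((true, (true, true), (false, true)), 0, true),
    ((true, (true, true), (true, false)), 2, true),
    ((true, (true, true), (true, true)), 1, true)]]

/-- An elementary abelian subgroup of order 16. -/
def wList : List M := [
  ((false, (false, false), (false, false)), 0, false),
  ((false, (false, false), (false, false)), 0, true),
  ((false, (false, true), (true, true)), 0, false),
  ((false, (false, true), (true, true)), 0, true),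
  ((false, (true, false), (true, false)), 0, false),
  ((false, (true, false), (true, false)), 0, true),
  ((false, (true, true), (false, true)), 0, false),
  ((false, (true, true), (false, true)), 0, true),
  ((true, (false, false), (false, false)), 0, false),
  ((true, (false, false), (false, false)), 0, true),
  ((true, (false, true), (true, true)), 0, false),
  ((true, (false, true), (true, true)), 0, true),
  ((true, (true, false), (true, false)), 0, false),
  ((true, (true, false), (true, false)), 0, true),
  ((true, (true, true), (false, true)), 0, false),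
  ((true, (true, true), (false, true)), 0, true)]

/-- Representatives of the six classes. -/
def cRep (q : Fin 6) : M := ![cs, repE 0, repE 1, repE 2, outE false, outE true] q

def clsIdx (a : M) : Fin 6 :=
  (List.find? (fun q : Fin 6 => (clsLists.getD q.val []).contains a) [0, 1, 2, 3, 4]).getD 5

def fins6 : List (Fin 6) := [0, 1, 2, 3, 4, 5]

theorem cls_spec : ∀ a ∈ all, isInv true false a →
    ∃ g ∈ all, mm true false g (cRep (clsIdx a)) = mm true false a g := by decide +kernel

theorem cRep_inv : ∀ q ∈ fins6, isInv true false (cRep q) = true ∧ clsIdx (cRep q) = q := by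
  decide +kernel

theorem cs_idx : ∀ a ∈ all, isInv true false a → (clsIdx a = 0 ↔ a = cs) := by decide +kernel

def inW (a : M) : Bool := wList.contains a

theorem w_closed : ∀ a ∈ wList, inT a = true ∧ mm true false a a = oneM ∧ ∀ b ∈ wList,
    inW (mm true false a b) = true ∧ mm true false a b = mm true false b a := by decide +kernel

theorem w_list : wList.Nodup ∧ wList.length = 16 ∧ oneM ∈ wList ∧ cs ∈ wList := by decide +kernel

theorem w_outside : ∀ a ∈ all, inT a → inW a = false → mm true false a a = oneM →
    (all.filter fun b => inT b && mm true false a b == mm true false b a &&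
      mm true false b b == oneM).length < 16 := by decide +kernel

/-- A flag for each class; the class of `s` is always taken. -/
def flagSet (f : Fin 5 → Bool) (a : M) : Bool :=
  isInv true false a && (clsIdx a == 0 ||
    ([0, 1, 2, 3, 4] : List (Fin 5)).any fun q => clsIdx a == q.succ && f q)

def pairCount (f : Fin 5 → Bool) (a : M) : ℕ :=
  (wList.filter fun b => flagSet f b && flagSet f (mm true false a b)).length

def uniform (f : Fin 5 → Bool) : Bool :=
  wList.all fun a => !flagSet f a || pairCount f a == pairCount f cs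

/-- Both classes outside meet conjugates of unfused or fused classes inside. -/
def outsideOK (f : Fin 5 → Bool) : Bool :=
  (!(f 0 && f 1 && f 2) || (f 3 && f 4)) && (f 0 || f 1 || f 2)

def flagsOf (b0 b1 b2 b3 b4 : Bool) : Fin 5 → Bool := ![b0, b1, b2, b3, b4]

theorem flagsOf_eta (f : Fin 5 → Bool) : flagsOf (f 0) (f 1) (f 2) (f 3) (f 4) = f :=
  funext fun q => by fin_cases q <;> rfl

/-- The number of fused classes inside and outside `Q`. -/
def shape (f : Fin 5 → Bool) : ℕ × ℕ :=
  ((([0, 1, 2] : List (Fin 5)).filter f).length, (([3, 4] : List (Fin 5)).filter f).length)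

theorem shape_cases : ∀ b0 ∈ bools, ∀ b1 ∈ bools, ∀ b2 ∈ bools, ∀ b3 ∈ bools, ∀ b4 ∈ bools,
    outsideOK (flagsOf b0 b1 b2 b3 b4) → uniform (flagsOf b0 b1 b2 b3 b4) →
      shape (flagsOf b0 b1 b2 b3 b4) = (1, 0) ∨ shape (flagsOf b0 b1 b2 b3 b4) = (2, 1) ∨
        shape (flagsOf b0 b1 b2 b3 b4) = (3, 2) := by decide +kernel

/-- Both classes outside appear among the translates of two elements with commutator `a`. -/
theorem outside_spec : ∀ k ∈ ([0, 1, 2] : List (Fin 3)), ∀ c ∈ bools,
    ∀ u ∈ all, isInv true false u → mm true false u (repE k) = mm true false (repE k) u →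
    ∀ v ∈ all, isInv true false v → mm true false v (repE k) = mm true false (repE k) v →
    mm true false u v = mm true false (mm true false v u) (repE k) →
    ∃ p ∈ ([oneM, cs, repE k, mm true false (repE k) cs] : List M), ∃ g ∈ all,
      mm true false g (outE c) = mm true false (mm true false u p) g ∨
      mm true false g (outE c) = mm true false (mm true false v p) g := by decide +kernel

theorem q_inv_cases : ∀ a ∈ qList, isInv true false a → a = cs ∨
    clsIdx a = 1 ∨ clsIdx a = 2 ∨ clsIdx a = 3 := by decide +kernel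

theorem no_central_translate : ∀ b ∈ qList, isInv true false b → b ≠ cs → ∀ u ∈ qList,
    ∀ v ∈ qList, mm true false u b = mm true false b u → mm true false v b = mm true false b v →
    mm true false u v = mm true false (mm true false v u) cs → isInv true false u →
    ∀ p ∈ ([oneM, cs, b, mm true false b cs] : List M), mm true false u p ≠ cs := by decide +kernel

namespace Fz

variable {G : Type*} [Group G] {s : G} {k : Fin 3} (F : Fz s true k) [Finite G]

local notation "φ" => F.toCd.φ

include F

/-- The elementary abelian subgroup of order 16. -/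
def W : Subgroup G where
  carrier := {g | ∃ a ∈ wList, φ a = g}
  mul_mem' := by
    rintro _ _ ⟨a, ha, rfl⟩ ⟨b, hb, rfl⟩
    exact ⟨_, List.contains_iff_mem.1 ((w_closed a ha).2.2 b hb).1, (F.toCd.mul a b).symm⟩
  one_mem' := ⟨oneM, w_list.2.2.1, F.toCd.map_one⟩
  inv_mem' := by
    rintro _ ⟨a, ha, rfl⟩
    refine ⟨a, ha, eq_inv_of_mul_eq_one_left ?_⟩
    rw [F.toCd.mul, (w_closed a ha).2.1, F.toCd.map_one]

theorem mem_W {a : M} : φ a ∈ F.W ↔ inW a = true := by
  rw [inW, List.contains_iff_mem]
  exact ⟨fun ⟨b, hb, e⟩ => F.toCd.inj e ▸ hb, fun h => ⟨a, h, rfl⟩⟩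

theorem card_W : Nat.card F.W = 16 := by
  classical
  let f : {a // a ∈ wList} → F.W := fun a => ⟨φ a, a.1, a.2, rfl⟩
  have hf : Function.Bijective f :=
    ⟨fun a b h => Subtype.ext (F.toCd.inj (congrArg Subtype.val h)),
      fun ⟨g, a, ha, e⟩ => ⟨⟨a, ha⟩, Subtype.ext e⟩⟩
  rw [← Nat.card_eq_of_bijective f hf, Nat.subtype_card wList.toFinset (fun _ => List.mem_toFinset),
    List.toFinset_card_of_nodup w_list.1, w_list.2.1]

theorem sq_W {g : G} (hg : g ∈ F.W) : g * g = 1 := by
  obtain ⟨a, ha, rfl⟩ := hg
  rw [F.toCd.mul, (w_closed a ha).2.1, F.toCd.map_one]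

theorem comm_W {g h : G} (hg : g ∈ F.W) (hh : h ∈ F.W) : Commute g h := by
  obtain ⟨a, ha, rfl⟩ := hg
  obtain ⟨b, hb, rfl⟩ := hh
  exact F.toCd.commute_iff.2 ((w_closed a ha).2.2 b hb).2

theorem s_mem_W : s ∈ F.W := ⟨cs, w_list.2.2.2, F.toCd.map_cs⟩

theorem W_le_T : F.W ≤ F.T := by
  rintro _ ⟨a, ha, rfl⟩
  exact ⟨a, (w_closed a ha).1, rfl⟩

/-- The elementary abelian subgroup of order 16 of the Sylow subgroup is unique. -/
theorem w_unique {A : Subgroup G} (hA : A ≤ F.T) (hcard : Nat.card A = 16)
    (hsq : ∀ a ∈ A, a * a = 1) : A = F.W := by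
  classical
  refine Subgroup.eq_of_le_of_card_ge (fun g hg => ?_) (by rw [hcard, F.card_W])
  obtain ⟨a, haT, rfl⟩ := hA hg
  by_contra hW
  have hW' : inW a = false := by
    rw [← Bool.not_eq_true, ← F.mem_W]; exact hW
  have haa : mm true false a a = oneM :=
    F.toCd.inj (by rw [← F.toCd.mul, hsq _ hg, F.toCd.map_one])
  refine absurd (w_outside a (mem_all a) haT hW' haa) (not_lt.2 ?_)
  have hcomm : ∀ x ∈ A, ∀ y ∈ A, x * y = y * x := fun x hx y hy => by
    calc x * y = (x * y)⁻¹ := (inv_eq_of_mul_eq_one_right (hsq _ (A.mul_mem hx hy))).symm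
      _ = y * x := by rw [mul_inv_rev, inv_eq_of_mul_eq_one_right (hsq x hx),
          inv_eq_of_mul_eq_one_right (hsq y hy)]
  set l := all.filter fun b => inT b && mm true false a b == mm true false b a &&
    mm true false b b == oneM with hl
  have hex : ∀ x : A, ∃ b, b ∈ l ∧ φ b = x := by
    rintro ⟨x, hx⟩
    obtain ⟨b, hbT, rfl⟩ := hA hx
    refine ⟨b, ?_, rfl⟩
    simp only [hl, List.mem_filter, Bool.and_eq_true, beq_iff_eq]
    exact ⟨mem_all b, ⟨hbT, F.toCd.commute_iff.1 (hcomm _ hg _ hx)⟩,
      F.toCd.inj (by rw [← F.toCd.mul, hsq _ hx, F.toCd.map_one])⟩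
  choose f hf using hex
  have hinj : Function.Injective (fun x : A => (⟨f x, List.mem_toFinset.2 (hf x).1⟩ : l.toFinset)) :=
    fun x y h => Subtype.ext (by
      rw [← (hf x).2, ← (hf y).2]
      exact congrArg φ (congrArg Subtype.val h))
  have h := Nat.card_le_card_of_injective _ hinj
  rw [hcard, Nat.card_eq_fintype_card, Fintype.card_coe] at h
  exact h.trans (List.toFinset_card_le l)

theorem w_eq_of_le {P A B : Subgroup G} (hP : IsPGroup 2 P) (hA : A ≤ P) (hB : B ≤ P)
    (hcA : Nat.card A = 16) (hcB : Nat.card B = 16) (hsA : ∀ a ∈ A, a * a = 1)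
    (hsB : ∀ b ∈ B, b * b = 1) : A = B := by
  haveI := Fact.mk Nat.prime_two
  obtain ⟨R, hR⟩ := hP.exists_le_sylow
  obtain ⟨S, hS, -⟩ := F.exists_sylow
  obtain ⟨g, hg⟩ := MulAction.exists_smul_eq G R S
  have key : ∀ C : Subgroup G, C ≤ P → Nat.card C = 16 → (∀ c ∈ C, c * c = 1) →
      C.map (MulAut.conj g).toMonoidHom = F.W := by
    intro C hC hc hs
    refine F.w_unique ?_ ((Subgroup.card_map_of_injective (MulAut.conj g).injective).trans hc) ?_
    · rintro _ ⟨c, hc', rfl⟩
      rw [← hS, ← hg, Sylow.coe_subgroup_smul]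
      exact ⟨c, hR (hC hc'), rfl⟩
    · rintro _ ⟨c, hc', rfl⟩
      rw [← map_mul, hs c hc', map_one]
  exact Subgroup.map_injective (MulAut.conj g).injective ((key A hA hcA hsA).trans (key B hB hcB hsB).symm)

/-- The normaliser of `W` controls fusion in `W`. -/
theorem conj_w {x g : G} (hx : x ∈ F.W) (hy : g * x * g⁻¹ ∈ F.W) :
    ∃ n ∈ Subgroup.normalizer (F.W : Set G), n * x * n⁻¹ = g * x * g⁻¹ := by
  haveI := Fact.mk Nat.prime_two
  set y := g * x * g⁻¹ with hydef
  set C := Subgroup.centralizer ({y} : Set G)
  set W' := F.W.map (MulAut.conj g).toMonoidHom with hW'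
  have h1 : F.W ≤ C := fun w hw => Subgroup.mem_centralizer_singleton_iff.2 (F.comm_W hw hy)
  have h2 : W' ≤ C := by
    rintro _ ⟨w, hw, rfl⟩
    refine Subgroup.mem_centralizer_singleton_iff.2 ?_
    show g * w * g⁻¹ * (g * x * g⁻¹) = g * x * g⁻¹ * (g * w * g⁻¹)
    calc g * w * g⁻¹ * (g * x * g⁻¹) = g * (w * x) * g⁻¹ := by group
      _ = g * (x * w) * g⁻¹ := by rw [(F.comm_W hw hx).eq]
      _ = _ := by group
  have hc' : Nat.card W' = 16 :=
    (Subgroup.card_map_of_injective (MulAut.conj g).injective).trans F.card_W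
  have hp : ∀ A : Subgroup G, Nat.card A = 16 → IsPGroup 2 (A.subgroupOf C) := fun A hA =>
    (IsPGroup.of_card (n := 4) (hA.trans (by norm_num))).comap_subtype
  obtain ⟨P1, hP1⟩ := (hp _ F.card_W).exists_le_sylow
  obtain ⟨P2, hP2⟩ := (hp _ hc').exists_le_sylow
  obtain ⟨c, hc⟩ := MulAction.exists_smul_eq C P2 P1
  set W'' := W'.map (MulAut.conj (c : G)).toMonoidHom
  have hle1 : F.W ≤ (P1 : Subgroup C).map C.subtype := fun w hw =>
    ⟨⟨w, h1 hw⟩, hP1 hw, rfl⟩
  have hle2 : W'' ≤ (P1 : Subgroup C).map C.subtype := by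
    rintro _ ⟨w, hw, rfl⟩
    refine ⟨c * ⟨w, h2 hw⟩ * c⁻¹, ?_, rfl⟩
    rw [← hc, Sylow.coe_subgroup_smul]
    exact ⟨⟨w, h2 hw⟩, hP2 hw, rfl⟩
  have heq : W'' = F.W := F.w_eq_of_le (P1.2.map C.subtype) hle2 hle1
    ((Subgroup.card_map_of_injective (MulAut.conj (c : G)).injective).trans hc') F.card_W
    (by
      rintro _ ⟨_, ⟨w, hw, rfl⟩, rfl⟩
      rw [← map_mul, ← map_mul, F.sq_W hw, map_one, map_one])
    (fun w hw => F.sq_W hw)
  refine ⟨(c : G) * g, Subgroup.mem_normalizer_fintype fun w hw => ?_, ?_⟩
  · have : (c : G) * (g * w * g⁻¹) * (c : G)⁻¹ ∈ W'' := ⟨_, ⟨w, hw, rfl⟩, rfl⟩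
    rw [heq] at this
    show (c : G) * g * w * ((c : G) * g)⁻¹ ∈ F.W
    convert this using 1
    group
  · have hcy : (c : G) * y = y * c := Subgroup.mem_centralizer_singleton_iff.1 c.2
    calc (c : G) * g * x * ((c : G) * g)⁻¹ = (c : G) * y * (c : G)⁻¹ := by rw [hydef]; group
      _ = y := by rw [hcy, mul_inv_cancel_right]

omit [Finite G] in
theorem isConj_cls {a : M} (ha : isInv true false a = true) :
    IsConj (φ (cRep (clsIdx a))) (φ a) := by
  obtain ⟨g, -, hg⟩ := cls_spec a (mem_all a) ha
  exact F.toCd.isConj_of_eq hg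

/-- A fused class makes each class outside meet a class inside. -/
theorem outside (k' : Fin 3) (hk : IsConj s (φ (repE k'))) (o : Bool) :
    ∃ l : Fin 3, IsConj (φ (repE l)) (φ (outE o)) := by
  obtain ⟨-, -, -, -, hr, -, hr2⟩ := eList_spec k' (mem_fin k')
  have hrQ : inQ (repE k') = true := (Bool.and_eq_true_iff.1 (mem_eList.1 hr)).1
  obtain ⟨-, g, hg, b, hb, hbQ, hb1, hbI, -⟩ := F.toCd.fused_mem hrQ hr2 hk
  obtain ⟨u, v, huQ, hvQ, hui, hvi, hub, hvb, u', v', hu', hv', hu'a, hv'a, hu'i, hv'i, huv'⟩ :=
    F.toCd.images hg hb hbQ hbI hb1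
  have huv : mm true false u v = mm true false (mm true false v u) cs := by
    refine F.toCd.inj ?_
    rw [← F.toCd.mul, ← F.toCd.mul, ← F.toCd.mul, F.toCd.map_cs]
    have e := congrArg φ huv'
    rw [← F.toCd.mul, ← F.toCd.mul, ← F.toCd.mul, hu', hv', ← hg] at e
    calc φ u * φ v = g⁻¹ * (g * φ u * g⁻¹ * (g * φ v * g⁻¹)) * g := by group
      _ = g⁻¹ * (g * φ v * g⁻¹ * (g * φ u * g⁻¹) * (g * s * g⁻¹)) * g := by rw [e]
      _ = _ := by group
  have hvu : mm true false v u = mm true false (mm true false u v) cs := by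
    refine F.toCd.inj ?_
    rw [← F.toCd.mul, ← F.toCd.mul, ← F.toCd.mul, F.toCd.map_cs]
    have e := congrArg φ huv
    rw [← F.toCd.mul, ← F.toCd.mul, ← F.toCd.mul, F.toCd.map_cs] at e
    rw [e, mul_assoc, F.sq_s, mul_one]
  obtain ⟨p, hp, g', -, hcase⟩ := outside_spec k' (mem_fin k') o (mem_bools o) u' (mem_all u') hu'i
    hu'a v' (mem_all v') hv'i hv'a huv'
  have hconj : ∀ p ∈ ([oneM, cs, repE k', mm true false (repE k') cs] : List M),
      ∃ p₀ ∈ ([oneM, cs, b, mm true false b cs] : List M), g * φ p₀ * g⁻¹ = φ p := by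
    have e1 : g * φ b * g⁻¹ = s := by rw [hb]; group
    have e2 : g * φ cs * g⁻¹ = φ (repE k') := by rw [F.toCd.map_cs, hg]
    intro p hp
    simp only [List.mem_cons, List.not_mem_nil, or_false] at hp
    rcases hp with rfl | rfl | rfl | rfl
    · exact ⟨oneM, by simp, by rw [F.toCd.map_one]; group⟩
    · exact ⟨b, by simp, by rw [e1, F.toCd.map_cs]⟩
    · exact ⟨cs, by simp, e2⟩
    · refine ⟨mm true false b cs, by simp, ?_⟩
      rw [← F.toCd.mul, ← F.toCd.mul, show g * (φ b * φ cs) * g⁻¹ =
        g * φ b * g⁻¹ * (g * φ cs * g⁻¹) by group, e1, e2, F.toCd.map_cs]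
      exact (F.toCd.comm (repE k')).eq.symm
  obtain ⟨p₀, hp₀, hp'⟩ := hconj p hp
  have hpQ : inQ p₀ = true := by
    simp only [List.mem_cons, List.not_mem_nil, or_false] at hp₀
    rcases hp₀ with rfl | rfl | rfl | rfl
    exacts [rfl, rfl, hbQ, q_closed true (mem_bools _) b (mem_qList.2 hbQ) cs (mem_qList.2 rfl)]
  have finish : ∀ q q' : M, inQ q = true → φ q' = g * φ q * g⁻¹ →
      mm true false q p₀ ≠ cs → mm true false g' (outE o) = mm true false (mm true false q' p) g' →
      ∃ l : Fin 3, IsConj (φ (repE l)) (φ (outE o)) := by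
    intro q q' hq hqq hne hg'
    have hc : IsConj (φ (mm true false q p₀)) (φ (mm true false q' p)) := isConj_iff.2 ⟨g, by
      rw [← F.toCd.mul, ← F.toCd.mul, hqq, ← hp']; group⟩
    have hoI : isInv true false (outE o) = true := by cases o <;> decide +kernel
    have hc2 := hc.trans (F.toCd.isConj_of_eq hg').symm
    have hI := F.toCd.isInv_of_isConj hc2.symm hoI
    have hqp : inQ (mm true false q p₀) = true :=
      q_closed true (mem_bools _) q (mem_qList.2 hq) p₀ (mem_qList.2 hpQ)
    have h3 := (F.isConj_cls hI).trans hc2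
    rcases q_inv_cases _ (mem_qList.2 hqp) hI with e | e | e | e
    · exact absurd e hne
    all_goals rw [e] at h3
    exacts [⟨0, h3⟩, ⟨1, h3⟩, ⟨2, h3⟩]
  rcases hcase with e | e
  · exact finish u u' huQ hu' (no_central_translate b (mem_qList.2 hbQ) hbI hb1 u (mem_qList.2 huQ)
      v (mem_qList.2 hvQ) hub hvb huv hui p₀ hp₀) e
  · exact finish v v' hvQ hv' (no_central_translate b (mem_qList.2 hbQ) hbI hb1 v (mem_qList.2 hvQ)
      u (mem_qList.2 huQ) hvb hub hvu hvi p₀ hp₀) e

omit [Finite G] in
/-- Whether each of the five classes is fused. -/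
theorem exists_flags : ∃ f : Fin 5 → Bool, ∀ q, f q = true ↔ IsConj s (φ (cRep q.succ)) := by
  classical
  exact ⟨fun q => decide (IsConj s (φ (cRep q.succ))), fun q => decide_eq_true_iff⟩

omit [Finite G] in
theorem flagSet_iff {f : Fin 5 → Bool} (hf : ∀ q, f q = true ↔ IsConj s (φ (cRep q.succ))) (a : M) :
    flagSet f a = true ↔ IsConj s (φ a) := by
  constructor
  · intro h
    simp only [flagSet, Bool.and_eq_true, Bool.or_eq_true, beq_iff_eq, List.any_eq_true] at h
    obtain ⟨hI, h | ⟨q, -, hq, hfq⟩⟩ := h
    · rw [(cs_idx a (mem_all a) hI).1 h, F.toCd.map_cs]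
    · exact ((hf q).1 hfq).trans (hq ▸ F.isConj_cls hI)
  · intro h
    have hI : isInv true false a = true := F.toCd.isInv_of_isConj (a := cs) (by rwa [F.toCd.map_cs])
      isInv_cs
    simp only [flagSet, Bool.and_eq_true, Bool.or_eq_true, beq_iff_eq, List.any_eq_true]
    refine ⟨hI, ?_⟩
    rcases Fin.eq_zero_or_eq_succ (clsIdx a) with e | ⟨q, e⟩
    · exact Or.inl e
    · refine Or.inr ⟨q, ?_, e, (hf q).2 (h.trans (e ▸ F.isConj_cls hI).symm)⟩
      exact (show ∀ r : Fin 5, r ∈ ([0, 1, 2, 3, 4] : List (Fin 5)) by decide) q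

/-- The possible patterns of fusion. -/
theorem patterns : ∃ f : Fin 5 → Bool, (∀ a, flagSet f a = true ↔ IsConj s (φ a)) ∧
    (shape f = (1, 0) ∨ shape f = (2, 1) ∨ shape f = (3, 2)) := by
  classical
  obtain ⟨f, hf⟩ := F.exists_flags
  have hfs := F.flagSet_iff hf
  refine ⟨f, hfs, ?_⟩
  rw [← flagsOf_eta f]
  refine shape_cases (f 0) (mem_bools _) (f 1) (mem_bools _) (f 2) (mem_bools _) (f 3) (mem_bools _)
    (f 4) (mem_bools _) ?_ ?_ <;> rw [flagsOf_eta]
  · have hk : ∀ l : Fin 3, IsConj s (φ (repE l)) ↔ f (Fin.castLE (by norm_num) l) = true := fun l => by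
      rw [hf]; fin_cases l <;> rfl
    simp only [outsideOK, Bool.and_eq_true, Bool.or_eq_true, Bool.not_eq_true']
    refine ⟨?_, ?_⟩
    · by_cases hall : (f 0 && f 1 && f 2) = true
      · refine Or.inr ?_
        simp only [Bool.and_eq_true] at hall
        have hall' : ∀ l : Fin 3, IsConj s (φ (repE l)) := fun l => (hk l).2 (by
          fin_cases l <;> simp [hall])
        obtain ⟨l, hl⟩ := F.outside k F.fused false
        obtain ⟨l', hl'⟩ := F.outside k F.fused true
        exact ⟨(hf 3).2 ((hall' l).trans hl), (hf 4).2 ((hall' l').trans hl')⟩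
      · exact Or.inl (by simpa using hall)
    · have h := (hk k).1 F.fused
      revert h
      generalize k = l
      intro h
      fin_cases l
      exacts [Or.inl (Or.inl h), Or.inl (Or.inr h), Or.inr h]
  · simp only [uniform, List.all_eq_true, Bool.or_eq_true, Bool.not_eq_true', beq_iff_eq]
    intro a ha
    by_cases hfa : flagSet f a = true
    swap
    · exact Or.inl (by simpa using hfa)
    refine Or.inr ?_
    have haW : φ a ∈ F.W := ⟨a, ha, rfl⟩
    obtain ⟨g, hg⟩ := isConj_iff.1 ((hfs a).1 hfa)
    obtain ⟨n, hn, hns⟩ := F.conj_w F.s_mem_W (g := g) (by rw [hg]; exact haW)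
    rw [hg] at hns
    have key : ∀ (a c : M) (n : G), a ∈ wList → c ∈ wList → n ∈ Subgroup.normalizer (F.W : Set G) →
        n * φ a * n⁻¹ = φ c → pairCount f a ≤ pairCount f c := by
      intro a c n ha hc hn hnac
      have hex : ∀ b, b ∈ wList → ∃ b', b' ∈ wList ∧ φ b' = n * φ b * n⁻¹ := fun b hb => by
        obtain ⟨b', hb', e⟩ := (Subgroup.mem_normalizer_iff.1 hn (φ b)).1 ⟨b, hb, rfl⟩
        exact ⟨b', hb', e⟩
      choose! β hβ using hex
      rw [pairCount, pairCount, ← List.toFinset_card_of_nodup (w_list.1.filter _),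
        ← List.toFinset_card_of_nodup (w_list.1.filter _)]
      refine Finset.card_le_card_of_injOn β (fun b hb => ?_) (fun b hb b' hb' e => ?_)
      · simp only [Finset.mem_coe, List.mem_toFinset, List.mem_filter, Bool.and_eq_true, hfs] at hb ⊢
        obtain ⟨hbW, h1, h2⟩ := hb
        obtain ⟨hb', e⟩ := hβ b hbW
        refine ⟨hb', h1.trans (isConj_iff.2 ⟨n, e.symm⟩), h2.trans (isConj_iff.2 ⟨n, ?_⟩)⟩
        rw [← F.toCd.mul, ← F.toCd.mul, e, ← hnac]
        group
      · simp only [Finset.mem_coe, List.mem_toFinset, List.mem_filter] at hb hb'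
        refine F.toCd.inj ?_
        have h := congrArg φ e
        rw [(hβ b hb.1).2, (hβ b' hb'.1).2] at h
        exact mul_left_cancel (mul_right_cancel h)
    refine le_antisymm (key a cs n⁻¹ ha w_list.2.2.2 (inv_mem hn) ?_)
      (key cs a n w_list.2.2.2 ha hn (by rw [F.toCd.map_cs, hns]))
    rw [F.toCd.map_cs, ← hns]
    group

end Fz

end Cfsg.Agent.SymThirtyTwo
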