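import Cfsg.Agent.Lib.SymThirtyTwo.XSylow

/-
Counting pairs of involutions in the two centralisers (helper22).

* `Nm.card_pairs_s` : the pairs of the centraliser of `s`
* `Nm.card_pairs_u` : the pairs of the centraliser of `uM`, from a permutation representation
-/

set_option autoImplicit false
set_option synthInstance.maxSize 4096
set_option maxRecDepth 100000

open Subgroup

namespace Cfsg.Agent.SymThirtyTwo

/-- Lists of images. -/
def img9 (p : Equiv.Perm (Fin 9)) : List (Fin 9) := (List.finRange 9).map p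

def comp9 (p q : List (Fin 9)) : List (Fin 9) := q.map fun a => p.getD a.val 0

def moved9 (p : List (Fin 9)) : ℕ :=
  ((List.finRange 9).filter fun a => p.getD a.val 0 != a).length

def id9 : List (Fin 9) := List.finRange 9

/-- A word for an element of the model. -/
def wordM (m : M) : List ℕ :=
  (if m.1.1 then wz else []) ++ (if m.1.2.1.1 then wi else []) ++ (if m.1.2.1.2 then wj else []) ++
    (if m.1.2.2.1 then wi' else []) ++ (if m.1.2.2.2 then wj' else []) ++
    List.replicate (m.2.1 : ℕ) 4 ++ (if m.2.2 then [6] else [])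

theorem wordM_spec : (all.all fun m => small (wordM m) && wM (wordM m) == m) = true := by
  decide +kernel

/-- The permutation of nine points of a word. -/
def wimg (w : List ℕ) : List (Fin 9) := (img8 (wval perm8 w)).map Fin.castSucc ++ [8]

/-- The permutation of nine points of an element of the Sylow subgroup. -/
def tabImg (a : M) : List (Fin 9) := wimg (wordM a)

def uImg : List (Fin 9) := tabImg uM

theorem tab_types : ∀ a ∈ t32, isInv true false a = true →
    moved9 (tabImg a) = if flagSet fNorm a then 8 else 4 := by decide +kernel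

/-- The powers from the first to the `n`th. -/
def powList {α : Type*} (op : α → α → α) (r : α) : ℕ → List α
  | 0 => []
  | n + 1 => r :: (powList op r n).map (op r)

theorem powList_spec {α : Type*} {H : Type*} [Monoid H] (op : α → α → α) (f : α → H)
    (hop : ∀ a b, f (op a b) = f a * f b) (r : α) : ∀ n, ∀ x ∈ powList op r n,
      ∃ k, 0 < k ∧ f x = f r ^ k := by
  intro n
  induction n with
  | zero => intro x hx; cases hx
  | succ n ih =>
    intro x hx
    rcases List.mem_cons.1 hx with rfl | hx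
    · exact ⟨1, one_pos, (pow_one _).symm⟩
    · obtain ⟨y, hy, rfl⟩ := List.mem_map.1 hx
      obtain ⟨k, hk, e⟩ := ih y hy
      exact ⟨k + 1, Nat.succ_pos k, by rw [hop, e, pow_succ']⟩

theorem powList_complete {α : Type*} {H : Type*} [Monoid H] (op : α → α → α) (f : α → H)
    (hop : ∀ a b, f (op a b) = f a * f b) (r : α) : ∀ n k, 0 < k → k ≤ n →
      ∃ x ∈ powList op r n, f x = f r ^ k := by
  intro n
  induction n with
  | zero => intro k h1 h2; omega
  | succ n ih =>
    intro k h1 h2
    rcases Nat.lt_or_ge 1 k with h | h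
    · obtain ⟨x, hx, e⟩ := ih (k - 1) (by omega) (by omega)
      refine ⟨op r x, List.mem_cons_of_mem _ (List.mem_map.2 ⟨x, hx, rfl⟩), ?_⟩
      rw [hop, e, ← pow_succ', Nat.sub_add_cancel h1]
    · obtain rfl : k = 1 := by omega
      exact ⟨r, List.mem_cons_self, (pow_one _).symm⟩

/-- A search for a power is conclusive if a power is trivial. -/
theorem powList_iff {α : Type*} [BEq α] [LawfulBEq α] {H : Type*} [Group H] [Finite H]
    (op : α → α → α) (f : α → H) (hop : ∀ a b, f (op a b) = f a * f b) (hf : Function.Injective f)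
    {one : α} (hone : f one = 1) {r : α} {n : ℕ} (hord : (powList op r n).contains one = true)
    {t : α} : (powList op r n).contains t = true ↔ f t ∈ Subgroup.zpowers (f r) := by
  rw [List.contains_iff_mem] at hord ⊢
  constructor
  · intro h
    obtain ⟨k, -, e⟩ := powList_spec op f hop r n t h
    exact Subgroup.mem_zpowers_iff.2 ⟨k, by rw [zpow_natCast, e]⟩
  · intro h
    obtain ⟨m, hm, he⟩ := powList_spec op f hop r n _ hord
    rw [hone] at he
    rw [← mem_powers_iff_mem_zpowers, Submonoid.mem_powers_iff] at h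
    obtain ⟨k, hk⟩ := h
    have hle : orderOf (f r) ≤ n := by
      by_contra hlt
      have : ∀ (n : ℕ), ∀ x ∈ powList op r n, ∃ k, 0 < k ∧ k ≤ n ∧ f x = f r ^ k := by
        intro n
        induction n with
        | zero => intro x hx; cases hx
        | succ n ih =>
          intro x hx
          rcases List.mem_cons.1 hx with rfl | hx
          · exact ⟨1, one_pos, Nat.succ_pos n, (pow_one _).symm⟩
          · obtain ⟨y, hy, rfl⟩ := List.mem_map.1 hx
            obtain ⟨k, hk1, hk2, e⟩ := ih y hy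
            exact ⟨k + 1, Nat.succ_pos k, Nat.succ_le_succ hk2, by rw [hop, e, pow_succ']⟩
      obtain ⟨j, hj1, hj2, e⟩ := this n one hord
      exact hlt ((Nat.le_of_dvd hj1 (orderOf_dvd_of_pow_eq_one (e.symm.trans hone))).trans hj2)
    have hpos : 0 < orderOf (f r) := orderOf_pos _
    obtain ⟨k', hk'1, hk'2, hk'⟩ : ∃ k', 0 < k' ∧ k' ≤ n ∧ f r ^ k' = f t := by
      rcases Nat.eq_zero_or_pos (k % orderOf (f r)) with e | e
      · refine ⟨orderOf (f r), hpos, hle, ?_⟩
        rw [pow_orderOf_eq_one, ← hk, ← pow_mod_orderOf, e, pow_zero]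
      · refine ⟨k % orderOf (f r), e, (Nat.mod_lt _ hpos).le.trans hle, ?_⟩
        rw [pow_mod_orderOf, hk]
    obtain ⟨x, hx, e⟩ := powList_complete op f hop r n k' hk'1 hk'2
    rwa [hf (e.trans hk')] at hx

/-- The pairs of involutions of a list. -/
def pairList {α : Type} (P Q : List α) (hit : α → α → Bool) : List (α × α) :=
  P.flatMap fun p => (Q.filter (hit p)).map fun q => (p, q)

theorem mem_pairList {α : Type} {P Q : List α} {hit : α → α → Bool} {p q : α} :
    (p, q) ∈ pairList P Q hit ↔ p ∈ P ∧ q ∈ Q ∧ hit p q = true := by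
  simp only [pairList, List.mem_flatMap, List.mem_map, List.mem_filter, Prod.mk.injEq]
  constructor
  · rintro ⟨a, ha, b, hb, rfl, rfl⟩; exact ⟨ha, hb.1, hb.2⟩
  · rintro ⟨hp, hq, h⟩; exact ⟨p, hp, q, ⟨hq, h⟩, rfl, rfl⟩

theorem nodup_pairList {α : Type} {P Q : List α} (hP : P.Nodup) (hQ : Q.Nodup)
    {hit : α → α → Bool} : (pairList P Q hit).Nodup := by
  rw [pairList, List.nodup_flatMap]
  refine ⟨fun p _ => (hQ.filter _).map fun a b e => (Prod.mk.inj e).2, hP.imp ?_⟩
  intro a b hab x ha hb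
  obtain ⟨_, -, rfl⟩ := List.mem_map.1 ha
  obtain ⟨_, -, e⟩ := List.mem_map.1 hb
  exact hab (Prod.mk.inj e).1.symm

def sInv : List M := all.filter fun a => flagSet fNorm a
def uInv : List M := all.filter fun a => isInv true false a && !flagSet fNorm a

def hitM (p q : M) : Bool :=
  (powList (mm true false) (mm true false p q) 12).contains cs

theorem count_s : (pairList sInv uInv hitM).length = 156 ∧
    (∀ p ∈ sInv, ∀ q ∈ uInv,
      (powList (mm true false) (mm true false p q) 12).contains oneM = true) := by decide +kernel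

/-- The pairs counted in a list of permutations. -/
def cnt9 (l : List (List (Fin 9))) : List (List (Fin 9) × List (Fin 9)) :=
  let invs := l.filter fun p => comp9 p p == id9 && p != id9
  pairList (invs.filter fun p => moved9 p == 8) (invs.filter fun p => moved9 p == 4) fun p q =>
    (powList comp9 (comp9 p q) 12).contains uImg

theorem img9_injective : Function.Injective img9 := fun p q h => Equiv.ext fun a => by
  have := congrArg (fun l => l.getD (a : ℕ) 0) h
  simpa [img9] using this

theorem img9_mul (p q : Equiv.Perm (Fin 9)) : img9 (p * q) = comp9 (img9 p) (img9 q) := by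
  simp [img9, comp9, List.getD_eq_getElem?_getD]

theorem moved9_img (p : Equiv.Perm (Fin 9)) : moved9 (img9 p) = p.support.card := by
  have e : ∀ a : Fin 9, (img9 p).getD a.val 0 = p a := fun a => by
    simp [img9, List.getD_eq_getElem?_getD]
  simp only [moved9, e]
  rw [← List.toFinset_card_of_nodup ((List.nodup_finRange 9).filter _)]
  congr 1
  ext a
  simp [Equiv.Perm.mem_support]

theorem img9_one : img9 1 = id9 := by simp [img9, id9]

namespace Nm

variable {G : Type*} [Group G] {s : G} (N : Nm s) [Finite G]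

local notation "φ" => N.toCd.φ

include N

theorem orderOf_u : orderOf (φ uM) = 2 :=
  haveI := Fact.mk Nat.prime_two
  orderOf_eq_prime (by rw [pow_two]; exact N.toFz.sq_W (N.toFz.mem_W.2 (loc_facts.1 uM (by simp))))
    fun e => absurd (N.toCd.inj (e.trans N.toCd.map_one.symm)) (by decide +kernel)

omit [Finite G] in
theorem comm_of_pair {x p q : G} (hp : p * p = 1) (hq : q * q = 1) (hx : x * x = 1)
    (h : x ∈ zpowers (p * q)) : Commute p x ∧ Commute q x := by
  have hpi : p⁻¹ = p := inv_eq_of_mul_eq_one_right hp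
  have hqi : q⁻¹ = q := inv_eq_of_mul_eq_one_right hq
  have hxi : x⁻¹ = x := inv_eq_of_mul_eq_one_right hx
  obtain ⟨k, hk⟩ := mem_zpowers_iff.1 h
  constructor
  · refine mul_inv_eq_iff_eq_mul.1 ?_
    calc p * x * p⁻¹ = (p * (p * q) * p⁻¹) ^ k := by rw [conj_zpow, hk]
      _ = ((p * q)⁻¹) ^ k := by rw [mul_inv_rev, hqi, ← mul_assoc p p q, hp, one_mul]
      _ = x := by rw [inv_zpow, hk, hxi]
  · refine mul_inv_eq_iff_eq_mul.1 ?_
    calc q * x * q⁻¹ = (q * (p * q) * q⁻¹) ^ k := by rw [conj_zpow, hk]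
      _ = ((p * q)⁻¹) ^ k := by rw [mul_inv_rev, hqi, hpi, mul_assoc q (p * q), mul_assoc p q, hq, mul_one]
      _ = x := by rw [inv_zpow, hk, hxi]

omit [Finite G] in
theorem sq_of_conj {x p : G} (hx : x * x = 1) (h : IsConj x p) : p * p = 1 := by
  obtain ⟨g, rfl⟩ := isConj_iff.1 h
  calc g * x * g⁻¹ * (g * x * g⁻¹) = g * (x * x) * g⁻¹ := by group
    _ = 1 := by rw [hx]; group

/-- The pairs with product generating `s`. -/
theorem card_pairs_s :
    Nat.card {p : G × G // IsConj s p.1 ∧ IsConj (φ uM) p.2 ∧ s ∈ zpowers (p.1 * p.2)} = 156 := by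
  classical
  have hu2 : φ uM * φ uM = 1 := N.toFz.sq_W (N.toFz.mem_W.2 (loc_facts.1 uM (by simp)))
  let C := centralizer ({s} : Set G)
  have hs1 : ∀ a, a ∈ sInv ↔ IsConj s (φ a) := fun a => by
    rw [sInv, List.mem_filter, N.flags]; exact and_iff_right (mem_all a)
  have hu1 : ∀ a, a ∈ uInv ↔ IsConj (φ uM) (φ a) := by
    intro a
    rw [uInv, List.mem_filter, Bool.and_eq_true, Bool.not_eq_true']
    constructor
    · rintro ⟨-, h1, h2⟩; exact N.isConj_u h1 h2
    · intro h
      refine ⟨mem_all a, N.toCd.isInv_of_isConj h (by decide +kernel), Bool.eq_false_iff.2 fun hf => ?_⟩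
      exact N.not_conj (((N.flags a).1 hf).trans h.symm)
  let f : M → C := fun a => ⟨φ a, mem_centralizer_singleton_iff.2 (N.toCd.comm a)⟩
  have hfop : ∀ a b, f (mm true false a b) = f a * f b := fun a b => Subtype.ext (N.toCd.mul a b).symm
  have hfinj : Function.Injective f := fun a b h => N.toCd.inj (congrArg Subtype.val h)
  have hhit : ∀ p ∈ sInv, ∀ q ∈ uInv, hitM p q = true ↔ s ∈ zpowers (φ p * φ q) := by
    intro p hp q hq
    rw [hitM, powList_iff (mm true false) f hfop hfinj (Subtype.ext N.toCd.map_one)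
      (count_s.2 p hp q hq), hfop, ← Subgroup.mem_map_iff_mem C.subtype_injective,
      MonoidHom.map_zpowers]
    show φ cs ∈ zpowers (φ p * φ q) ↔ _
    rw [N.toCd.map_cs]
  set l := pairList sInv uInv hitM with hl
  let F : {x // x ∈ l.toFinset} → {p : G × G // IsConj s p.1 ∧ IsConj (φ uM) p.2 ∧
      s ∈ zpowers (p.1 * p.2)} := fun x => ⟨(φ x.1.1, φ x.1.2), by
    obtain ⟨h1, h2, h3⟩ := mem_pairList.1 (List.mem_toFinset.1 x.2)
    exact ⟨(hs1 _).1 h1, (hu1 _).1 h2, (hhit _ h1 _ h2).1 h3⟩⟩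
  have hF : Function.Bijective F := by
    refine ⟨fun x y h => ?_, ?_⟩
    · have h' := congrArg Subtype.val h
      exact Subtype.ext (Prod.ext (N.toCd.inj (congrArg Prod.fst h')) (N.toCd.inj (congrArg Prod.snd h')))
    · rintro ⟨⟨p, q⟩, hp, hq, hpq⟩
      obtain ⟨cp, cq⟩ := N.comm_of_pair (N.sq_of_conj N.toFz.sq_s hp) (N.sq_of_conj hu2 hq)
        N.toFz.sq_s hpq
      obtain ⟨a, rfl⟩ := N.toCd.surj p cp
      obtain ⟨b, rfl⟩ := N.toCd.surj q cq
      exact ⟨⟨(a, b), List.mem_toFinset.2 (mem_pairList.2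
        ⟨(hs1 a).2 hp, (hu1 b).2 hq, (hhit a ((hs1 a).2 hp) b ((hu1 b).2 hq)).2 hpq⟩)⟩, rfl⟩
  rw [← Nat.card_eq_of_bijective F hF, Nat.card_eq_fintype_card, Fintype.card_coe, hl,
    List.toFinset_card_of_nodup (nodup_pairList (P := sInv) (Q := uInv) (all_nodup.1.filter _)
      (all_nodup.1.filter _)), count_s.1]

/-- The pairs with product generating `uM`, from a representation of its centraliser. -/
theorem card_pairs_u (π : centralizer ({φ uM} : Set G) →* Equiv.Perm (Fin 9))
    (hπ : Function.Injective π)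
    (htab : ∀ a (ha : a ∈ t32), img9 (π ⟨φ a, N.t32_mem ha⟩) = tabImg a)
    (L : List (List (Fin 9))) (hL : L.Nodup) (hach : ∀ l ∈ L, ∃ x, img9 (π x) = l)
    (hcard : Nat.card (centralizer ({φ uM} : Set G)) = L.length)
    (hord : ∀ p ∈ L, ∀ q ∈ L, comp9 p p = id9 → comp9 q q = id9 →
      moved9 p = 8 → moved9 q = 4 →
      (powList comp9 (comp9 p q) 12).contains id9 = true) :
    Nat.card {p : G × G // IsConj s p.1 ∧ IsConj (φ uM) p.2 ∧ φ uM ∈ zpowers (p.1 * p.2)} =
      (cnt9 L).length := by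
  classical
  haveI := Fact.mk Nat.prime_two
  let X : Subgroup G := centralizer ({φ uM} : Set G)
  have hu2 : φ uM * φ uM = 1 := N.toFz.sq_W (N.toFz.mem_W.2 (loc_facts.1 uM (by simp)))
  -- every image is in the list
  have hmem : ∀ x, img9 (π x) ∈ L := by
    choose g hg using hach
    let g' : {l // l ∈ L.toFinset} → X := fun l => g l.1 (List.mem_toFinset.1 l.2)
    have hg' : Function.Injective g' := fun a b h => Subtype.ext (by
      rw [← hg a.1 (List.mem_toFinset.1 a.2), ← hg b.1 (List.mem_toFinset.1 b.2)]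
      exact congrArg (fun x => img9 (π x)) h)
    have hbij : Function.Bijective g' := hg'.bijective_of_nat_card_le (by
      rw [hcard, Nat.card_eq_fintype_card, Fintype.card_coe, List.toFinset_card_of_nodup hL])
    intro x
    obtain ⟨l, rfl⟩ := hbij.2 x
    rw [hg l.1 (List.mem_toFinset.1 l.2)]
    exact List.mem_toFinset.1 l.2
  -- types of involutions
  let P : Sylow 2 X := IsPGroup.toSylow
    (P := N.p32.subgroupOf X)
    ((IsPGroup.of_card (n := 5) (N.card_p32.trans (by norm_num))).comap_subtype)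
    N.odd_index.not_two_dvd_nat
  have htype : ∀ x : X, x * x = 1 → x ≠ 1 →
      (IsConj s (x : G) ↔ moved9 (img9 (π x)) = 8) ∧
      (IsConj (φ uM) (x : G) ↔ moved9 (img9 (π x)) = 4) := by
    intro x hx hx1
    have hp : IsPGroup 2 (zpowers x) :=
      IsPGroup.of_card (n := 1) (by
        rw [Nat.card_zpowers, pow_one]; exact orderOf_eq_prime (by rw [pow_two, hx]) hx1)
    obtain ⟨R, hR⟩ := hp.exists_le_sylow
    obtain ⟨g, hg⟩ := MulAction.exists_smul_eq X P R
    have hxR := hR (mem_zpowers x)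
    rw [← hg, Sylow.coe_subgroup_smul] at hxR
    obtain ⟨y, hy, hyx⟩ := hxR
    obtain ⟨a, ha, e⟩ : ∃ a ∈ t32, φ a = (y : G) := mem_subgroupOf.1 hy
    have hy' : y = ⟨φ a, N.t32_mem ha⟩ := Subtype.ext e.symm
    have hyx' : g * y * g⁻¹ = x := hyx
    have hy2 : y * y = 1 := by
      calc y * y = g⁻¹ * (g * y * g⁻¹ * (g * y * g⁻¹)) * g := by group
        _ = 1 := by rw [hyx', hx]; group
    have haI : isInv true false a = true := N.isInv_of_order
      (by rw [e]; exact congrArg Subtype.val hy2)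
      (fun h => hx1 (by
        have hy1 : y = 1 := Subtype.ext (e ▸ h)
        rw [← hyx', hy1]; group))
    have hmv : moved9 (img9 (π x)) = if flagSet fNorm a then 8 else 4 := by
      rw [← hyx', map_mul, map_mul, map_inv, moved9_img, Equiv.Perm.card_support_conj, ← moved9_img,
        hy', htab a ha]
      exact tab_types a ha haI
    have hconj : IsConj (φ a) (x : G) := isConj_iff.2 ⟨g, by
      rw [← hyx', e]; rfl⟩
    rw [hmv]
    cases hf : flagSet fNorm a
    · have h1 := (N.isConj_u haI hf).trans hconj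
      exact ⟨⟨fun h => absurd (h.trans h1.symm) N.not_conj, fun h => absurd h (by decide)⟩,
        ⟨fun _ => rfl, fun _ => h1⟩⟩
    · have h1 := ((N.flags a).1 hf).trans hconj
      exact ⟨⟨fun _ => rfl, fun _ => h1⟩,
        ⟨fun h => absurd (h1.trans h.symm) N.not_conj, fun h => absurd h (by decide)⟩⟩
  -- the correspondence
  have hiso : ∀ r : X, comp9 (img9 (π r)) (img9 (π r)) = id9 ∧ img9 (π r) ≠ id9 ↔
      r * r = 1 ∧ r ≠ 1 := by
    intro r
    rw [← img9_mul, ← map_mul, ← img9_one, img9_injective.eq_iff, ne_eq, img9_injective.eq_iff,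
      ← map_one π, hπ.eq_iff, hπ.eq_iff]
  let T := {p : G × G // IsConj s p.1 ∧ IsConj (φ uM) p.2 ∧ φ uM ∈ zpowers (p.1 * p.2)}
  have hTX : ∀ p : T, p.1.1 ∈ X ∧ p.1.2 ∈ X ∧ p.1.1 * p.1.1 = 1 ∧ p.1.2 * p.1.2 = 1 := by
    rintro ⟨⟨p, q⟩, hp, hq, hpq⟩
    have hp2 := N.sq_of_conj N.toFz.sq_s hp
    have hq2 := N.sq_of_conj hu2 hq
    obtain ⟨cp, cq⟩ := N.comm_of_pair hp2 hq2 hu2 hpq
    exact ⟨N.mem_X.2 cp, N.mem_X.2 cq, hp2, hq2⟩
  let F : T → List (Fin 9) × List (Fin 9) := fun p =>
    (img9 (π ⟨p.1.1, (hTX p).1⟩), img9 (π ⟨p.1.2, (hTX p).2.1⟩))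
  have hFinj : Function.Injective F := fun p q h => Subtype.ext (Prod.ext
    (congrArg Subtype.val (hπ (img9_injective (congrArg Prod.fst h))))
    (congrArg Subtype.val (hπ (img9_injective (congrArg Prod.snd h)))))
  have hzp : ∀ x y : X, comp9 (img9 (π x)) (img9 (π x)) = id9 →
      comp9 (img9 (π y)) (img9 (π y)) = id9 → moved9 (img9 (π x)) = 8 →
      moved9 (img9 (π y)) = 4 →
      ((powList comp9 (comp9 (img9 (π x)) (img9 (π y))) 12).contains uImg = true ↔
        φ uM ∈ zpowers ((x : G) * y)) := by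
    intro x y h1 h2 h3 h4
    have huX : img9 (π ⟨φ uM, N.t32_mem t32_facts.2.2.1.2.2.2.1⟩) = uImg := htab uM t32_facts.2.2.1.2.2.2.1
    have hord' := hord _ (hmem x) _ (hmem y) h1 h2 h3 h4
    rw [List.contains_iff_mem] at hord' ⊢
    rw [← img9_mul, ← map_mul] at hord' ⊢
    rw [← huX]
    have hl : ∀ n (r : X), powList comp9 (img9 (π r)) n =
        (powList (· * ·) r n).map fun z => img9 (π z) := by
      intro n r
      induction n with
      | zero => rfl
      | succ n ih =>
        simp only [powList, ih, List.map_cons, List.map_map]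
        congr 1
        refine List.map_congr_left fun z _ => ?_
        simp [img9_mul]
    rw [hl] at hord' ⊢
    have hinj : Function.Injective fun z : X => img9 (π z) := img9_injective.comp hπ
    rw [← img9_one, ← map_one π, List.mem_map_of_injective hinj] at hord'
    rw [List.mem_map_of_injective hinj]
    have key := powList_iff (α := X) (H := X) (fun a b => a * b) id (fun _ _ => rfl)
      Function.injective_id (one := 1) rfl (r := x * y) (n := 12) (List.contains_iff_mem.2 hord')
      (t := ⟨φ uM, N.t32_mem t32_facts.2.2.1.2.2.2.1⟩)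
    rw [List.contains_iff_mem] at key
    rw [key, id, id, ← Subgroup.mem_map_iff_mem X.subtype_injective, MonoidHom.map_zpowers]
    exact Iff.rfl
  set l := cnt9 L with hl
  have hnd : l.Nodup := nodup_pairList ((hL.filter _).filter _) ((hL.filter _).filter _)
  have himg : ∀ pr, pr ∈ l ↔ ∃ p : T, F p = pr := by
    rintro ⟨a, b⟩
    simp only [hl, cnt9, mem_pairList, List.mem_filter, Bool.and_eq_true, beq_iff_eq, bne_iff_ne]
    constructor
    · rintro ⟨⟨⟨haL, ha1⟩, ha8⟩, ⟨⟨hbL, hb1⟩, hb4⟩, hpow⟩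
      obtain ⟨x, rfl⟩ := hach a haL
      obtain ⟨y, rfl⟩ := hach b hbL
      have hx := (hiso x).1 ha1
      have hy := (hiso y).1 hb1
      exact ⟨⟨((x : G), (y : G)), (htype x hx.1 hx.2).1.2 ha8, (htype y hy.1 hy.2).2.2 hb4,
        (hzp x y ha1.1 hb1.1 ha8 hb4).1 hpow⟩, rfl⟩
    · rintro ⟨p, hp⟩
      obtain ⟨hpX, hqX, hp2, hq2⟩ := hTX p
      obtain ⟨h1, h2, h3⟩ := p.2
      have hne : ∀ {r z : G} (hr : r ∈ X), IsConj z r → z ≠ 1 → (⟨r, hr⟩ : X) ≠ 1 := by
        intro r z hr h hz e
        obtain rfl : r = 1 := congrArg Subtype.val e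
        exact hz ((isConj_one_left).1 h)
      have hx := hne hpX h1 N.toFz.ne_one
      have hy := hne hqX h2 (fun e => absurd (N.toCd.inj (e.trans N.toCd.map_one.symm)) (by decide +kernel))
      have hxs : (⟨p.1.1, hpX⟩ : X) * ⟨p.1.1, hpX⟩ = 1 := Subtype.ext hp2
      have hys : (⟨p.1.2, hqX⟩ : X) * ⟨p.1.2, hqX⟩ = 1 := Subtype.ext hq2
      obtain ⟨rfl, rfl⟩ : img9 (π ⟨p.1.1, hpX⟩) = a ∧ img9 (π ⟨p.1.2, hqX⟩) = b :=
        ⟨congrArg Prod.fst hp, congrArg Prod.snd hp⟩
      have ha1 := (hiso _).2 ⟨hxs, hx⟩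
      have hb1 := (hiso _).2 ⟨hys, hy⟩
      have ha8 := (htype _ hxs hx).1.1 h1
      have hb4 := (htype _ hys hy).2.1 h2
      exact ⟨⟨⟨hmem _, ha1⟩, ha8⟩, ⟨⟨hmem _, hb1⟩, hb4⟩, (hzp _ _ ha1.1 hb1.1 ha8 hb4).2 h3⟩
  let F' : T → {x // x ∈ l.toFinset} := fun p => ⟨F p, List.mem_toFinset.2 ((himg _).2 ⟨p, rfl⟩)⟩
  have hF' : Function.Bijective F' := by
    refine ⟨fun p q h => hFinj (congrArg Subtype.val h), fun x => ?_⟩
    obtain ⟨p, hp⟩ := (himg x.1).1 (List.mem_toFinset.1 x.2)
    exact ⟨p, Subtype.ext hp⟩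
  show Nat.card T = _
  rw [Nat.card_eq_of_bijective F' hF', Nat.card_eq_fintype_card, Fintype.card_coe,
    List.toFinset_card_of_nodup hnd]

end Nm

end Cfsg.Agent.SymThirtyTwo
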