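import Cfsg.Agent.Lib.SymThirtyTwo.Model
import Cfsg.Agent.Lib.Extraspecial.Basic
import Cfsg.Prelude.Def_CaseTheorems

/-
The centraliser of the involution is one of the models (helper22).

* `Pre` : an extraspecial group of order 32 and an element of order three fixing only its centre
* `Pre.exists_rel` : generators satisfying the relations of a model
* `Cd` : a bijection from a model onto the centraliser of `s`
* `exists_cd` : existence from the hypotheses of the statement
-/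

set_option autoImplicit false

open Subgroup

namespace Cfsg.Agent.SymThirtyTwo

variable {G : Type*} [Group G]

/-- The data at the extraspecial group. -/
structure Pre (Q : Subgroup G) (s x : G) : Prop where
  s_sq : s * s = 1
  s_ne : s ≠ 1
  s_mem : s ∈ Q
  s_comm : ∀ q ∈ Q, Commute q s
  sq : ∀ q ∈ Q, q * q = 1 ∨ q * q = s
  comm : ∀ q ∈ Q, ∀ r ∈ Q, Commute q r ∨ q * r = r * q * s
  centre : ∀ q ∈ Q, (∀ r ∈ Q, Commute q r) → q = 1 ∨ q = s
  card : Nat.card Q = 32
  x_three : x ^ 3 = 1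
  xs : Commute x s
  xQ : ∀ q ∈ Q, x * q * x⁻¹ ∈ Q
  fix : ∀ q ∈ Q, Commute x q → q = 1 ∨ q = s

namespace Pre

variable {Q : Subgroup G} {s x : G} (P : Pre Q s x)

include P

theorem not_comm {q r : G} (hq : q ∈ Q) (hr : r ∈ Q) (h : ¬ Commute q r) : q * r = r * q * s :=
  (P.comm q hq r hr).resolve_left h

/-- The third element of an orbit of `x`. -/
theorem three {q : G} (hq : q ∈ Q) :
    x * (x * q * x⁻¹) * x⁻¹ = (q * (x * q * x⁻¹))⁻¹ ∨
      x * (x * q * x⁻¹) * x⁻¹ = (q * (x * q * x⁻¹))⁻¹ * s := by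
  set a := x * q * x⁻¹ with ha
  set b := x * a * x⁻¹ with hb
  have hx : x * b * x⁻¹ = q := by
    calc x * b * x⁻¹ = x ^ 3 * q * (x ^ 3)⁻¹ := by
          rw [hb, ha, pow_succ, pow_two]; simp only [mul_inv_rev, mul_assoc]
      _ = q := by rw [P.x_three]; simp
  have haQ : a ∈ Q := P.xQ q hq
  have hbQ : b ∈ Q := P.xQ a haQ
  set p := q * a * b with hp
  have hpQ : p ∈ Q := mul_mem (mul_mem hq haQ) hbQ
  have hconj : x * p * x⁻¹ = a * b * q := by
    calc x * p * x⁻¹ = (x * q * x⁻¹) * (x * a * x⁻¹) * (x * b * x⁻¹) := by rw [hp]; group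
      _ = _ := by rw [← ha, ← hb, hx]
  have hp1 : p = 1 ∨ p = s := by
    refine P.fix p hpQ ?_
    rcases P.comm q hq _ (mul_mem haQ hbQ) with e | e
    · exact mul_inv_eq_iff_eq_mul.1 (by rw [hconj, hp, mul_assoc q, e.eq])
    · exfalso
      have h1 : x * p * x⁻¹ = p * s := by
        rw [hconj, hp, mul_assoc q, e, mul_assoc (a * b * q), P.s_sq, mul_one]
      have h3 : p = p * s * s * s := by
        have hxs : x * s * x⁻¹ = s := by rw [P.xs.eq, mul_inv_cancel_right]
        have hc : ∀ u : G, x * (u * s) * x⁻¹ = x * u * x⁻¹ * s := fun u => by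
          calc x * (u * s) * x⁻¹ = x * u * x⁻¹ * (x * s * x⁻¹) := by group
            _ = _ := by rw [hxs]
        calc p = x ^ 3 * p * (x ^ 3)⁻¹ := by rw [P.x_three]; simp
          _ = x * (x * (x * p * x⁻¹) * x⁻¹) * x⁻¹ := by
            rw [pow_succ, pow_two]; simp only [mul_inv_rev, mul_assoc]
          _ = p * s * s * s := by rw [h1, hc, h1, hc, hc, h1]
      rw [mul_assoc (p * s), P.s_sq, mul_one] at h3
      exact P.s_ne (mul_eq_left.1 h3.symm)
  rcases hp1 with e | e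
  · exact .inl (eq_inv_of_mul_eq_one_right (by rw [← hp, e]))
  · refine .inr ?_
    rw [← e, hp]; group

/-- An element with square `s` begins a standard triple, up to a sign. -/
theorem exists_triple {q : G} (hq : q ∈ Q) (hq2 : q * q = s) :
    ∃ i, (i = q ∨ i = q * s) ∧ i ∈ Q ∧ i * i = s ∧
      (x * i * x⁻¹) * (x * i * x⁻¹) = s ∧
      (x * i * x⁻¹) * i = i * (x * i * x⁻¹) * s ∧
      x * (x * i * x⁻¹) * x⁻¹ = i * (x * i * x⁻¹) := by
  have hxs : x * s * x⁻¹ = s := by rw [P.xs.eq, mul_inv_cancel_right]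
  set j := x * q * x⁻¹ with hj
  have hjQ : j ∈ Q := P.xQ q hq
  have hqj : q * j ∈ Q := mul_mem hq hjQ
  have hj2 : j * j = s := by
    rw [hj, show x * q * x⁻¹ * (x * q * x⁻¹) = x * (q * q) * x⁻¹ by group, hq2, hxs]
  have hk2 : q * j * (q * j) = s := by
    have h := P.three hq
    rw [← hj] at h
    have e : (x * j * x⁻¹) * (x * j * x⁻¹) = s := by
      rw [show x * j * x⁻¹ * (x * j * x⁻¹) = x * (j * j) * x⁻¹ by group, hj2, hxs]
    have hinv : ∀ u : G, u⁻¹ * u⁻¹ = s → u * u = s := fun u hu => by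
      have h' : (u * u)⁻¹ = s := by rw [mul_inv_rev, hu]
      rw [← inv_inv (u * u), h']
      exact inv_eq_of_mul_eq_one_right P.s_sq
    rcases h with h | h <;> rw [h] at e
    · exact hinv _ e
    · refine hinv _ ?_
      rwa [(P.s_comm _ (inv_mem hqj)).symm.mul_mul_mul_comm, P.s_sq, mul_one] at e
  have hjq : j * q = q * j * s := by
    refine P.not_comm hjQ hq fun e => P.s_ne ?_
    rw [← hk2, e.mul_mul_mul_comm, hq2, hj2, P.s_sq]
  have hinv : (q * j)⁻¹ = q * j * s := inv_eq_of_mul_eq_one_right (by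
    rw [← mul_assoc, hk2, P.s_sq])
  rcases P.three hq with h | h <;> rw [← hj, hinv] at h
  · refine ⟨q * s, .inr rfl, mul_mem hq P.s_mem, ?_⟩
    have hqs : x * (q * s) * x⁻¹ = j * s := by
      rw [show x * (q * s) * x⁻¹ = j * (x * s * x⁻¹) by rw [hj]; group, hxs]
    have e : q * s * (j * s) = q * j := by
      rw [(P.s_comm j hjQ).symm.mul_mul_mul_comm, P.s_sq, mul_one]
    rw [hqs, e]
    refine ⟨?_, ?_, ?_, ?_⟩
    · rw [(P.s_comm q hq).symm.mul_mul_mul_comm, P.s_sq, mul_one, hq2]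
    · rw [(P.s_comm j hjQ).symm.mul_mul_mul_comm, P.s_sq, mul_one, hj2]
    · rw [(P.s_comm q hq).symm.mul_mul_mul_comm, P.s_sq, mul_one, hjq]
    · rw [show x * (j * s) * x⁻¹ = x * j * x⁻¹ * (x * s * x⁻¹) by group, hxs, h, mul_assoc,
        P.s_sq, mul_one]
  · refine ⟨q, .inl rfl, hq, hq2, hj2, hjq, ?_⟩
    rw [← hj, h, mul_assoc, P.s_sq, mul_one]

theorem exists_sq : ∃ q ∈ Q, q * q = s := by
  by_contra h
  push Not at h
  have hab : ∀ q ∈ Q, ∀ r ∈ Q, Commute q r := fun q hq r hr => by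
    have h1 := fun u (hu : u ∈ Q) => (P.sq u hu).resolve_right (h u hu)
    calc q * r = (q * r)⁻¹ := (inv_eq_of_mul_eq_one_right (h1 _ (mul_mem hq hr))).symm
      _ = r * q := by
        rw [mul_inv_rev, inv_eq_of_mul_eq_one_right (h1 r hr), inv_eq_of_mul_eq_one_right (h1 q hq)]
  have hle : (Q : Set G) ⊆ {1, s} := fun q hq => P.centre q hq (hab q hq)
  have := (Set.ncard_le_ncard hle (Set.toFinite _)).trans (Set.ncard_insert_le _ _)
  rw [← Nat.card_coe_set_eq, Set.ncard_singleton] at this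
  simp only [SetLike.coe_sort_coe, P.card] at this
  omega

/-- Six elements as in `Rel`, except the last. -/
theorem exists_factors : ∃ i j i' j', (i ∈ Q ∧ j ∈ Q ∧ i' ∈ Q ∧ j' ∈ Q) ∧
    (i * i = s ∧ j * j = s ∧ i' * i' = s ∧ j' * j' = s) ∧
    (j * i = i * j * s ∧ j' * i' = i' * j' * s) ∧
    (Commute i i' ∧ Commute i j' ∧ Commute j i' ∧ Commute j j') ∧
    (x * i * x⁻¹ = j ∧ x * j * x⁻¹ = i * j ∧ x * i' * x⁻¹ = j' ∧ x * j' * x⁻¹ = i' * j') := by
  obtain ⟨q, hq, hq2⟩ := P.exists_sq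
  obtain ⟨i, -, hi, hi2, hj2, hji, hxj⟩ := P.exists_triple hq hq2
  set j := x * i * x⁻¹ with hj
  have hjQ : j ∈ Q := P.xQ i hi
  have hij : ¬ Commute i j := fun e => P.s_ne (by rwa [e.eq, eq_comm, mul_eq_left] at hji)
  -- an element of square `s` commuting with both
  obtain ⟨q', hq', hqi, hqj, hq'2⟩ : ∃ u ∈ Q, Commute u i ∧ Commute u j ∧ u * u = s := by
    by_contra h
    push Not at h
    have hfix : ∀ u ∈ Q, Commute u i → Commute u j → u * u = 1 := fun u hu h1 h2 =>
      (P.sq u hu).resolve_right (h u hu h1 h2)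
    have hadj : ∀ u ∈ Q, ∃ w ∈ ({1, i, j, i * j} : Set G), Commute (u * w) i ∧
        Commute (u * w) j := by
      intro u hu
      have hcm : ∀ (w a : G), w ∈ Q → a ∈ Q → ¬ Commute u a → ¬ Commute w a →
          Commute (u * w) a := by
        intro w a hw ha h1 h2
        calc u * w * a = u * (a * w * s) := by rw [mul_assoc, P.not_comm hw ha h2]
          _ = u * a * (w * s) := by simp only [mul_assoc]
          _ = a * u * (s * (w * s)) := by rw [P.not_comm hu ha h1]; simp only [mul_assoc]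
          _ = a * (u * w) := by
            rw [← mul_assoc s w, ← (P.s_comm w hw).eq, mul_assoc w, P.s_sq, mul_one, mul_assoc]
      have hkeep : ∀ (w a : G), Commute u a → Commute w a → Commute (u * w) a := fun w a h1 h2 =>
        h1.mul_left h2
      have hii : Commute i i := Commute.refl i
      have hjj : Commute j j := Commute.refl j
      have hiji : ¬ Commute (i * j) i := fun e => hij (by
        have : i * (j * i) = i * (i * j) := by rw [← mul_assoc]; exact e
        exact (mul_left_cancel this).symm)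
      have hijj : ¬ Commute (i * j) j := fun e => hij (by
        have : i * j * j = j * i * j := by
          calc i * j * j = j * (i * j) := e
            _ = _ := (mul_assoc _ _ _).symm
        exact mul_right_cancel this)
      by_cases h1 : Commute u i <;> by_cases h2 : Commute u j
      · exact ⟨1, by simp, by simpa using h1, by simpa using h2⟩
      · exact ⟨i, by simp, hkeep i i h1 hii, hcm i j hi hjQ h2 hij⟩
      · exact ⟨j, by simp, hcm j i hjQ hi h1 (fun e => hij e.symm), hkeep j j h2 hjj⟩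
      · exact ⟨i * j, by simp, hcm _ i (mul_mem hi hjQ) hi h1 hiji,
          hcm _ j (mul_mem hi hjQ) hjQ h2 hijj⟩
    have habel : ∀ u ∈ Q, Commute u i → Commute u j → u = 1 ∨ u = s := by
      intro u hu h1 h2
      refine P.centre u hu fun r hr => ?_
      obtain ⟨w, hw, hw1, hw2⟩ := hadj r hr
      have hwQ : w ∈ Q := by
        rcases hw with rfl | rfl | rfl | rfl
        exacts [one_mem Q, hi, hjQ, mul_mem hi hjQ]
      have hrw : r * w ∈ Q := mul_mem hr hwQ
      have e1 : Commute u (r * w) := by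
        have s1 := hfix u hu h1 h2
        have s2 := hfix _ hrw hw1 hw2
        have s3 := hfix _ (mul_mem hu hrw) (h1.mul_left hw1) (h2.mul_left hw2)
        calc u * (r * w) = (u * (r * w))⁻¹ := (inv_eq_of_mul_eq_one_right s3).symm
          _ = _ := by rw [mul_inv_rev, inv_eq_of_mul_eq_one_right s1, inv_eq_of_mul_eq_one_right s2]
      have e2 : Commute u w := by
        rcases hw with rfl | rfl | rfl | rfl
        exacts [Commute.one_right u, h1, h2, h1.mul_right h2]
      simpa using e1.mul_right e2.inv_right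
    have hsub : (Q : Set G) ⊆ (fun p : G × G => p.1 * p.2⁻¹) ''
        (({1, s} : Set G) ×ˢ ({1, i, j, i * j} : Set G)) := by
      intro u hu
      obtain ⟨w, hw, hw1, hw2⟩ := hadj u hu
      have hwQ : w ∈ Q := by
        rcases hw with rfl | rfl | rfl | rfl
        exacts [one_mem Q, hi, hjQ, mul_mem hi hjQ]
      exact ⟨(u * w, w), ⟨habel _ (mul_mem hu hwQ) hw1 hw2, hw⟩, by simp⟩
    have hfin : (({1, s} : Set G) ×ˢ ({1, i, j, i * j} : Set G)).Finite := Set.toFinite _
    have h8 := (Set.ncard_le_ncard hsub (hfin.image _)).trans (Set.ncard_image_le hfin)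
    rw [Set.ncard_prod] at h8
    have e2 : ({1, s} : Set G).ncard ≤ 2 :=
      (Set.ncard_insert_le _ _).trans (by rw [Set.ncard_singleton])
    have e4 : ({1, i, j, i * j} : Set G).ncard ≤ 4 := by
      refine (Set.ncard_insert_le _ _).trans (Nat.succ_le_succ ?_)
      refine (Set.ncard_insert_le _ _).trans (Nat.succ_le_succ ?_)
      exact (Set.ncard_insert_le _ _).trans (by rw [Set.ncard_singleton])
    have := h8.trans (Nat.mul_le_mul e2 e4)
    rw [← Nat.card_coe_set_eq] at this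
    simp only [SetLike.coe_sort_coe, P.card] at this
    omega
  obtain ⟨i', hi'q, hi'Q, hi'2, hj'2, hj'i', hxj'⟩ := P.exists_triple hq' hq'2
  have hii' : Commute i i' := by
    rcases hi'q with rfl | rfl
    exacts [hqi.symm, hqi.symm.mul_right (P.s_comm i hi)]
  have hji' : Commute j i' := by
    rcases hi'q with rfl | rfl
    exacts [hqj.symm, hqj.symm.mul_right (P.s_comm j hjQ)]
  have hjj' : Commute j (x * i' * x⁻¹) := by
    rw [hj]; exact (SemiconjBy.conj_iff).2 hii'
  have hkj' : Commute (i * j) (x * i' * x⁻¹) := by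
    rw [← hxj]; exact (SemiconjBy.conj_iff).2 hji'
  have hij' : Commute i (x * i' * x⁻¹) := by
    simpa using hkj'.mul_left hjj'.inv_left
  exact ⟨i, j, i', x * i' * x⁻¹, ⟨hi, hjQ, hi'Q, P.xQ i' hi'Q⟩, ⟨hi2, hj2, hi'2, hj'2⟩,
    ⟨hji, hj'i'⟩, ⟨hii', hij', hji', hjj'⟩, rfl, hxj, rfl, hxj'⟩

end Pre

/-- A bijection from a model onto the centraliser of `s`. -/
structure Cd (s : G) (sw d : Bool) where
  φ : M → G
  comm : ∀ a, Commute (φ a) s
  surj : ∀ g, Commute g s → ∃ a, φ a = g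
  inj : Function.Injective φ
  mul : ∀ a b, φ a * φ b = φ (mm sw d a b)
  map_cs : φ cs = s

namespace QRel

variable {z i j i' j' x : G} (R : QRel z i j i' j' x)

include R

theorem evQ_mem {Q : Subgroup G} (hz : z ∈ Q) (hi : i ∈ Q) (hj : j ∈ Q) (hi' : i' ∈ Q)
    (hj' : j' ∈ Q) (p : QE) : evQ z i j i' j' p ∈ Q := by
  have _ := R
  have hb : ∀ (g : G) (c : Bool), g ∈ Q → bp g c ∈ Q := fun g c hg => by
    cases c <;> simp [bp, hg, one_mem]
  exact mul_mem (hb _ _ hz) (mul_mem (mul_mem (hb _ _ hi) (hb _ _ hj))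
    (mul_mem (hb _ _ hi') (hb _ _ hj')))

theorem evQ_inj (hz1 : z ≠ 1) : Function.Injective (evQ z i j i' j') := by
  have h1 : evQ z i j i' j' (sgn false) = 1 := by rw [R.evQ_sgn]; rfl
  have hker : ∀ p, evQ z i j i' j' p = 1 → p = sgn false := by
    intro p hp
    have hc : ∀ r ∈ qs, qmul p r = qmul r p := by
      intro r _
      refine by_contra fun hne => ?_
      have key : ∀ u ∈ qs, ∀ v ∈ qs, qmul u v ≠ qmul v u →
          qmul u v = qmul (sgn true) (qmul v u) := by decide +kernel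
      have h2 := congrArg (evQ z i j i' j') (key p (mem_qs p) r (mem_qs r) hne)
      rw [← R.evQ_mul, ← R.evQ_mul, ← R.evQ_mul, R.evQ_sgn, hp, one_mul, mul_one] at h2
      exact hz1 (mul_eq_right.1 h2.symm)
    rcases central_spec p (mem_qs p) hc with e | e
    · exact e
    · rw [e, R.evQ_sgn] at hp
      exact absurd hp hz1
  intro p q h
  refine (qinv_spec p (mem_qs p)).2 q (mem_qs q) (hker _ ?_)
  rw [← R.evQ_mul, ← h, R.evQ_mul, (qinv_spec p (mem_qs p)).1, h1]

theorem evQ_surj (hz1 : z ≠ 1) {Q : Subgroup G} [Finite Q] (hz : z ∈ Q) (hi : i ∈ Q) (hj : j ∈ Q)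
    (hi' : i' ∈ Q) (hj' : j' ∈ Q) (hcard : Nat.card Q = 32) {g : G} (hg : g ∈ Q) :
    ∃ p, evQ z i j i' j' p = g := by
  let f : QE → Q := fun p => ⟨evQ z i j i' j' p, R.evQ_mem hz hi hj hi' hj' p⟩
  have hf : Function.Bijective f := by
    refine Function.Injective.bijective_of_nat_card_le (fun p q h => R.evQ_inj hz1 ?_) ?_
    · exact congrArg Subtype.val h
    · rw [hcard, Nat.card_eq_fintype_card]; rfl
  obtain ⟨p, hp⟩ := hf.2 ⟨g, hg⟩
  exact ⟨p, congrArg Subtype.val hp⟩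

end QRel

/-- An element to a power given by a flag. -/
def qp (p : QE) (c : Bool) : QE := if c then p else sgn false

/-- The endomorphism sending `i`, `i'` to `p`, `q` and inverting the action of `x`. -/
def Tm (p q : QE) (u : QE) : QE :=
  qmul (sgn u.1) (qmul (qmul (qp p u.2.1.1) (qp (sigQ (sigQ p)) u.2.1.2))
    (qmul (qp q u.2.2.1) (qp (sigQ (sigQ q)) u.2.2.2)))

/-- Elements of square `sgn true`. -/
def roots : List QE := qs.filter fun p => decide (qmul p p = sgn true)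

def gi : QE := (false, (true, false), (false, false))
def gi' : QE := (false, (false, false), (true, false))

/-- `a` and `b` are images of `i` and `i'` under an automorphism commuting with `x`. -/
def Good (a b : QE) : Prop :=
  qmul a a = sgn true ∧ qmul b b = sgn true ∧
    qmul (sigQ a) (sigQ a) = sgn true ∧ qmul (sigQ b) (sigQ b) = sgn true ∧
    qmul (sigQ a) a = qmul (qmul a (sigQ a)) (sgn true) ∧
    qmul (sigQ b) b = qmul (qmul b (sigQ b)) (sgn true) ∧
    qmul a b = qmul b a ∧ qmul a (sigQ b) = qmul (sigQ b) a ∧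
    qmul (sigQ a) b = qmul b (sigQ a) ∧ qmul (sigQ a) (sigQ b) = qmul (sigQ b) (sigQ a) ∧
    sigQ (sigQ a) = qmul a (sigQ a) ∧ sigQ (sigQ b) = qmul b (sigQ b)

set_option synthInstance.maxSize 4096 in
instance (a b : QE) : Decidable (Good a b) := by unfold Good; infer_instance

set_option synthInstance.maxSize 4096 in
theorem adjust : ∀ p ∈ roots, ∀ q ∈ roots,
    (∀ u ∈ qs, Tm p q (Tm p q u) = u) →
    (∀ u ∈ qs, Tm p q (sigQ u) = sigQ (sigQ (Tm p q u))) →
    (∀ u ∈ qs, ∀ v ∈ qs, Tm p q (qmul u v) = qmul (Tm p q u) (Tm p q v)) →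
    ∃ sw ∈ bools, ∃ a ∈ roots, ∃ b ∈ roots, Good a b ∧
      Tm p q a = qmul (sgn true) (if sw then b else a) ∧
      Tm p q b = qmul (sgn true) (if sw then a else b) := by decide +kernel

set_option synthInstance.maxSize 4096 in
theorem perm_three : ∀ a b : Equiv.Perm (Fin 3), a * a * a = 1 → a ≠ 1 → b * b = 1 → b ≠ 1 →
    b * a * b⁻¹ = a⁻¹ ∧ ∀ g, ∃ k : Fin 3, ∃ c ∈ bools, g = a ^ (k : ℕ) * bp b c := by
  decide +kernel

set_option synthInstance.maxSize 4096 in
theorem perm_three_normal : ∀ a g b : Equiv.Perm (Fin 3), a * a * a = 1 → a ≠ 1 →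
    (g = 1 ∨ g = a ∨ g = a⁻¹) →
    b * g * b⁻¹ = 1 ∨ b * g * b⁻¹ = a ∨ b * g * b⁻¹ = a⁻¹ := by decide +kernel

set_option synthInstance.maxSize 4096 in
theorem perm_three_out : ∀ a b : Equiv.Perm (Fin 3), a * a * a = 1 → a ≠ 1 →
    b ≠ 1 → b ≠ a → b ≠ a⁻¹ → b * b = 1 := by decide +kernel

variable [Finite G]

theorem exists_cd (s : G) (hs : orderOf s = 2) (L : Subgroup G)
    (hL : L = centralizer ({s} : Set G)) (Q : Subgroup G) (hQ : Q = (pCore 2 L).map L.subtype)
    (hQex : IsExtraspecial 2 Q) (hQcard : Nat.card Q = 32) (e : L ⧸ pCore 2 L ≃* Equiv.Perm (Fin 3))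
    (X : Sylow 3 L)
    (hCQX : Q ⊓ centralizer (((X : Subgroup L).map L.subtype : Subgroup G) : Set G) = zpowers s) :
    ∃ sw d, ∃ c : Cd s sw d, ∀ g, g ∈ Q → ∃ p : QE, c.φ (p, 0, false) = g := by
  classical
  haveI : Fact (Nat.Prime 3) := ⟨by norm_num⟩
  haveI : Fact (Nat.Prime 2) := ⟨by norm_num⟩
  have hmemL : ∀ g, g ∈ L ↔ Commute g s := fun g => by
    rw [hL, mem_centralizer_singleton_iff]; exact Iff.rfl
  let π : L →* Equiv.Perm (Fin 3) := e.toMonoidHom.comp (QuotientGroup.mk' (pCore 2 L))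
  have hπ : Function.Surjective π := e.surjective.comp (QuotientGroup.mk'_surjective _)
  have hπk : ∀ g, π g = 1 ↔ g ∈ pCore 2 L := fun g => by simp [π]
  have hP32 : Nat.card (pCore 2 L) = 32 := by
    rw [← hQcard, hQ, Subgroup.card_map_of_injective L.subtype_injective]
  have hcardL : Nat.card L = 192 := by
    rw [Subgroup.card_eq_card_quotient_mul_card_subgroup (pCore 2 L), Nat.card_congr e.toEquiv, hP32,
      Nat.card_eq_fintype_card, Fintype.card_perm, Fintype.card_fin]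
    rfl
  have hX3 : Nat.card (X : Subgroup L) = 3 := by
    rw [X.card_eq_multiplicity, hcardL,
      show (192 : ℕ) = 3 * 64 by norm_num, Nat.factorization_mul (by norm_num) (by norm_num)]
    simp [Nat.Prime.factorization (by norm_num : Nat.Prime 3),
      Nat.factorization_eq_zero_of_not_dvd (show ¬ 3 ∣ 64 by norm_num)]
  haveI : Nontrivial (X : Subgroup L) := Finite.one_lt_card_iff_nontrivial.1 (by omega)
  obtain ⟨x0, hx0⟩ := exists_ne (1 : (X : Subgroup L))
  have hXz : (X : Subgroup L) = zpowers (x0 : L) := by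
    refine (Subgroup.eq_of_le_of_card_ge (zpowers_le.2 x0.2) ?_).symm
    rw [Nat.card_zpowers, hX3, Subgroup.orderOf_coe,
      orderOf_eq_prime (by simpa [hX3] using pow_card_eq_one' (x := x0)) hx0]
  have hx03 : (x0 : L) ^ 3 = 1 :=
    congrArg Subtype.val (show x0 ^ 3 = 1 by simpa [hX3] using pow_card_eq_one' (x := x0))
  set x : G := ((x0 : L) : G) with hxdef
  have hxL : x ∈ L := (x0 : L).2
  have hmemQ : ∀ g : G, g ∈ Q ↔ ∃ q : L, q ∈ pCore 2 L ∧ (q : G) = g := fun g => by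
    rw [hQ, mem_map]; rfl
  have hQL : Q ≤ L := hQ ▸ map_subtype_le _
  have hnQ : ∀ l ∈ L, ∀ q ∈ Q, l * q * l⁻¹ ∈ Q := fun l hl q hq => by
    obtain ⟨q0, hq0, rfl⟩ := (hmemQ q).1 hq
    exact (hmemQ _).2 ⟨_, Normal.conj_mem inferInstance q0 hq0 ⟨l, hl⟩, rfl⟩
  have hsQ : s ∈ Q := (hCQX.ge (mem_zpowers s)).1
  have hs2 : s * s = 1 := by rw [← pow_two, ← hs, pow_orderOf_eq_one]
  have hs1 : s ≠ 1 := fun h => by rw [h, orderOf_one] at hs; omega
  have hzs : ∀ g, g ∈ zpowers s → g = 1 ∨ g = s := by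
    rintro _ ⟨k, rfl⟩
    simp only [← zpow_mod_orderOf s k, hs]
    rcases Int.emod_two_eq_zero_or_one k with h | h <;>
      simp [h]
  have hfix : ∀ q ∈ Q, Commute x q → q = 1 ∨ q = s := by
    intro q hq hxq
    refine hzs q (hCQX.le ⟨hq, ?_⟩)
    show q ∈ centralizer _
    rw [mem_centralizer_iff]
    rintro _ ⟨u, hu, rfl⟩
    rw [SetLike.mem_coe, hXz] at hu
    obtain ⟨k, rfl⟩ := hu
    exact (map_zpow L.subtype (x0 : L) k) ▸ (hxq.zpow_left k).eq
  have hcen : ∀ q ∈ Q, (∀ r ∈ Q, Commute q r) → q = 1 ∨ q = s := by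
    intro q hq h
    have hscen : (⟨s, hsQ⟩ : Q) ∈ center Q := mem_center_iff.2 fun r =>
      Subtype.ext (((hmemL r).1 (hQL r.2)).eq)
    have hqcen : (⟨q, hq⟩ : Q) ∈ center Q := mem_center_iff.2 fun r =>
      Subtype.ext ((h r r.2).symm.eq)
    have h2 := Nat.card_eq_two_iff' (1 : center Q) |>.1 hQex.2
    by_cases hq1 : q = 1
    · exact .inl hq1
    · refine .inr (congrArg (fun u : center Q => ((u : Q) : G))
        (h2.unique (y₁ := ⟨_, hqcen⟩) (y₂ := ⟨_, hscen⟩) ?_ ?_))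
      · exact fun e => hq1 (congrArg (fun u : center Q => ((u : Q) : G)) e)
      · exact fun e => hs1 (congrArg (fun u : center Q => ((u : Q) : G)) e)
  have hcen' : ∀ u : Q, u ∈ center Q → (u : G) = 1 ∨ (u : G) = s := fun u hu =>
    hcen u u.2 fun r hr => (congrArg Subtype.val (mem_center_iff.1 hu ⟨r, hr⟩)).symm
  have P : Pre Q s x :=
    { s_sq := hs2
      s_ne := hs1
      s_mem := hsQ
      s_comm := fun q hq => (hmemL q).1 (hQL hq)
      sq := fun q hq => by
        simpa [pow_two] using hcen' _ (Extraspecial.pow_mem_center hQex ⟨q, hq⟩)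
      comm := fun q hq r hr => by
        rcases hcen' _ (Extraspecial.commutatorElement_mem_center hQex ⟨q, hq⟩ ⟨r, hr⟩) with h | h
        · exact .inl (commutatorElement_eq_one_iff_mul_comm.1 h)
        · refine .inr ?_
          have h' : q * r * q⁻¹ * r⁻¹ = s := h
          have : Commute (r * q) s := ((hmemL r).1 (hQL hr)).mul_left ((hmemL q).1 (hQL hq))
          rw [this.eq, ← h']
          group
      centre := hcen
      card := hQcard
      x_three := by rw [hxdef, ← Subgroup.coe_pow, hx03]; rfl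
      xs := (hmemL x).1 hxL
      xQ := hnQ x hxL
      fix := hfix }
  -- an element inverting `x`
  have hax : π (x0 : L) ≠ 1 := fun h => by
    have := Subgroup.orderOf_dvd_natCard (pCore 2 L) ((hπk _).1 h)
    rw [hP32, orderOf_eq_prime hx03 (by simpa using hx0)] at this
    omega
  have hax3 : π (x0 : L) * π (x0 : L) * π (x0 : L) = 1 := by
    rw [← map_mul, ← map_mul, ← pow_two, ← pow_succ, hx03, map_one]
  obtain ⟨t1, ht1⟩ := hπ (Equiv.swap 0 1)
  set K : Subgroup L := (zpowers (π (x0 : L))).comap π with hKdef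
  haveI : K.Normal := by
    refine Normal.comap ⟨fun g hg b => ?_⟩ π
    have hz : ∀ g, g ∈ zpowers (π (x0 : L)) ↔ g = 1 ∨ g = π (x0 : L) ∨ g = (π (x0 : L))⁻¹ := by
      intro g
      constructor
      · rintro ⟨k, rfl⟩
        have h3 : orderOf (π (x0 : L)) = 3 :=
          orderOf_eq_prime (by rw [pow_succ, pow_two, hax3]) hax
        simp only [← zpow_mod_orderOf (π (x0 : L)) k, h3]
        show _ ∨ _
        obtain h | h | h : k % ((3 : ℕ) : ℤ) = 0 ∨ k % ((3 : ℕ) : ℤ) = 1 ∨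
            k % ((3 : ℕ) : ℤ) = 2 := by omega
        · exact .inl (by rw [h, zpow_zero])
        · exact .inr (.inl (by rw [h, zpow_one]))
        · refine .inr (.inr ?_)
          rw [h, show (2 : ℤ) = ((2 : ℕ) : ℤ) from rfl, zpow_natCast]
          refine eq_inv_of_mul_eq_one_left ?_
          rw [pow_two, hax3]
      · rintro (rfl | rfl | rfl)
        exacts [one_mem _, mem_zpowers _, inv_mem (mem_zpowers _)]
    exact (hz _).2 (perm_three_normal _ _ _ hax3 hax ((hz g).1 hg))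
  have hXK : (X : Subgroup L) ≤ K := by
    rw [hXz, zpowers_le]; exact mem_zpowers _
  have htop := Sylow.normalizer_sup_eq_top (X.subtype hXK)
  rw [X.coe_subtype hXK, map_subgroupOf_eq_of_le hXK] at htop
  obtain ⟨n, hn, k, hk, hnk⟩ := Subgroup.mem_sup_of_normal_right.1 (htop ▸ mem_top t1)
  have hnK : π n ∉ zpowers (π (x0 : L)) := fun h => by
    have h1 : π t1 ∈ zpowers (π (x0 : L)) := by rw [← hnk, map_mul]; exact mul_mem h hk
    have h2 := Subgroup.orderOf_dvd_natCard _ h1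
    rw [Nat.card_zpowers, ht1, orderOf_eq_prime (p := 3) (by rw [pow_succ, pow_two, hax3]) hax,
      orderOf_eq_prime (p := 2) (by decide) (by decide)] at h2
    omega
  have hn1 : π n ≠ 1 := fun h => hnK (h ▸ one_mem _)
  have hn2 : π n * π n = 1 := perm_three_out _ _ hax3 hax hn1
    (fun h => hnK (h ▸ mem_zpowers _)) (fun h => hnK (h ▸ inv_mem (mem_zpowers _)))
  obtain ⟨hflip, hgen⟩ := perm_three _ _ hax3 hax hn2 hn1
  have hnx : n * (x0 : L) * n⁻¹ = (x0 : L)⁻¹ := by
    have h1 : n * (x0 : L) * n⁻¹ ∈ zpowers (x0 : L) :=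
      hXz.le ((mem_normalizer_iff.1 hn _).1 x0.2)
    obtain ⟨k, hk⟩ := h1
    simp only at hk
    have hk' : π (x0 : L) ^ k = (π (x0 : L))⁻¹ := by
      rw [← map_zpow, hk, map_mul, map_mul, map_inv, hflip]
    rw [← hk, ← zpow_neg_one (x0 : L)]
    rw [← zpow_neg_one] at hk'
    rw [zpow_eq_zpow_iff_modEq] at hk' ⊢
    rwa [orderOf_eq_prime hx03 (by simpa using hx0),
      ← orderOf_eq_prime (p := 3) (show π (x0 : L) ^ 3 = 1 by rw [pow_succ, pow_two, hax3]) hax]
  set t : G := (n : G) with htdef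
  have htL : t ∈ L := n.2
  have htx : t * x * t⁻¹ = x⁻¹ := congrArg Subtype.val hnx
  have hts : Commute t s := (hmemL t).1 htL
  have htsq : t * t = 1 ∨ t * t = s := by
    refine hfix _ ((hmemQ _).2 ⟨n * n, (hπk _).1 (by rw [map_mul, hn2]), rfl⟩) ?_
    have h2 : t * t * x * (t * t)⁻¹ = x := by
      calc t * t * x * (t * t)⁻¹ = t * (t * x * t⁻¹) * t⁻¹ := by group
        _ = t * x⁻¹ * t⁻¹ := by rw [htx]
        _ = (t * x * t⁻¹)⁻¹ := by group
        _ = x := by rw [htx, inv_inv]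
    exact (mul_inv_eq_iff_eq_mul.1 h2).symm
  obtain ⟨i, j, i', j', ⟨hi, hj, hi', hj'⟩, ⟨hi2, hj2, hi'2, hj'2⟩, ⟨hji, hj'i'⟩,
    ⟨c1, c2, c3, c4⟩, ⟨hxi, hxj, hxi', hxj'⟩⟩ := P.exists_factors
  have R0 : QRel s i j i' j' x := ⟨hs2, hi2, hj2, hi'2, hj'2, hji, hj'i', c1, c2, c3, c4,
    P.x_three, hxi, hxj, hxi', hxj'⟩
  set E := evQ s i j i' j' with hE
  have hEQ : ∀ p, E p ∈ Q := R0.evQ_mem hsQ hi hj hi' hj'
  have hEi : Function.Injective E := R0.evQ_inj hs1
  have hEs : ∀ g ∈ Q, ∃ p, E p = g := fun g hg => R0.evQ_surj hs1 hsQ hi hj hi' hj' hQcard hg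
  have hE1 : ∀ c, E (sgn c) = bp s c := R0.evQ_sgn
  have hEm : ∀ p q, E p * E q = E (qmul p q) := R0.evQ_mul
  have hEx : ∀ p, x * E p * x⁻¹ = E (sigQ p) := R0.x_evQ
  have hgi : E gi = i := by simp [hE, evQ, pv, bp, gi]
  have hgi' : E gi' = i' := by simp [hE, evQ, pv, bp, gi']
  obtain ⟨p, hp⟩ := hEs _ (hnQ t htL i hi)
  obtain ⟨q, hq⟩ := hEs _ (hnQ t htL i' hi')
  have hxE : ∀ u, x⁻¹ * E u * x = E (sigQ (sigQ u)) := fun u => by
    rw [← hEx, ← hEx]
    have : x⁻¹ = x * x := inv_eq_of_mul_eq_one_right (by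
      rw [← mul_assoc, ← pow_two, ← pow_succ, P.x_three])
    calc x⁻¹ * E u * x = x⁻¹ * E u * (x⁻¹)⁻¹ := by group
      _ = x * x * E u * (x * x)⁻¹ := by rw [this]
      _ = _ := by group
  have htj : t * j * t⁻¹ = E (sigQ (sigQ p)) := by
    rw [← hxE, hp, ← hxi]
    calc t * (x * i * x⁻¹) * t⁻¹ = (t * x * t⁻¹) * (t * i * t⁻¹) * (t * x * t⁻¹)⁻¹ := by group
      _ = _ := by rw [htx, inv_inv]
  have htj' : t * j' * t⁻¹ = E (sigQ (sigQ q)) := by
    rw [← hxE, hq, ← hxi']
    calc t * (x * i' * x⁻¹) * t⁻¹ = (t * x * t⁻¹) * (t * i' * t⁻¹) * (t * x * t⁻¹)⁻¹ := by group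
      _ = _ := by rw [htx, inv_inv]
  have hqp : ∀ u c, E (qp u c) = bp (E u) c := fun u c => by
    cases c
    · exact hE1 false
    · rfl
  have hT : ∀ u, t * E u * t⁻¹ = E (Tm p q u) := by
    intro u
    simp only [Tm, ← hEm, hqp, hE1, hp, hq, ← htj, ← htj']
    have hb : ∀ (g : G) (c : Bool), bp (t * g * t⁻¹) c = MulAut.conj t (bp g c) := fun g c => by
      cases c <;> simp [bp]
    have hb2 : bp s u.1 = MulAut.conj t (bp s u.1) := by
      rw [← hb, hts.eq, mul_inv_cancel_right]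
    rw [hb, hb, hb, hb, hb2, ← map_mul, ← map_mul, ← map_mul, ← map_mul]
    rfl
  have hroot : ∀ u, E u * E u = s → u ∈ roots := fun u hu => by
    simp only [roots, List.mem_filter, decide_eq_true_eq]
    refine ⟨mem_qs u, hEi ?_⟩
    rw [← hEm, hu, hE1]; rfl
  have hconj2 : ∀ g, g * g = s → t * g * t⁻¹ * (t * g * t⁻¹) = s := fun g hg => by
    rw [show t * g * t⁻¹ * (t * g * t⁻¹) = t * (g * g) * t⁻¹ by group, hg, hts.eq,
      mul_inv_cancel_right]
  obtain ⟨sw, -, a, ha, b, hb, hgood, hTa, hTb⟩ := adjust p (hroot p (by rw [hp]; exact hconj2 i hi2))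
    q (hroot q (by rw [hq]; exact hconj2 i' hi'2))
    (fun u _ => hEi (by
      rw [← hT, ← hT]
      rcases htsq with h | h
      · calc t * (t * E u * t⁻¹) * t⁻¹ = t * t * E u * (t * t)⁻¹ := by group
          _ = E u := by rw [h]; simp
      · calc t * (t * E u * t⁻¹) * t⁻¹ = t * t * E u * (t * t)⁻¹ := by group
          _ = E u := by rw [h, ← (P.s_comm _ (hEQ u)).eq, mul_inv_cancel_right]))
    (fun u _ => hEi (by
      rw [← hT, ← hEx, ← hxE, ← hT]
      have : t * (x * E u * x⁻¹) * t⁻¹ = x⁻¹ * (t * E u * t⁻¹) * x := by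
        calc t * (x * E u * x⁻¹) * t⁻¹ = (t * x * t⁻¹) * (t * E u * t⁻¹) * (t * x * t⁻¹)⁻¹ := by
              group
          _ = _ := by rw [htx, inv_inv]
      exact this))
    (fun u _ v _ => hEi (by rw [← hT, ← hEm, ← hEm, ← hT, ← hT]; group))
  obtain ⟨g1, g2, g3, g4, g5, g6, g7, g8, g9, g10, g11, g12⟩ := hgood
  have hEz : E (sgn true) = s := by rw [hE1]; rfl
  have hcE : ∀ u v, qmul u v = qmul v u → Commute (E u) (E v) := fun u v h => by
    show E u * E v = E v * E u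
    rw [hEm, hEm, h]
  let d : Bool := decide (t * t = s)
  have htt : t * t = bp s d := by
    by_cases h : t * t = s
    · simp [d, h, bp]
    · simp [d, h, bp, htsq.resolve_right h]
  have R : Rel sw d s (E a) (E (sigQ a)) (E b) (E (sigQ b)) x t :=
    { z_sq := hs2
      i_sq := by rw [hEm, g1, hEz]
      j_sq := by rw [hEm, g3, hEz]
      i'_sq := by rw [hEm, g2, hEz]
      j'_sq := by rw [hEm, g4, hEz]
      ji := by rw [← hEz, hEm, hEm, hEm, g5]
      j'i' := by rw [← hEz, hEm, hEm, hEm, g6]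
      ii' := hcE _ _ g7
      ij' := hcE _ _ g8
      ji' := hcE _ _ g9
      jj' := hcE _ _ g10
      x_three := P.x_three
      xi := hEx a
      xj := by rw [hEx, g11, hEm]
      xi' := hEx b
      xj' := by rw [hEx, g12, hEm]
      t_sq := htt
      tx := htx
      ti := by rw [hT, hTa, ← hEm, hEz]; cases sw <;> rfl
      ti' := by rw [hT, hTb, ← hEm, hEz]; cases sw <;> rfl }
  set φ := ev s (E a) (E (sigQ a)) (E b) (E (sigQ b)) x t with hφ
  have hcomm : ∀ m, Commute (φ m) s := fun m => by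
    refine ((hmemL _).1 (hQL ?_)).mul_left ((((hmemL x).1 hxL).pow_left _).mul_left ?_)
    · exact R.toQRel.evQ_mem hsQ (hEQ _) (hEQ _) (hEQ _) (hEQ _) _
    · cases m.2.2
      exacts [Commute.one_left s, hts]
  have hsQ' : ∀ g ∈ Q, ∃ r, φ (r, 0, false) = g := fun g hg => by
    obtain ⟨r, hr⟩ := R.toQRel.evQ_surj hs1 hsQ (hEQ _) (hEQ _) (hEQ _) (hEQ _) hQcard hg
    exact ⟨r, by simpa [hφ, ev, bp] using hr⟩
  have hsurj : ∀ g, Commute g s → ∃ m, φ m = g := by
    intro g hg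
    obtain ⟨k, c, -, hkc⟩ := hgen (π ⟨g, (hmemL g).2 hg⟩)
    set w : L := (x0 : L) ^ (k : ℕ) * bp n c with hw
    have hπw : π w = π ⟨g, (hmemL g).2 hg⟩ := by
      rw [hkc, hw, map_mul, map_pow]
      cases c <;> simp [bp]
    have hmem : (⟨g, (hmemL g).2 hg⟩ : L) * w⁻¹ ∈ pCore 2 L := (hπk _).1 (by
      rw [map_mul, map_inv, hπw, mul_inv_cancel])
    obtain ⟨r, hr⟩ := R.toQRel.evQ_surj hs1 hsQ (hEQ _) (hEQ _) (hEQ _) (hEQ _) hQcard
      ((hmemQ _).2 ⟨_, hmem, rfl⟩)
    refine ⟨(r, k, c), ?_⟩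
    have hwG : (w : G) = x ^ (k : ℕ) * bp t c := by
      rw [hw]; cases c <;> simp [bp, hxdef, htdef]
    simp only [hφ, ev]
    rw [hr, ← hwG, Subgroup.coe_mul, Subgroup.coe_inv, inv_mul_cancel_right]
  let f : M → L := fun m => ⟨φ m, (hmemL _).2 (hcomm m)⟩
  have hf : Function.Bijective f := by
    refine Function.Surjective.bijective_of_nat_card_le (fun g => ?_) ?_
    · obtain ⟨m, hm⟩ := hsurj g ((hmemL _).1 g.2)
      exact ⟨m, Subtype.ext hm⟩
    · rw [hcardL, Nat.card_eq_fintype_card]; rfl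
  refine ⟨sw, d, ⟨φ, hcomm, hsurj, ?_, R.ev_mul, ?_⟩, hsQ'⟩
  · exact fun m m' h => hf.1 (Subtype.ext h)
  · rw [hφ, ev, show cs.1 = sgn true from rfl, R.toQRel.evQ_sgn]
    simp [bp, cs]

end Cfsg.Agent.SymThirtyTwo
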