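import Cfsg.Agent.Lib.SymThirtyTwo.EightData
import Cfsg.Agent.Lib.SymThirtyTwo.Frame

/-
The presented group is the alternating group of degree eight (helper22).

* `Sat el` : five elements with inverses satisfy the relators
* `Sat.exists_hom` : they are images of a homomorphism from the alternating group
-/

set_option autoImplicit false
set_option synthInstance.maxSize 4096
set_option maxRecDepth 100000

namespace Cfsg.Agent.SymThirtyTwo

/-- Letters of five elements. -/
def elOf {G : Type*} [Group G] (g : Fin 5 → G) (a : ℕ) : G :=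
  if a % 2 = 0 then g (Fin.ofNat 5 (a / 2)) else (g (Fin.ofNat 5 (a / 2)))⁻¹

/-- The value of a word. -/
def wval {G : Type*} [Group G] (g : Fin 5 → G) (w : List ℕ) : G := (w.map (elOf g)).prod

def wInv (w : List ℕ) : List ℕ := w.reverse.map fun a => if a % 2 = 0 then a + 1 else a - 1

def wi : List ℕ := [0]
def wj : List ℕ := [4, 0, 5]
def wi' : List ℕ := [2]
def wj' : List ℕ := [4, 2, 5]
def wz : List ℕ := [0, 0]

def wcomm (u v : List ℕ) : List ℕ := u ++ v ++ wInv (v ++ u)

/-- The relations of a model as relators. -/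
def relWords : List (List ℕ) :=
  [[0, 0, 0, 0], wj ++ wj ++ wInv wz, wi' ++ wi' ++ wInv wz, wj' ++ wj' ++ wInv wz,
    wj ++ wi ++ wInv (wi ++ wj ++ wz), wj' ++ wi' ++ wInv (wi' ++ wj' ++ wz),
    wcomm wi wi', wcomm wi wj', wcomm wj wi', wcomm wj wj', [4, 4, 4],
    4 :: wj ++ 5 :: wInv (wi ++ wj), 4 :: wj' ++ 5 :: wInv (wi' ++ wj'), [6, 6], [6, 4, 7, 4],
    6 :: wi ++ 7 :: wInv (wz ++ wi'), 6 :: wi' ++ 7 :: wInv (wz ++ wi)]

def eightBase : List (List ℕ) := relWords ++ eightInner ++ eightOuter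

/-- The relators hold. -/
def Sat {G : Type*} [Group G] (g : Fin 5 → G) : Prop := ∀ w ∈ eightBase, wval g w = 1

theorem wval_append {G : Type*} [Group G] (g : Fin 5 → G) (u v : List ℕ) :
    wval g (u ++ v) = wval g u * wval g v := by simp [wval]

theorem wval_wInv {G : Type*} [Group G] (g : Fin 5 → G) (w : List ℕ) :
    wval g (wInv w) = (wval g w)⁻¹ := by
  induction w with
  | nil => simp [wval, wInv]
  | cons a w ih =>
    have e : wInv (a :: w) = wInv w ++ [if a % 2 = 0 then a + 1 else a - 1] := by simp [wInv]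
    rw [e, wval_append, ih, show wval g (a :: w) = elOf g a * wval g w from rfl, mul_inv_rev]
    congr 1
    obtain ⟨b, rfl | rfl⟩ := Nat.even_or_odd' a <;>
      simp [wval, elOf, Nat.add_mod, Nat.mul_add_div]

theorem map_wval {G H : Type*} [Group G] [Group H] (f : G →* H) (g : Fin 5 → G) (w : List ℕ) :
    f (wval g w) = wval (fun b => f (g b)) w := by
  induction w with
  | nil => exact map_one f
  | cons a w ih =>
    show f (elOf g a * wval g w) = elOf (fun b => f (g b)) a * wval (fun b => f (g b)) w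
    rw [map_mul, ih]
    congr 1
    simp only [elOf]
    split <;> simp

theorem Sat.rel {G : Type*} [Group G] {g : Fin 5 → G} (h : Sat g) :
    Rel true false (wval g wz) (wval g wi) (wval g wj) (wval g wi') (wval g wj') (g 2) (g 3) := by
  have hm : ∀ w, w ∈ relWords → wval g w = 1 := fun w hw =>
    h w (List.mem_append_left _ (List.mem_append_left _ hw))
  have hx : wval g [4] = g 2 := by simp [wval, elOf]
  have hx' : wval g [5] = (g 2)⁻¹ := by simp [wval, elOf]
  have ht : wval g [6] = g 3 := by simp [wval, elOf]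
  have ht' : wval g [7] = (g 3)⁻¹ := by simp [wval, elOf]
  have hsplit : ∀ u v, wval g (u ++ wInv v) = 1 → wval g u = wval g v := fun u v e => by
    rw [wval_append, wval_wInv] at e
    exact mul_inv_eq_one.1 e
  have hc : ∀ u v, wcomm u v ∈ relWords → Commute (wval g u) (wval g v) := fun u v hw => by
    have := hsplit _ _ (hm _ hw)
    show wval g u * wval g v = wval g v * wval g u
    simpa [wval_append] using this
  have hcj : ∀ (a : ℕ) (u : List ℕ) (v : List ℕ), (a :: u ++ (a + 1) :: wInv v) ∈ relWords →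
      wval g [a] * wval g u * wval g [a + 1] = wval g v := fun a u v hw => by
    have e : a :: u ++ (a + 1) :: wInv v = ([a] ++ u ++ [a + 1]) ++ wInv v := by simp
    rw [e] at hw
    rw [← hsplit _ _ (hm _ hw), wval_append, wval_append]
  have hj : wval g wj = g 2 * wval g wi * (g 2)⁻¹ := by
    rw [show wj = [4] ++ wi ++ [5] from rfl, wval_append, wval_append, hx, hx']
  have hj' : wval g wj' = g 2 * wval g wi' * (g 2)⁻¹ := by
    rw [show wj' = [4] ++ wi' ++ [5] from rfl, wval_append, wval_append, hx, hx']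
  refine
    { z_sq := ?_, i_sq := ?_, j_sq := ?_, i'_sq := ?_, j'_sq := ?_, ji := ?_, j'i' := ?_
      ii' := hc _ _ (by simp [relWords]), ij' := hc _ _ (by simp [relWords])
      ji' := hc _ _ (by simp [relWords]), jj' := hc _ _ (by simp [relWords])
      x_three := ?_, xi := hj.symm, xj := ?_, xi' := hj'.symm, xj' := ?_
      t_sq := ?_, tx := ?_, ti := ?_, ti' := ?_ }
  · rw [← wval_append]; exact hm _ (by simp [relWords, wz])
  · rw [← wval_append]; rfl
  · rw [← wval_append]; exact hsplit _ _ (hm _ (by simp [relWords]))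
  · rw [← wval_append]; exact hsplit _ _ (hm _ (by simp [relWords]))
  · rw [← wval_append]; exact hsplit _ _ (hm _ (by simp [relWords]))
  · rw [← wval_append, ← wval_append, ← wval_append]; exact hsplit _ _ (hm _ (by simp [relWords]))
  · rw [← wval_append, ← wval_append, ← wval_append]; exact hsplit _ _ (hm _ (by simp [relWords]))
  · have := hm [4, 4, 4] (by simp [relWords])
    simpa [wval, elOf, pow_succ, mul_assoc] using this
  · rw [← wval_append, ← hx, ← wval_wInv g [4], show wInv [4] = [5] from rfl]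
    exact hcj 4 wj _ (by simp [relWords])
  · rw [← wval_append, ← hx, ← wval_wInv g [4], show wInv [4] = [5] from rfl]
    exact hcj 4 wj' _ (by simp [relWords])
  · have := hm [6, 6] (by simp [relWords])
    simpa [wval, elOf, bp] using this
  · have := hm [6, 4, 7, 4] (by simp [relWords])
    refine eq_inv_of_mul_eq_one_left ?_
    simpa [wval, elOf, mul_assoc] using this
  · rw [if_pos rfl, ← wval_append, ← ht, ← wval_wInv g [6], show wInv [6] = [7] from rfl]
    exact hcj 6 wi _ (by simp [relWords])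
  · rw [if_pos rfl, ← wval_append, ← ht, ← wval_wInv g [6], show wInv [6] = [7] from rfl]
    exact hcj 6 wi' _ (by simp [relWords])

def wordLetters (w : List ℕ) : List (Fin 5 × Bool) :=
  w.map fun a => (Fin.ofNat 5 (a / 2), a % 2 == 0)

theorem lift_wordLetters {G : Type*} [Group G] (g : Fin 5 → G) (w : List ℕ) :
    FreeGroup.lift g (FreeGroup.mk (wordLetters w)) = wval g w := by
  rw [FreeGroup.lift_mk]
  simp only [wordLetters, wval, List.map_map]
  congr 1
  refine List.map_congr_left fun a _ => ?_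
  rcases Nat.mod_two_eq_zero_or_one a with h | h <;> simp [Function.comp_def, elOf, h]

def presRels : Set (FreeGroup (Fin 5)) := {r | r ∈ eightBase.map fun w => FreeGroup.mk (wordLetters w)}

/-- The presented group. -/
abbrev EightPres : Type := PresentedGroup presRels

def pgen (b : Fin 5) : EightPres := PresentedGroup.of b

theorem sat_pgen : Sat pgen := by
  intro w hw
  rw [← lift_wordLetters]
  have h := PresentedGroup.one_of_mem (rels := presRels) (x := FreeGroup.mk (wordLetters w))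
    (List.mem_map.2 ⟨w, hw, rfl⟩)
  have e : FreeGroup.lift pgen = PresentedGroup.mk presRels := by
    ext b; simp [pgen, PresentedGroup.of]
  rw [e]
  exact h

/-- Each relator used by the trace is a rearrangement of a basic one. -/
def variantOK (v : List ℕ) : Bool :=
  v == [] || (List.range 10).any (fun a => v == [a, if a % 2 = 0 then a + 1 else a - 1]) ||
    eightBase.any fun b => b.length == v.length && (List.range b.length).any fun n =>
      v == b.rotate n || v == (wInv b).rotate n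

theorem variants_ok : (eightVariants.all variantOK) = true := by decide +kernel

theorem wval_rotate {G : Type*} [Group G] (g : Fin 5 → G) (w : List ℕ) (n : ℕ) (h : wval g w = 1) :
    wval g (w.rotate n) = 1 := by
  rw [List.rotate_eq_drop_append_take_mod, wval_append]
  rw [← List.take_append_drop (n % w.length) w, wval_append] at h
  exact eq_inv_of_mul_eq_one_right h ▸ inv_mul_cancel _

theorem variant_sound {G : Type*} [Group G] {g : Fin 5 → G} (h : Sat g) {v : List ℕ}
    (hv : v ∈ eightVariants) : wval g v = 1 := by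
  have hv' := List.all_eq_true.1 variants_ok v hv
  simp only [variantOK, Bool.or_eq_true, List.any_eq_true, Bool.and_eq_true, beq_iff_eq,
    List.mem_range] at hv'
  rcases hv' with (rfl | ⟨a, -, rfl⟩) | ⟨b, hb, -, n, -, rfl | rfl⟩
  · rfl
  · obtain ⟨c, rfl | rfl⟩ := Nat.even_or_odd' a <;>
      simp [wval, elOf, Nat.add_mod, Nat.mul_add_div]
  · exact wval_rotate g b n (h b hb)
  · exact wval_rotate g _ n (by rw [wval_wInv, h b hb, inv_one])

theorem trace_evw {G : Type*} [Group G] (g : Fin 5 → G) {w : List ℕ} (hw : ∀ a ∈ w, a < 10) :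
    eightTrace.evw (elOf g) w = wval g w := by
  simp only [Trace.evw, wval]
  congr 1
  exact List.map_congr_left fun a ha => by
    simp only [Trace.elv, if_pos (show a < eightTrace.k from hw a ha)]

theorem variants_lt : (eightVariants.all fun v => v.all fun a => decide (a < 10)) = true := by
  decide +kernel

/-- The presented group has order at most 20160. -/
theorem card_eightPres : Finite EightPres ∧ Nat.card EightPres ≤ 20160 := by
  classical
  have R := sat_pgen.rel
  set f := ev (wval pgen wz) (wval pgen wi) (wval pgen wj) (wval pgen wi') (wval pgen wj')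
    (pgen 2) (pgen 3) with hf
  have hinv : ∀ m, ∃ m', f m * f m' = 1 := fun m => by
    have key : ∀ m ∈ all, ∃ m' ∈ all, mm true false m m' = oneM := by decide +kernel
    obtain ⟨m', -, e⟩ := key m (mem_all m)
    refine ⟨m', ?_⟩
    rw [hf, R.ev_mul, e]
    simp [ev, evQ, pv, bp, oneM, sgn]
  let L : Subgroup EightPres :=
    { carrier := Set.range f
      mul_mem' := by rintro _ _ ⟨a, rfl⟩ ⟨b, rfl⟩; exact ⟨_, (R.ev_mul a b).symm⟩
      one_mem' := ⟨oneM, by simp [hf, ev, evQ, pv, bp, oneM, sgn]⟩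
      inv_mem' := by
        rintro _ ⟨a, rfl⟩
        obtain ⟨m', hm'⟩ := hinv a
        exact ⟨m', eq_inv_of_mul_eq_one_right hm'⟩ }
  haveI : Finite L := Finite.of_surjective (fun m : M => (⟨f m, m, rfl⟩ : L))
    fun ⟨g, m, e⟩ => ⟨m, Subtype.ext e⟩
  have hL : Nat.card L ≤ 192 := by
    refine (Nat.card_le_card_of_surjective (fun m : M => (⟨f m, m, rfl⟩ : L))
      fun ⟨g, m, e⟩ => ⟨m, Subtype.ext e⟩).trans ?_
    rw [Nat.card_eq_fintype_card]; rfl
  have hbase : ∀ b : Fin 5, b ≠ 4 → pgen b ∈ L := by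
    intro b hb
    fin_cases b
    · exact ⟨((false, (true, false), (false, false)), 0, false),
        by simp [hf, ev, evQ, pv, bp, wval, elOf, wi]⟩
    · exact ⟨((false, (false, false), (true, false)), 0, false),
        by simp [hf, ev, evQ, pv, bp, wval, elOf, wi']; rfl⟩
    · exact ⟨(sgn false, 1, false), by simp [hf, ev, evQ, pv, bp, sgn]⟩
    · exact ⟨(sgn false, 0, true), by simp [hf, ev, evQ, pv, bp, sgn]⟩
    · exact absurd rfl hb
  have hel : ∀ a < 8, elOf pgen a ∈ L := fun a ha => by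
    have hb : Fin.ofNat 5 (a / 2) ≠ (4 : Fin 5) := by
      intro e
      have := congrArg Fin.val e
      simp only [Fin.ofNat, Fin.val_ofNat] at this
      omega
    simp only [elOf]
    split
    exacts [hbase _ hb, L.inv_mem (hbase _ hb)]
  set Gc := Subgroup.closure {g : EightPres | ∃ a < 10, elOf pgen a = g}
  have htop : Gc = ⊤ := by
    refine eq_top_iff.2 ?_
    rw [← PresentedGroup.closure_range_of presRels, Subgroup.closure_le]
    rintro _ ⟨b, rfl⟩
    refine Subgroup.subset_closure ⟨2 * (b : ℕ), by omega, ?_⟩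
    simp [elOf, pgen]
  obtain ⟨hfin, hle⟩ := Trace.index_le (D := eightTrace) (el := elOf pgen) (L := L) eightTrace_check
    (fun a _ => by simp [elOf, Nat.add_mod, Nat.mul_add_div])
    (fun r hr => by
      rw [trace_evw pgen fun a ha => of_decide_eq_true
        (List.all_eq_true.1 (List.all_eq_true.1 variants_lt r hr) a ha)]
      exact variant_sound sat_pgen hr)
    (fun r hr => by
      obtain ⟨a, ha, rfl⟩ := List.mem_map.1 hr
      rw [List.mem_range] at ha
      rw [trace_evw pgen fun b hb => by simp at hb; omega]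
      simpa [wval] using hel a ha)
    rfl (by rw [show eightTrace.k = 10 from rfl]; exact le_top.trans htop.ge)
  rw [show eightTrace.k = 10 from rfl] at hfin hle
  change (Gc : Set EightPres).Finite at hfin
  change Nat.card Gc ≤ _ at hle
  rw [htop] at hfin hle
  haveI : Finite EightPres := Set.finite_univ_iff.1 (by simpa using hfin)
  refine ⟨inferInstance, ?_⟩
  rw [Subgroup.card_top, show eightTrace.live.length = 105 from by decide +kernel] at hle
  exact hle.trans ((Nat.mul_le_mul_right 105 hL).trans (by norm_num))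

def pmk {n : ℕ} (f g : Fin n → Fin n) (h₁ : ∀ a, g (f a) = a) (h₂ : ∀ a, f (g a) = a) :
    Equiv.Perm (Fin n) := ⟨f, g, h₁, h₂⟩

/-- The five permutations. -/
def perm8 : Fin 5 → Equiv.Perm (Fin 8) :=
  ![pmk ![7, 6, 5, 4, 2, 3, 0, 1] ![6, 7, 4, 5, 3, 2, 1, 0] (by decide) (by decide),
    pmk ![4, 5, 6, 7, 1, 0, 3, 2] ![5, 4, 7, 6, 0, 1, 2, 3] (by decide) (by decide),
    pmk ![4, 5, 2, 3, 6, 7, 0, 1] ![6, 7, 2, 3, 0, 1, 4, 5] (by decide) (by decide),
    pmk ![1, 0, 3, 2, 7, 6, 5, 4] ![1, 0, 3, 2, 7, 6, 5, 4] (by decide) (by decide),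
    pmk ![1, 2, 0, 3, 4, 5, 6, 7] ![2, 0, 1, 3, 4, 5, 6, 7] (by decide) (by decide)]

/-- A permutation as a list. -/
def img8 (p : Equiv.Perm (Fin 8)) : List (Fin 8) := (List.finRange 8).map p

theorem img8_inj : Function.Injective img8 := fun p q h => Equiv.ext fun a => by
  have := congrArg (fun l => l.getD (a : ℕ) 0) h
  simpa [img8] using this

theorem sat_check : (eightBase.all fun w => img8 (wval perm8 w) == List.finRange 8) = true := by
  decide +kernel

theorem sat_perm8 : Sat perm8 := fun w hw => img8_inj (by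
  rw [beq_iff_eq.1 (List.all_eq_true.1 sat_check w hw)]
  decide +kernel)

/-- Words of representatives of the cosets of the centraliser. -/
def eightReps : List (List ℕ) := [
  [],
  [8],
  [9],
  [8, 0],
  [8, 4],
  [8, 5],
  [9, 0],
  [9, 4],
  [9, 5],
  [8, 0, 4],
  [8, 0, 5],
  [8, 0, 8],
  [8, 0, 9],
  [8, 4, 0],
  [8, 4, 8],
  [8, 4, 9],
  [8, 5, 2],
  [8, 5, 8],
  [8, 5, 9],
  [9, 0, 8],
  [9, 0, 9],
  [9, 4, 8],
  [9, 4, 9],
  [9, 5, 8],
  [9, 5, 9],
  [8, 0, 4, 8],
  [8, 0, 4, 9],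
  [8, 0, 5, 8],
  [8, 0, 5, 9],
  [8, 0, 8, 4],
  [8, 0, 8, 5],
  [8, 0, 9, 4],
  [8, 0, 9, 5],
  [8, 4, 0, 8],
  [8, 4, 0, 9],
  [8, 4, 8, 0],
  [8, 4, 8, 1],
  [8, 4, 8, 2],
  [8, 4, 8, 3],
  [8, 4, 8, 4],
  [8, 4, 9, 0],
  [8, 4, 9, 1],
  [8, 4, 9, 2],
  [8, 4, 9, 3],
  [8, 5, 2, 8],
  [8, 5, 2, 9],
  [8, 5, 8, 0],
  [8, 5, 8, 1],
  [8, 5, 8, 2],
  [8, 5, 8, 3],
  [8, 5, 8, 5],
  [9, 0, 8, 4],
  [9, 0, 8, 5],
  [9, 0, 9, 4],
  [9, 0, 9, 5],
  [9, 4, 9, 0],
  [9, 4, 9, 1],
  [8, 0, 8, 4, 8],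
  [8, 0, 8, 4, 9],
  [8, 0, 8, 5, 8],
  [8, 0, 8, 5, 9],
  [8, 0, 9, 4, 8],
  [8, 0, 9, 4, 9],
  [8, 0, 9, 5, 8],
  [8, 0, 9, 5, 9],
  [8, 4, 8, 0, 8],
  [8, 4, 8, 0, 9],
  [8, 4, 8, 1, 8],
  [8, 4, 8, 1, 9],
  [8, 4, 8, 2, 8],
  [8, 4, 8, 2, 9],
  [8, 4, 8, 3, 8],
  [8, 4, 8, 3, 9],
  [8, 4, 8, 4, 8],
  [8, 4, 8, 4, 9],
  [8, 4, 9, 0, 8],
  [8, 4, 9, 0, 9],
  [8, 4, 9, 1, 8],
  [8, 4, 9, 1, 9],
  [8, 4, 9, 2, 8],
  [8, 4, 9, 2, 9],
  [8, 4, 9, 3, 8],
  [8, 4, 9, 3, 9],
  [8, 5, 8, 0, 8],
  [8, 5, 8, 0, 9],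
  [8, 5, 8, 1, 8],
  [8, 5, 8, 1, 9],
  [8, 5, 8, 2, 8],
  [8, 5, 8, 2, 9],
  [8, 5, 8, 3, 8],
  [8, 5, 8, 3, 9],
  [8, 5, 8, 5, 8],
  [8, 5, 8, 5, 9],
  [9, 0, 8, 4, 8],
  [9, 0, 8, 4, 9],
  [9, 0, 8, 5, 8],
  [9, 0, 8, 5, 9],
  [9, 0, 9, 4, 8],
  [9, 0, 9, 4, 9],
  [9, 0, 9, 5, 8],
  [9, 0, 9, 5, 9],
  [9, 4, 9, 0, 8],
  [9, 4, 9, 0, 9],
  [9, 4, 9, 1, 8],
  [9, 4, 9, 1, 9]]

/-- The image of an element of the model. -/
def mperm (m : M) : Equiv.Perm (Fin 8) :=
  ev (wval perm8 wz) (wval perm8 wi) (wval perm8 wj) (wval perm8 wi') (wval perm8 wj') (perm8 2)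
    (perm8 3) m

theorem mperm_check : (all.map fun m => img8 (mperm m)).Nodup ∧
    (all.all fun m => img8 (mperm m * wval perm8 wz) == img8 (wval perm8 wz * mperm m)) = true := by
  decide +kernel

theorem reps_check : (eightReps.map fun w =>
    img8 ((wval perm8 w)⁻¹ * wval perm8 wz * wval perm8 w)).Nodup ∧ eightReps.length = 105 := by
  decide +kernel

theorem sign_perm8 : ∀ b, Equiv.Perm.sign (perm8 b) = 1 := by decide +kernel

/-- The presented group maps isomorphically to the alternating group. -/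
theorem exists_equiv : ∃ e : EightPres ≃* alternatingGroup (Fin 8),
    ∀ b, ((e (pgen b) : alternatingGroup (Fin 8)) : Equiv.Perm (Fin 8)) = perm8 b := by
  classical
  obtain ⟨hfin, hcard⟩ := card_eightPres
  have hrels : ∀ r ∈ presRels, FreeGroup.lift perm8 r = 1 := by
    rintro _ hr
    obtain ⟨w, hw, rfl⟩ := List.mem_map.1 hr
    rw [lift_wordLetters]; exact sat_perm8 w hw
  set φ : EightPres →* Equiv.Perm (Fin 8) := PresentedGroup.toGroup hrels with hφ
  have hgen : ∀ b, φ (pgen b) = perm8 b := fun b => PresentedGroup.toGroup.of hrels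
  have hle : φ.range ≤ alternatingGroup (Fin 8) := by
    rw [MonoidHom.range_eq_map, ← PresentedGroup.closure_range_of presRels, MonoidHom.map_closure,
      Subgroup.closure_le]
    rintro _ ⟨_, ⟨b, rfl⟩, rfl⟩
    show φ (pgen b) ∈ alternatingGroup (Fin 8)
    rw [hgen, Equiv.Perm.mem_alternatingGroup]
    exact sign_perm8 b
  have hA : Nat.card (alternatingGroup (Fin 8)) = 20160 := by
    rw [nat_card_alternatingGroup, Nat.card_fin]; rfl
  have hw : ∀ w, wval perm8 w ∈ φ.range := fun w =>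
    ⟨wval pgen w, by rw [map_wval]; simp only [hgen]⟩
  have hm : ∀ m, mperm m ∈ φ.range := fun m => by
    have hb : ∀ (u : Equiv.Perm (Fin 8)) (c : Bool), u ∈ φ.range → bp u c ∈ φ.range := by
      intro u c hu; cases c <;> simp [bp, hu, one_mem]
    refine mul_mem (mul_mem (hb _ _ (hw _))
      (mul_mem (mul_mem (hb _ _ (hw _)) (hb _ _ (hw _))) (mul_mem (hb _ _ (hw _)) (hb _ _ (hw _)))))
      (mul_mem (pow_mem (MonoidHom.mem_range.2 ⟨pgen 2, hgen 2⟩) _)
        (hb _ _ (MonoidHom.mem_range.2 ⟨pgen 3, hgen 3⟩)))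
  let f : M × Fin eightReps.length → φ.range := fun p =>
    ⟨mperm p.1 * wval perm8 eightReps[p.2.1], mul_mem (hm _) (hw _)⟩
  have hf : Function.Injective f := by
    rintro ⟨m, c⟩ ⟨m', c'⟩ h
    have h' : mperm m * wval perm8 eightReps[c.1] = mperm m' * wval perm8 eightReps[c'.1] :=
      congrArg Subtype.val h
    have hz : ∀ m, mperm m * wval perm8 wz = wval perm8 wz * mperm m := fun m => img8_inj
      (beq_iff_eq.1 (List.all_eq_true.1 mperm_check.2 m (mem_all m)))
    have hconj : ∀ m w, (mperm m * w)⁻¹ * wval perm8 wz * (mperm m * w) =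
        w⁻¹ * wval perm8 wz * w := fun m w => by
      calc (mperm m * w)⁻¹ * wval perm8 wz * (mperm m * w)
          = w⁻¹ * ((mperm m)⁻¹ * (wval perm8 wz * mperm m)) * w := by group
        _ = _ := by rw [← hz, inv_mul_cancel_left]
    have e : c = c' := by
      have h2 := congrArg (fun p => p⁻¹ * wval perm8 wz * p) h'
      simp only [hconj] at h2
      refine Fin.ext ?_
      have hnd := reps_check.1
      refine (List.Nodup.getElem_inj_iff hnd (hi := by simp) (hj := by simp)).1 ?_
      rw [List.getElem_map, List.getElem_map, h2]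
    subst e
    have hmm : mperm m = mperm m' := mul_right_cancel h'
    rw [List.inj_on_of_nodup_map mperm_check.1 (mem_all m) (mem_all m') (congrArg img8 hmm)]
  have hrange : φ.range = alternatingGroup (Fin 8) := by
    refine Subgroup.eq_of_le_of_card_ge hle ?_
    refine le_trans ?_ (Nat.card_le_card_of_injective f hf)
    rw [hA, Nat.card_prod, Nat.card_fin, reps_check.2, Nat.card_eq_fintype_card]
    exact le_of_eq rfl
  set ψ : EightPres →* alternatingGroup (Fin 8) :=
    φ.codRestrict _ (fun p => hle ⟨p, rfl⟩) with hψ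
  have hsurj : Function.Surjective ψ := fun a => by
    obtain ⟨p, hp⟩ := (hrange.ge a.2 : (a : Equiv.Perm (Fin 8)) ∈ φ.range)
    exact ⟨p, Subtype.ext hp⟩
  refine ⟨MulEquiv.ofBijective ψ (hsurj.bijective_of_nat_card_le ?_), fun b => hgen b⟩
  rw [hA]; exact hcard

/-- Elements satisfying the relators are images of a homomorphism from the alternating group. -/
theorem Sat.exists_hom {G : Type*} [Group G] {g : Fin 5 → G} (h : Sat g) :
    ∃ ψ : alternatingGroup (Fin 8) →* G, ∀ b, ∃ a : alternatingGroup (Fin 8),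
      (a : Equiv.Perm (Fin 8)) = perm8 b ∧ ψ a = g b := by
  obtain ⟨e, he⟩ := exists_equiv
  have hrels : ∀ r ∈ presRels, FreeGroup.lift g r = 1 := by
    rintro _ hr
    obtain ⟨w, hw, rfl⟩ := List.mem_map.1 hr
    rw [lift_wordLetters]; exact h w hw
  refine ⟨(PresentedGroup.toGroup hrels).comp e.symm.toMonoidHom, fun b => ⟨e (pgen b), he b, ?_⟩⟩
  simp only [MonoidHom.comp_apply, MulEquiv.coe_toMonoidHom, MulEquiv.symm_apply_apply]
  exact PresentedGroup.toGroup.of hrels

end Cfsg.Agent.SymThirtyTwo
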