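/-
Generated data: the images of the centralisers of an involution with two transpositions in the
alternating groups of degree eight and nine (helper22).
-/
import Cfsg.Agent.EqLemmas

set_option autoImplicit false

namespace Cfsg.Agent.SymThirtyTwo

def cent8List : List (List (Fin 9)) := [
  [0, 1, 2, 3, 4, 5, 6, 7, 8],
  [1, 0, 2, 3, 5, 4, 6, 7, 8],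
  [1, 0, 2, 3, 4, 5, 7, 6, 8],
  [0, 1, 2, 3, 5, 4, 7, 6, 8],
  [0, 1, 2, 3, 6, 7, 4, 5, 8],
  [1, 0, 2, 3, 6, 7, 5, 4, 8],
  [1, 0, 2, 3, 7, 6, 4, 5, 8],
  [0, 1, 2, 3, 7, 6, 5, 4, 8],
  [1, 2, 0, 3, 4, 5, 6, 7, 8],
  [2, 1, 0, 3, 5, 4, 6, 7, 8],
  [2, 1, 0, 3, 4, 5, 7, 6, 8],
  [1, 2, 0, 3, 5, 4, 7, 6, 8],
  [1, 2, 0, 3, 6, 7, 4, 5, 8],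
  [2, 1, 0, 3, 6, 7, 5, 4, 8],
  [2, 1, 0, 3, 7, 6, 4, 5, 8],
  [1, 2, 0, 3, 7, 6, 5, 4, 8],
  [2, 0, 1, 3, 4, 5, 6, 7, 8],
  [0, 2, 1, 3, 5, 4, 6, 7, 8],
  [0, 2, 1, 3, 4, 5, 7, 6, 8],
  [2, 0, 1, 3, 5, 4, 7, 6, 8],
  [2, 0, 1, 3, 6, 7, 4, 5, 8],
  [0, 2, 1, 3, 6, 7, 5, 4, 8],
  [0, 2, 1, 3, 7, 6, 4, 5, 8],
  [2, 0, 1, 3, 7, 6, 5, 4, 8],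
  [1, 0, 3, 2, 4, 5, 6, 7, 8],
  [0, 1, 3, 2, 5, 4, 6, 7, 8],
  [0, 1, 3, 2, 4, 5, 7, 6, 8],
  [1, 0, 3, 2, 5, 4, 7, 6, 8],
  [1, 0, 3, 2, 6, 7, 4, 5, 8],
  [0, 1, 3, 2, 6, 7, 5, 4, 8],
  [0, 1, 3, 2, 7, 6, 4, 5, 8],
  [1, 0, 3, 2, 7, 6, 5, 4, 8],
  [0, 3, 1, 2, 4, 5, 6, 7, 8],
  [3, 0, 1, 2, 5, 4, 6, 7, 8],
  [3, 0, 1, 2, 4, 5, 7, 6, 8],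
  [0, 3, 1, 2, 5, 4, 7, 6, 8],
  [0, 3, 1, 2, 6, 7, 4, 5, 8],
  [3, 0, 1, 2, 6, 7, 5, 4, 8],
  [3, 0, 1, 2, 7, 6, 4, 5, 8],
  [0, 3, 1, 2, 7, 6, 5, 4, 8],
  [3, 1, 0, 2, 4, 5, 6, 7, 8],
  [1, 3, 0, 2, 5, 4, 6, 7, 8],
  [1, 3, 0, 2, 4, 5, 7, 6, 8],
  [3, 1, 0, 2, 5, 4, 7, 6, 8],
  [3, 1, 0, 2, 6, 7, 4, 5, 8],
  [1, 3, 0, 2, 6, 7, 5, 4, 8],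
  [1, 3, 0, 2, 7, 6, 4, 5, 8],
  [3, 1, 0, 2, 7, 6, 5, 4, 8],
  [3, 2, 1, 0, 4, 5, 6, 7, 8],
  [2, 3, 1, 0, 5, 4, 6, 7, 8],
  [2, 3, 1, 0, 4, 5, 7, 6, 8],
  [3, 2, 1, 0, 5, 4, 7, 6, 8],
  [3, 2, 1, 0, 6, 7, 4, 5, 8],
  [2, 3, 1, 0, 6, 7, 5, 4, 8],
  [2, 3, 1, 0, 7, 6, 4, 5, 8],
  [3, 2, 1, 0, 7, 6, 5, 4, 8],
  [2, 1, 3, 0, 4, 5, 6, 7, 8],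
  [1, 2, 3, 0, 5, 4, 6, 7, 8],
  [1, 2, 3, 0, 4, 5, 7, 6, 8],
  [2, 1, 3, 0, 5, 4, 7, 6, 8],
  [2, 1, 3, 0, 6, 7, 4, 5, 8],
  [1, 2, 3, 0, 6, 7, 5, 4, 8],
  [1, 2, 3, 0, 7, 6, 4, 5, 8],
  [2, 1, 3, 0, 7, 6, 5, 4, 8],
  [1, 3, 2, 0, 4, 5, 6, 7, 8],
  [3, 1, 2, 0, 5, 4, 6, 7, 8],
  [3, 1, 2, 0, 4, 5, 7, 6, 8],
  [1, 3, 2, 0, 5, 4, 7, 6, 8],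
  [1, 3, 2, 0, 6, 7, 4, 5, 8],
  [3, 1, 2, 0, 6, 7, 5, 4, 8],
  [3, 1, 2, 0, 7, 6, 4, 5, 8],
  [1, 3, 2, 0, 7, 6, 5, 4, 8],
  [2, 3, 0, 1, 4, 5, 6, 7, 8],
  [3, 2, 0, 1, 5, 4, 6, 7, 8],
  [3, 2, 0, 1, 4, 5, 7, 6, 8],
  [2, 3, 0, 1, 5, 4, 7, 6, 8],
  [2, 3, 0, 1, 6, 7, 4, 5, 8],
  [3, 2, 0, 1, 6, 7, 5, 4, 8],
  [3, 2, 0, 1, 7, 6, 4, 5, 8],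
  [2, 3, 0, 1, 7, 6, 5, 4, 8],
  [3, 0, 2, 1, 4, 5, 6, 7, 8],
  [0, 3, 2, 1, 5, 4, 6, 7, 8],
  [0, 3, 2, 1, 4, 5, 7, 6, 8],
  [3, 0, 2, 1, 5, 4, 7, 6, 8],
  [3, 0, 2, 1, 6, 7, 4, 5, 8],
  [0, 3, 2, 1, 6, 7, 5, 4, 8],
  [0, 3, 2, 1, 7, 6, 4, 5, 8],
  [3, 0, 2, 1, 7, 6, 5, 4, 8],
  [0, 2, 3, 1, 4, 5, 6, 7, 8],
  [2, 0, 3, 1, 5, 4, 6, 7, 8],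
  [2, 0, 3, 1, 4, 5, 7, 6, 8],
  [0, 2, 3, 1, 5, 4, 7, 6, 8],
  [0, 2, 3, 1, 6, 7, 4, 5, 8],
  [2, 0, 3, 1, 6, 7, 5, 4, 8],
  [2, 0, 3, 1, 7, 6, 4, 5, 8],
  [0, 2, 3, 1, 7, 6, 5, 4, 8]]

def evens9 : List (List (Fin 9)) := [
  [0, 1, 2, 3, 4, 5, 6, 7, 8],
  [1, 8, 2, 3, 4, 5, 6, 7, 0],
  [8, 0, 2, 3, 4, 5, 6, 7, 1],
  [2, 8, 0, 3, 4, 5, 6, 7, 1],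
  [1, 2, 0, 3, 4, 5, 6, 7, 8],
  [8, 1, 0, 3, 4, 5, 6, 7, 2],
  [2, 0, 1, 3, 4, 5, 6, 7, 8],
  [0, 8, 1, 3, 4, 5, 6, 7, 2],
  [8, 2, 1, 3, 4, 5, 6, 7, 0],
  [2, 1, 8, 3, 4, 5, 6, 7, 0],
  [0, 2, 8, 3, 4, 5, 6, 7, 1],
  [1, 0, 8, 3, 4, 5, 6, 7, 2],
  [0, 8, 3, 2, 4, 5, 6, 7, 1],
  [1, 0, 3, 2, 4, 5, 6, 7, 8],
  [8, 1, 3, 2, 4, 5, 6, 7, 0],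
  [3, 1, 0, 2, 4, 5, 6, 7, 8],
  [1, 8, 0, 2, 4, 5, 6, 7, 3],
  [8, 3, 0, 2, 4, 5, 6, 7, 1],
  [3, 8, 1, 2, 4, 5, 6, 7, 0],
  [0, 3, 1, 2, 4, 5, 6, 7, 8],
  [8, 0, 1, 2, 4, 5, 6, 7, 3],
  [3, 0, 8, 2, 4, 5, 6, 7, 1],
  [0, 1, 8, 2, 4, 5, 6, 7, 3],
  [1, 3, 8, 2, 4, 5, 6, 7, 0],
  [2, 1, 3, 0, 4, 5, 6, 7, 8],
  [1, 8, 3, 0, 4, 5, 6, 7, 2],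
  [8, 2, 3, 0, 4, 5, 6, 7, 1],
  [3, 8, 2, 0, 4, 5, 6, 7, 1],
  [1, 3, 2, 0, 4, 5, 6, 7, 8],
  [8, 1, 2, 0, 4, 5, 6, 7, 3],
  [3, 2, 1, 0, 4, 5, 6, 7, 8],
  [2, 8, 1, 0, 4, 5, 6, 7, 3],
  [8, 3, 1, 0, 4, 5, 6, 7, 2],
  [3, 1, 8, 0, 4, 5, 6, 7, 2],
  [2, 3, 8, 0, 4, 5, 6, 7, 1],
  [1, 2, 8, 0, 4, 5, 6, 7, 3],
  [2, 8, 3, 1, 4, 5, 6, 7, 0],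
  [0, 2, 3, 1, 4, 5, 6, 7, 8],
  [8, 0, 3, 1, 4, 5, 6, 7, 2],
  [3, 0, 2, 1, 4, 5, 6, 7, 8],
  [0, 8, 2, 1, 4, 5, 6, 7, 3],
  [8, 3, 2, 1, 4, 5, 6, 7, 0],
  [3, 8, 0, 1, 4, 5, 6, 7, 2],
  [2, 3, 0, 1, 4, 5, 6, 7, 8],
  [8, 2, 0, 1, 4, 5, 6, 7, 3],
  [3, 2, 8, 1, 4, 5, 6, 7, 0],
  [2, 0, 8, 1, 4, 5, 6, 7, 3],
  [0, 3, 8, 1, 4, 5, 6, 7, 2],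
  [2, 0, 3, 8, 4, 5, 6, 7, 1],
  [0, 1, 3, 8, 4, 5, 6, 7, 2],
  [1, 2, 3, 8, 4, 5, 6, 7, 0],
  [3, 1, 2, 8, 4, 5, 6, 7, 0],
  [0, 3, 2, 8, 4, 5, 6, 7, 1],
  [1, 0, 2, 8, 4, 5, 6, 7, 3],
  [3, 2, 0, 8, 4, 5, 6, 7, 1],
  [2, 1, 0, 8, 4, 5, 6, 7, 3],
  [1, 3, 0, 8, 4, 5, 6, 7, 2],
  [3, 0, 1, 8, 4, 5, 6, 7, 2],
  [2, 3, 1, 8, 4, 5, 6, 7, 0],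
  [0, 2, 1, 8, 4, 5, 6, 7, 3]]

def dImgs : List (List (Fin 9)) := [
  [0, 1, 2, 3, 4, 5, 6, 7, 8],
  [1, 0, 2, 3, 5, 4, 6, 7, 8],
  [1, 0, 2, 3, 4, 5, 7, 6, 8],
  [0, 1, 2, 3, 5, 4, 7, 6, 8],
  [0, 1, 2, 3, 6, 7, 4, 5, 8],
  [1, 0, 2, 3, 6, 7, 5, 4, 8],
  [1, 0, 2, 3, 7, 6, 4, 5, 8],
  [0, 1, 2, 3, 7, 6, 5, 4, 8]]

def cent9List : List (List (Fin 9)) := [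
  [0, 1, 2, 3, 4, 5, 6, 7, 8],
  [1, 0, 2, 3, 5, 4, 6, 7, 8],
  [1, 0, 2, 3, 4, 5, 7, 6, 8],
  [0, 1, 2, 3, 5, 4, 7, 6, 8],
  [0, 1, 2, 3, 6, 7, 4, 5, 8],
  [1, 0, 2, 3, 6, 7, 5, 4, 8],
  [1, 0, 2, 3, 7, 6, 4, 5, 8],
  [0, 1, 2, 3, 7, 6, 5, 4, 8],
  [1, 8, 2, 3, 4, 5, 6, 7, 0],
  [8, 1, 2, 3, 5, 4, 6, 7, 0],
  [8, 1, 2, 3, 4, 5, 7, 6, 0],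
  [1, 8, 2, 3, 5, 4, 7, 6, 0],
  [1, 8, 2, 3, 6, 7, 4, 5, 0],
  [8, 1, 2, 3, 6, 7, 5, 4, 0],
  [8, 1, 2, 3, 7, 6, 4, 5, 0],
  [1, 8, 2, 3, 7, 6, 5, 4, 0],
  [8, 0, 2, 3, 4, 5, 6, 7, 1],
  [0, 8, 2, 3, 5, 4, 6, 7, 1],
  [0, 8, 2, 3, 4, 5, 7, 6, 1],
  [8, 0, 2, 3, 5, 4, 7, 6, 1],
  [8, 0, 2, 3, 6, 7, 4, 5, 1],
  [0, 8, 2, 3, 6, 7, 5, 4, 1],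
  [0, 8, 2, 3, 7, 6, 4, 5, 1],
  [8, 0, 2, 3, 7, 6, 5, 4, 1],
  [2, 8, 0, 3, 4, 5, 6, 7, 1],
  [8, 2, 0, 3, 5, 4, 6, 7, 1],
  [8, 2, 0, 3, 4, 5, 7, 6, 1],
  [2, 8, 0, 3, 5, 4, 7, 6, 1],
  [2, 8, 0, 3, 6, 7, 4, 5, 1],
  [8, 2, 0, 3, 6, 7, 5, 4, 1],
  [8, 2, 0, 3, 7, 6, 4, 5, 1],
  [2, 8, 0, 3, 7, 6, 5, 4, 1],
  [1, 2, 0, 3, 4, 5, 6, 7, 8],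
  [2, 1, 0, 3, 5, 4, 6, 7, 8],
  [2, 1, 0, 3, 4, 5, 7, 6, 8],
  [1, 2, 0, 3, 5, 4, 7, 6, 8],
  [1, 2, 0, 3, 6, 7, 4, 5, 8],
  [2, 1, 0, 3, 6, 7, 5, 4, 8],
  [2, 1, 0, 3, 7, 6, 4, 5, 8],
  [1, 2, 0, 3, 7, 6, 5, 4, 8],
  [8, 1, 0, 3, 4, 5, 6, 7, 2],
  [1, 8, 0, 3, 5, 4, 6, 7, 2],
  [1, 8, 0, 3, 4, 5, 7, 6, 2],
  [8, 1, 0, 3, 5, 4, 7, 6, 2],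
  [8, 1, 0, 3, 6, 7, 4, 5, 2],
  [1, 8, 0, 3, 6, 7, 5, 4, 2],
  [1, 8, 0, 3, 7, 6, 4, 5, 2],
  [8, 1, 0, 3, 7, 6, 5, 4, 2],
  [2, 0, 1, 3, 4, 5, 6, 7, 8],
  [0, 2, 1, 3, 5, 4, 6, 7, 8],
  [0, 2, 1, 3, 4, 5, 7, 6, 8],
  [2, 0, 1, 3, 5, 4, 7, 6, 8],
  [2, 0, 1, 3, 6, 7, 4, 5, 8],
  [0, 2, 1, 3, 6, 7, 5, 4, 8],
  [0, 2, 1, 3, 7, 6, 4, 5, 8],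
  [2, 0, 1, 3, 7, 6, 5, 4, 8],
  [0, 8, 1, 3, 4, 5, 6, 7, 2],
  [8, 0, 1, 3, 5, 4, 6, 7, 2],
  [8, 0, 1, 3, 4, 5, 7, 6, 2],
  [0, 8, 1, 3, 5, 4, 7, 6, 2],
  [0, 8, 1, 3, 6, 7, 4, 5, 2],
  [8, 0, 1, 3, 6, 7, 5, 4, 2],
  [8, 0, 1, 3, 7, 6, 4, 5, 2],
  [0, 8, 1, 3, 7, 6, 5, 4, 2],
  [8, 2, 1, 3, 4, 5, 6, 7, 0],
  [2, 8, 1, 3, 5, 4, 6, 7, 0],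
  [2, 8, 1, 3, 4, 5, 7, 6, 0],
  [8, 2, 1, 3, 5, 4, 7, 6, 0],
  [8, 2, 1, 3, 6, 7, 4, 5, 0],
  [2, 8, 1, 3, 6, 7, 5, 4, 0],
  [2, 8, 1, 3, 7, 6, 4, 5, 0],
  [8, 2, 1, 3, 7, 6, 5, 4, 0],
  [2, 1, 8, 3, 4, 5, 6, 7, 0],
  [1, 2, 8, 3, 5, 4, 6, 7, 0],
  [1, 2, 8, 3, 4, 5, 7, 6, 0],
  [2, 1, 8, 3, 5, 4, 7, 6, 0],
  [2, 1, 8, 3, 6, 7, 4, 5, 0],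
  [1, 2, 8, 3, 6, 7, 5, 4, 0],
  [1, 2, 8, 3, 7, 6, 4, 5, 0],
  [2, 1, 8, 3, 7, 6, 5, 4, 0],
  [0, 2, 8, 3, 4, 5, 6, 7, 1],
  [2, 0, 8, 3, 5, 4, 6, 7, 1],
  [2, 0, 8, 3, 4, 5, 7, 6, 1],
  [0, 2, 8, 3, 5, 4, 7, 6, 1],
  [0, 2, 8, 3, 6, 7, 4, 5, 1],
  [2, 0, 8, 3, 6, 7, 5, 4, 1],
  [2, 0, 8, 3, 7, 6, 4, 5, 1],
  [0, 2, 8, 3, 7, 6, 5, 4, 1],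
  [1, 0, 8, 3, 4, 5, 6, 7, 2],
  [0, 1, 8, 3, 5, 4, 6, 7, 2],
  [0, 1, 8, 3, 4, 5, 7, 6, 2],
  [1, 0, 8, 3, 5, 4, 7, 6, 2],
  [1, 0, 8, 3, 6, 7, 4, 5, 2],
  [0, 1, 8, 3, 6, 7, 5, 4, 2],
  [0, 1, 8, 3, 7, 6, 4, 5, 2],
  [1, 0, 8, 3, 7, 6, 5, 4, 2],
  [0, 8, 3, 2, 4, 5, 6, 7, 1],
  [8, 0, 3, 2, 5, 4, 6, 7, 1],
  [8, 0, 3, 2, 4, 5, 7, 6, 1],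
  [0, 8, 3, 2, 5, 4, 7, 6, 1],
  [0, 8, 3, 2, 6, 7, 4, 5, 1],
  [8, 0, 3, 2, 6, 7, 5, 4, 1],
  [8, 0, 3, 2, 7, 6, 4, 5, 1],
  [0, 8, 3, 2, 7, 6, 5, 4, 1],
  [1, 0, 3, 2, 4, 5, 6, 7, 8],
  [0, 1, 3, 2, 5, 4, 6, 7, 8],
  [0, 1, 3, 2, 4, 5, 7, 6, 8],
  [1, 0, 3, 2, 5, 4, 7, 6, 8],
  [1, 0, 3, 2, 6, 7, 4, 5, 8],
  [0, 1, 3, 2, 6, 7, 5, 4, 8],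
  [0, 1, 3, 2, 7, 6, 4, 5, 8],
  [1, 0, 3, 2, 7, 6, 5, 4, 8],
  [8, 1, 3, 2, 4, 5, 6, 7, 0],
  [1, 8, 3, 2, 5, 4, 6, 7, 0],
  [1, 8, 3, 2, 4, 5, 7, 6, 0],
  [8, 1, 3, 2, 5, 4, 7, 6, 0],
  [8, 1, 3, 2, 6, 7, 4, 5, 0],
  [1, 8, 3, 2, 6, 7, 5, 4, 0],
  [1, 8, 3, 2, 7, 6, 4, 5, 0],
  [8, 1, 3, 2, 7, 6, 5, 4, 0],
  [3, 1, 0, 2, 4, 5, 6, 7, 8],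
  [1, 3, 0, 2, 5, 4, 6, 7, 8],
  [1, 3, 0, 2, 4, 5, 7, 6, 8],
  [3, 1, 0, 2, 5, 4, 7, 6, 8],
  [3, 1, 0, 2, 6, 7, 4, 5, 8],
  [1, 3, 0, 2, 6, 7, 5, 4, 8],
  [1, 3, 0, 2, 7, 6, 4, 5, 8],
  [3, 1, 0, 2, 7, 6, 5, 4, 8],
  [1, 8, 0, 2, 4, 5, 6, 7, 3],
  [8, 1, 0, 2, 5, 4, 6, 7, 3],
  [8, 1, 0, 2, 4, 5, 7, 6, 3],
  [1, 8, 0, 2, 5, 4, 7, 6, 3],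
  [1, 8, 0, 2, 6, 7, 4, 5, 3],
  [8, 1, 0, 2, 6, 7, 5, 4, 3],
  [8, 1, 0, 2, 7, 6, 4, 5, 3],
  [1, 8, 0, 2, 7, 6, 5, 4, 3],
  [8, 3, 0, 2, 4, 5, 6, 7, 1],
  [3, 8, 0, 2, 5, 4, 6, 7, 1],
  [3, 8, 0, 2, 4, 5, 7, 6, 1],
  [8, 3, 0, 2, 5, 4, 7, 6, 1],
  [8, 3, 0, 2, 6, 7, 4, 5, 1],
  [3, 8, 0, 2, 6, 7, 5, 4, 1],
  [3, 8, 0, 2, 7, 6, 4, 5, 1],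
  [8, 3, 0, 2, 7, 6, 5, 4, 1],
  [3, 8, 1, 2, 4, 5, 6, 7, 0],
  [8, 3, 1, 2, 5, 4, 6, 7, 0],
  [8, 3, 1, 2, 4, 5, 7, 6, 0],
  [3, 8, 1, 2, 5, 4, 7, 6, 0],
  [3, 8, 1, 2, 6, 7, 4, 5, 0],
  [8, 3, 1, 2, 6, 7, 5, 4, 0],
  [8, 3, 1, 2, 7, 6, 4, 5, 0],
  [3, 8, 1, 2, 7, 6, 5, 4, 0],
  [0, 3, 1, 2, 4, 5, 6, 7, 8],
  [3, 0, 1, 2, 5, 4, 6, 7, 8],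
  [3, 0, 1, 2, 4, 5, 7, 6, 8],
  [0, 3, 1, 2, 5, 4, 7, 6, 8],
  [0, 3, 1, 2, 6, 7, 4, 5, 8],
  [3, 0, 1, 2, 6, 7, 5, 4, 8],
  [3, 0, 1, 2, 7, 6, 4, 5, 8],
  [0, 3, 1, 2, 7, 6, 5, 4, 8],
  [8, 0, 1, 2, 4, 5, 6, 7, 3],
  [0, 8, 1, 2, 5, 4, 6, 7, 3],
  [0, 8, 1, 2, 4, 5, 7, 6, 3],
  [8, 0, 1, 2, 5, 4, 7, 6, 3],
  [8, 0, 1, 2, 6, 7, 4, 5, 3],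
  [0, 8, 1, 2, 6, 7, 5, 4, 3],
  [0, 8, 1, 2, 7, 6, 4, 5, 3],
  [8, 0, 1, 2, 7, 6, 5, 4, 3],
  [3, 0, 8, 2, 4, 5, 6, 7, 1],
  [0, 3, 8, 2, 5, 4, 6, 7, 1],
  [0, 3, 8, 2, 4, 5, 7, 6, 1],
  [3, 0, 8, 2, 5, 4, 7, 6, 1],
  [3, 0, 8, 2, 6, 7, 4, 5, 1],
  [0, 3, 8, 2, 6, 7, 5, 4, 1],
  [0, 3, 8, 2, 7, 6, 4, 5, 1],
  [3, 0, 8, 2, 7, 6, 5, 4, 1],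
  [0, 1, 8, 2, 4, 5, 6, 7, 3],
  [1, 0, 8, 2, 5, 4, 6, 7, 3],
  [1, 0, 8, 2, 4, 5, 7, 6, 3],
  [0, 1, 8, 2, 5, 4, 7, 6, 3],
  [0, 1, 8, 2, 6, 7, 4, 5, 3],
  [1, 0, 8, 2, 6, 7, 5, 4, 3],
  [1, 0, 8, 2, 7, 6, 4, 5, 3],
  [0, 1, 8, 2, 7, 6, 5, 4, 3],
  [1, 3, 8, 2, 4, 5, 6, 7, 0],
  [3, 1, 8, 2, 5, 4, 6, 7, 0],
  [3, 1, 8, 2, 4, 5, 7, 6, 0],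
  [1, 3, 8, 2, 5, 4, 7, 6, 0],
  [1, 3, 8, 2, 6, 7, 4, 5, 0],
  [3, 1, 8, 2, 6, 7, 5, 4, 0],
  [3, 1, 8, 2, 7, 6, 4, 5, 0],
  [1, 3, 8, 2, 7, 6, 5, 4, 0],
  [2, 1, 3, 0, 4, 5, 6, 7, 8],
  [1, 2, 3, 0, 5, 4, 6, 7, 8],
  [1, 2, 3, 0, 4, 5, 7, 6, 8],
  [2, 1, 3, 0, 5, 4, 7, 6, 8],
  [2, 1, 3, 0, 6, 7, 4, 5, 8],
  [1, 2, 3, 0, 6, 7, 5, 4, 8],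
  [1, 2, 3, 0, 7, 6, 4, 5, 8],
  [2, 1, 3, 0, 7, 6, 5, 4, 8],
  [1, 8, 3, 0, 4, 5, 6, 7, 2],
  [8, 1, 3, 0, 5, 4, 6, 7, 2],
  [8, 1, 3, 0, 4, 5, 7, 6, 2],
  [1, 8, 3, 0, 5, 4, 7, 6, 2],
  [1, 8, 3, 0, 6, 7, 4, 5, 2],
  [8, 1, 3, 0, 6, 7, 5, 4, 2],
  [8, 1, 3, 0, 7, 6, 4, 5, 2],
  [1, 8, 3, 0, 7, 6, 5, 4, 2],
  [8, 2, 3, 0, 4, 5, 6, 7, 1],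
  [2, 8, 3, 0, 5, 4, 6, 7, 1],
  [2, 8, 3, 0, 4, 5, 7, 6, 1],
  [8, 2, 3, 0, 5, 4, 7, 6, 1],
  [8, 2, 3, 0, 6, 7, 4, 5, 1],
  [2, 8, 3, 0, 6, 7, 5, 4, 1],
  [2, 8, 3, 0, 7, 6, 4, 5, 1],
  [8, 2, 3, 0, 7, 6, 5, 4, 1],
  [3, 8, 2, 0, 4, 5, 6, 7, 1],
  [8, 3, 2, 0, 5, 4, 6, 7, 1],
  [8, 3, 2, 0, 4, 5, 7, 6, 1],
  [3, 8, 2, 0, 5, 4, 7, 6, 1],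
  [3, 8, 2, 0, 6, 7, 4, 5, 1],
  [8, 3, 2, 0, 6, 7, 5, 4, 1],
  [8, 3, 2, 0, 7, 6, 4, 5, 1],
  [3, 8, 2, 0, 7, 6, 5, 4, 1],
  [1, 3, 2, 0, 4, 5, 6, 7, 8],
  [3, 1, 2, 0, 5, 4, 6, 7, 8],
  [3, 1, 2, 0, 4, 5, 7, 6, 8],
  [1, 3, 2, 0, 5, 4, 7, 6, 8],
  [1, 3, 2, 0, 6, 7, 4, 5, 8],
  [3, 1, 2, 0, 6, 7, 5, 4, 8],
  [3, 1, 2, 0, 7, 6, 4, 5, 8],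
  [1, 3, 2, 0, 7, 6, 5, 4, 8],
  [8, 1, 2, 0, 4, 5, 6, 7, 3],
  [1, 8, 2, 0, 5, 4, 6, 7, 3],
  [1, 8, 2, 0, 4, 5, 7, 6, 3],
  [8, 1, 2, 0, 5, 4, 7, 6, 3],
  [8, 1, 2, 0, 6, 7, 4, 5, 3],
  [1, 8, 2, 0, 6, 7, 5, 4, 3],
  [1, 8, 2, 0, 7, 6, 4, 5, 3],
  [8, 1, 2, 0, 7, 6, 5, 4, 3],
  [3, 2, 1, 0, 4, 5, 6, 7, 8],
  [2, 3, 1, 0, 5, 4, 6, 7, 8],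
  [2, 3, 1, 0, 4, 5, 7, 6, 8],
  [3, 2, 1, 0, 5, 4, 7, 6, 8],
  [3, 2, 1, 0, 6, 7, 4, 5, 8],
  [2, 3, 1, 0, 6, 7, 5, 4, 8],
  [2, 3, 1, 0, 7, 6, 4, 5, 8],
  [3, 2, 1, 0, 7, 6, 5, 4, 8],
  [2, 8, 1, 0, 4, 5, 6, 7, 3],
  [8, 2, 1, 0, 5, 4, 6, 7, 3],
  [8, 2, 1, 0, 4, 5, 7, 6, 3],
  [2, 8, 1, 0, 5, 4, 7, 6, 3],
  [2, 8, 1, 0, 6, 7, 4, 5, 3],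
  [8, 2, 1, 0, 6, 7, 5, 4, 3],
  [8, 2, 1, 0, 7, 6, 4, 5, 3],
  [2, 8, 1, 0, 7, 6, 5, 4, 3],
  [8, 3, 1, 0, 4, 5, 6, 7, 2],
  [3, 8, 1, 0, 5, 4, 6, 7, 2],
  [3, 8, 1, 0, 4, 5, 7, 6, 2],
  [8, 3, 1, 0, 5, 4, 7, 6, 2],
  [8, 3, 1, 0, 6, 7, 4, 5, 2],
  [3, 8, 1, 0, 6, 7, 5, 4, 2],
  [3, 8, 1, 0, 7, 6, 4, 5, 2],
  [8, 3, 1, 0, 7, 6, 5, 4, 2],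
  [3, 1, 8, 0, 4, 5, 6, 7, 2],
  [1, 3, 8, 0, 5, 4, 6, 7, 2],
  [1, 3, 8, 0, 4, 5, 7, 6, 2],
  [3, 1, 8, 0, 5, 4, 7, 6, 2],
  [3, 1, 8, 0, 6, 7, 4, 5, 2],
  [1, 3, 8, 0, 6, 7, 5, 4, 2],
  [1, 3, 8, 0, 7, 6, 4, 5, 2],
  [3, 1, 8, 0, 7, 6, 5, 4, 2],
  [2, 3, 8, 0, 4, 5, 6, 7, 1],
  [3, 2, 8, 0, 5, 4, 6, 7, 1],
  [3, 2, 8, 0, 4, 5, 7, 6, 1],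
  [2, 3, 8, 0, 5, 4, 7, 6, 1],
  [2, 3, 8, 0, 6, 7, 4, 5, 1],
  [3, 2, 8, 0, 6, 7, 5, 4, 1],
  [3, 2, 8, 0, 7, 6, 4, 5, 1],
  [2, 3, 8, 0, 7, 6, 5, 4, 1],
  [1, 2, 8, 0, 4, 5, 6, 7, 3],
  [2, 1, 8, 0, 5, 4, 6, 7, 3],
  [2, 1, 8, 0, 4, 5, 7, 6, 3],
  [1, 2, 8, 0, 5, 4, 7, 6, 3],
  [1, 2, 8, 0, 6, 7, 4, 5, 3],
  [2, 1, 8, 0, 6, 7, 5, 4, 3],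
  [2, 1, 8, 0, 7, 6, 4, 5, 3],
  [1, 2, 8, 0, 7, 6, 5, 4, 3],
  [2, 8, 3, 1, 4, 5, 6, 7, 0],
  [8, 2, 3, 1, 5, 4, 6, 7, 0],
  [8, 2, 3, 1, 4, 5, 7, 6, 0],
  [2, 8, 3, 1, 5, 4, 7, 6, 0],
  [2, 8, 3, 1, 6, 7, 4, 5, 0],
  [8, 2, 3, 1, 6, 7, 5, 4, 0],
  [8, 2, 3, 1, 7, 6, 4, 5, 0],
  [2, 8, 3, 1, 7, 6, 5, 4, 0],
  [0, 2, 3, 1, 4, 5, 6, 7, 8],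
  [2, 0, 3, 1, 5, 4, 6, 7, 8],
  [2, 0, 3, 1, 4, 5, 7, 6, 8],
  [0, 2, 3, 1, 5, 4, 7, 6, 8],
  [0, 2, 3, 1, 6, 7, 4, 5, 8],
  [2, 0, 3, 1, 6, 7, 5, 4, 8],
  [2, 0, 3, 1, 7, 6, 4, 5, 8],
  [0, 2, 3, 1, 7, 6, 5, 4, 8],
  [8, 0, 3, 1, 4, 5, 6, 7, 2],
  [0, 8, 3, 1, 5, 4, 6, 7, 2],
  [0, 8, 3, 1, 4, 5, 7, 6, 2],
  [8, 0, 3, 1, 5, 4, 7, 6, 2],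
  [8, 0, 3, 1, 6, 7, 4, 5, 2],
  [0, 8, 3, 1, 6, 7, 5, 4, 2],
  [0, 8, 3, 1, 7, 6, 4, 5, 2],
  [8, 0, 3, 1, 7, 6, 5, 4, 2],
  [3, 0, 2, 1, 4, 5, 6, 7, 8],
  [0, 3, 2, 1, 5, 4, 6, 7, 8],
  [0, 3, 2, 1, 4, 5, 7, 6, 8],
  [3, 0, 2, 1, 5, 4, 7, 6, 8],
  [3, 0, 2, 1, 6, 7, 4, 5, 8],
  [0, 3, 2, 1, 6, 7, 5, 4, 8],
  [0, 3, 2, 1, 7, 6, 4, 5, 8],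
  [3, 0, 2, 1, 7, 6, 5, 4, 8],
  [0, 8, 2, 1, 4, 5, 6, 7, 3],
  [8, 0, 2, 1, 5, 4, 6, 7, 3],
  [8, 0, 2, 1, 4, 5, 7, 6, 3],
  [0, 8, 2, 1, 5, 4, 7, 6, 3],
  [0, 8, 2, 1, 6, 7, 4, 5, 3],
  [8, 0, 2, 1, 6, 7, 5, 4, 3],
  [8, 0, 2, 1, 7, 6, 4, 5, 3],
  [0, 8, 2, 1, 7, 6, 5, 4, 3],
  [8, 3, 2, 1, 4, 5, 6, 7, 0],
  [3, 8, 2, 1, 5, 4, 6, 7, 0],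
  [3, 8, 2, 1, 4, 5, 7, 6, 0],
  [8, 3, 2, 1, 5, 4, 7, 6, 0],
  [8, 3, 2, 1, 6, 7, 4, 5, 0],
  [3, 8, 2, 1, 6, 7, 5, 4, 0],
  [3, 8, 2, 1, 7, 6, 4, 5, 0],
  [8, 3, 2, 1, 7, 6, 5, 4, 0],
  [3, 8, 0, 1, 4, 5, 6, 7, 2],
  [8, 3, 0, 1, 5, 4, 6, 7, 2],
  [8, 3, 0, 1, 4, 5, 7, 6, 2],
  [3, 8, 0, 1, 5, 4, 7, 6, 2],
  [3, 8, 0, 1, 6, 7, 4, 5, 2],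
  [8, 3, 0, 1, 6, 7, 5, 4, 2],
  [8, 3, 0, 1, 7, 6, 4, 5, 2],
  [3, 8, 0, 1, 7, 6, 5, 4, 2],
  [2, 3, 0, 1, 4, 5, 6, 7, 8],
  [3, 2, 0, 1, 5, 4, 6, 7, 8],
  [3, 2, 0, 1, 4, 5, 7, 6, 8],
  [2, 3, 0, 1, 5, 4, 7, 6, 8],
  [2, 3, 0, 1, 6, 7, 4, 5, 8],
  [3, 2, 0, 1, 6, 7, 5, 4, 8],
  [3, 2, 0, 1, 7, 6, 4, 5, 8],
  [2, 3, 0, 1, 7, 6, 5, 4, 8],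
  [8, 2, 0, 1, 4, 5, 6, 7, 3],
  [2, 8, 0, 1, 5, 4, 6, 7, 3],
  [2, 8, 0, 1, 4, 5, 7, 6, 3],
  [8, 2, 0, 1, 5, 4, 7, 6, 3],
  [8, 2, 0, 1, 6, 7, 4, 5, 3],
  [2, 8, 0, 1, 6, 7, 5, 4, 3],
  [2, 8, 0, 1, 7, 6, 4, 5, 3],
  [8, 2, 0, 1, 7, 6, 5, 4, 3],
  [3, 2, 8, 1, 4, 5, 6, 7, 0],
  [2, 3, 8, 1, 5, 4, 6, 7, 0],
  [2, 3, 8, 1, 4, 5, 7, 6, 0],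
  [3, 2, 8, 1, 5, 4, 7, 6, 0],
  [3, 2, 8, 1, 6, 7, 4, 5, 0],
  [2, 3, 8, 1, 6, 7, 5, 4, 0],
  [2, 3, 8, 1, 7, 6, 4, 5, 0],
  [3, 2, 8, 1, 7, 6, 5, 4, 0],
  [2, 0, 8, 1, 4, 5, 6, 7, 3],
  [0, 2, 8, 1, 5, 4, 6, 7, 3],
  [0, 2, 8, 1, 4, 5, 7, 6, 3],
  [2, 0, 8, 1, 5, 4, 7, 6, 3],
  [2, 0, 8, 1, 6, 7, 4, 5, 3],
  [0, 2, 8, 1, 6, 7, 5, 4, 3],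
  [0, 2, 8, 1, 7, 6, 4, 5, 3],
  [2, 0, 8, 1, 7, 6, 5, 4, 3],
  [0, 3, 8, 1, 4, 5, 6, 7, 2],
  [3, 0, 8, 1, 5, 4, 6, 7, 2],
  [3, 0, 8, 1, 4, 5, 7, 6, 2],
  [0, 3, 8, 1, 5, 4, 7, 6, 2],
  [0, 3, 8, 1, 6, 7, 4, 5, 2],
  [3, 0, 8, 1, 6, 7, 5, 4, 2],
  [3, 0, 8, 1, 7, 6, 4, 5, 2],
  [0, 3, 8, 1, 7, 6, 5, 4, 2],
  [2, 0, 3, 8, 4, 5, 6, 7, 1],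
  [0, 2, 3, 8, 5, 4, 6, 7, 1],
  [0, 2, 3, 8, 4, 5, 7, 6, 1],
  [2, 0, 3, 8, 5, 4, 7, 6, 1],
  [2, 0, 3, 8, 6, 7, 4, 5, 1],
  [0, 2, 3, 8, 6, 7, 5, 4, 1],
  [0, 2, 3, 8, 7, 6, 4, 5, 1],
  [2, 0, 3, 8, 7, 6, 5, 4, 1],
  [0, 1, 3, 8, 4, 5, 6, 7, 2],
  [1, 0, 3, 8, 5, 4, 6, 7, 2],
  [1, 0, 3, 8, 4, 5, 7, 6, 2],
  [0, 1, 3, 8, 5, 4, 7, 6, 2],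
  [0, 1, 3, 8, 6, 7, 4, 5, 2],
  [1, 0, 3, 8, 6, 7, 5, 4, 2],
  [1, 0, 3, 8, 7, 6, 4, 5, 2],
  [0, 1, 3, 8, 7, 6, 5, 4, 2],
  [1, 2, 3, 8, 4, 5, 6, 7, 0],
  [2, 1, 3, 8, 5, 4, 6, 7, 0],
  [2, 1, 3, 8, 4, 5, 7, 6, 0],
  [1, 2, 3, 8, 5, 4, 7, 6, 0],
  [1, 2, 3, 8, 6, 7, 4, 5, 0],
  [2, 1, 3, 8, 6, 7, 5, 4, 0],
  [2, 1, 3, 8, 7, 6, 4, 5, 0],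
  [1, 2, 3, 8, 7, 6, 5, 4, 0],
  [3, 1, 2, 8, 4, 5, 6, 7, 0],
  [1, 3, 2, 8, 5, 4, 6, 7, 0],
  [1, 3, 2, 8, 4, 5, 7, 6, 0],
  [3, 1, 2, 8, 5, 4, 7, 6, 0],
  [3, 1, 2, 8, 6, 7, 4, 5, 0],
  [1, 3, 2, 8, 6, 7, 5, 4, 0],
  [1, 3, 2, 8, 7, 6, 4, 5, 0],
  [3, 1, 2, 8, 7, 6, 5, 4, 0],
  [0, 3, 2, 8, 4, 5, 6, 7, 1],
  [3, 0, 2, 8, 5, 4, 6, 7, 1],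
  [3, 0, 2, 8, 4, 5, 7, 6, 1],
  [0, 3, 2, 8, 5, 4, 7, 6, 1],
  [0, 3, 2, 8, 6, 7, 4, 5, 1],
  [3, 0, 2, 8, 6, 7, 5, 4, 1],
  [3, 0, 2, 8, 7, 6, 4, 5, 1],
  [0, 3, 2, 8, 7, 6, 5, 4, 1],
  [1, 0, 2, 8, 4, 5, 6, 7, 3],
  [0, 1, 2, 8, 5, 4, 6, 7, 3],
  [0, 1, 2, 8, 4, 5, 7, 6, 3],
  [1, 0, 2, 8, 5, 4, 7, 6, 3],
  [1, 0, 2, 8, 6, 7, 4, 5, 3],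
  [0, 1, 2, 8, 6, 7, 5, 4, 3],
  [0, 1, 2, 8, 7, 6, 4, 5, 3],
  [1, 0, 2, 8, 7, 6, 5, 4, 3],
  [3, 2, 0, 8, 4, 5, 6, 7, 1],
  [2, 3, 0, 8, 5, 4, 6, 7, 1],
  [2, 3, 0, 8, 4, 5, 7, 6, 1],
  [3, 2, 0, 8, 5, 4, 7, 6, 1],
  [3, 2, 0, 8, 6, 7, 4, 5, 1],
  [2, 3, 0, 8, 6, 7, 5, 4, 1],
  [2, 3, 0, 8, 7, 6, 4, 5, 1],
  [3, 2, 0, 8, 7, 6, 5, 4, 1],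
  [2, 1, 0, 8, 4, 5, 6, 7, 3],
  [1, 2, 0, 8, 5, 4, 6, 7, 3],
  [1, 2, 0, 8, 4, 5, 7, 6, 3],
  [2, 1, 0, 8, 5, 4, 7, 6, 3],
  [2, 1, 0, 8, 6, 7, 4, 5, 3],
  [1, 2, 0, 8, 6, 7, 5, 4, 3],
  [1, 2, 0, 8, 7, 6, 4, 5, 3],
  [2, 1, 0, 8, 7, 6, 5, 4, 3],
  [1, 3, 0, 8, 4, 5, 6, 7, 2],
  [3, 1, 0, 8, 5, 4, 6, 7, 2],
  [3, 1, 0, 8, 4, 5, 7, 6, 2],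
  [1, 3, 0, 8, 5, 4, 7, 6, 2],
  [1, 3, 0, 8, 6, 7, 4, 5, 2],
  [3, 1, 0, 8, 6, 7, 5, 4, 2],
  [3, 1, 0, 8, 7, 6, 4, 5, 2],
  [1, 3, 0, 8, 7, 6, 5, 4, 2],
  [3, 0, 1, 8, 4, 5, 6, 7, 2],
  [0, 3, 1, 8, 5, 4, 6, 7, 2],
  [0, 3, 1, 8, 4, 5, 7, 6, 2],
  [3, 0, 1, 8, 5, 4, 7, 6, 2],
  [3, 0, 1, 8, 6, 7, 4, 5, 2],
  [0, 3, 1, 8, 6, 7, 5, 4, 2],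
  [0, 3, 1, 8, 7, 6, 4, 5, 2],
  [3, 0, 1, 8, 7, 6, 5, 4, 2],
  [2, 3, 1, 8, 4, 5, 6, 7, 0],
  [3, 2, 1, 8, 5, 4, 6, 7, 0],
  [3, 2, 1, 8, 4, 5, 7, 6, 0],
  [2, 3, 1, 8, 5, 4, 7, 6, 0],
  [2, 3, 1, 8, 6, 7, 4, 5, 0],
  [3, 2, 1, 8, 6, 7, 5, 4, 0],
  [3, 2, 1, 8, 7, 6, 4, 5, 0],
  [2, 3, 1, 8, 7, 6, 5, 4, 0],
  [0, 2, 1, 8, 4, 5, 6, 7, 3],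
  [2, 0, 1, 8, 5, 4, 6, 7, 3],
  [2, 0, 1, 8, 4, 5, 7, 6, 3],
  [0, 2, 1, 8, 5, 4, 7, 6, 3],
  [0, 2, 1, 8, 6, 7, 4, 5, 3],
  [2, 0, 1, 8, 6, 7, 5, 4, 3],
  [2, 0, 1, 8, 7, 6, 4, 5, 3],
  [0, 2, 1, 8, 7, 6, 5, 4, 3]]

end Cfsg.Agent.SymThirtyTwo
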