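import Cfsg.Agent.Lib.SymThirtyTwo.XCore
import Cfsg.Agent.Lib.SymThirtyTwo.Count
import Cfsg.Agent.Lib.SymThirtyTwo.RepData

/-
The embedding of the alternating group of degree eight and the permutations of nine points used
for the centraliser of `uM` (helper22).

* `Loc.exists_inj` : the injective homomorphism from the alternating group of degree eight
* `ext9`, `emb5` : the maps into the permutations of nine points
-/

set_option autoImplicit false
set_option synthInstance.maxSize 4096
set_option maxRecDepth 100000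

open Subgroup

namespace Cfsg.Agent.SymThirtyTwo

/-- The five even permutations. -/
def aA (b : Fin 5) : alternatingGroup (Fin 8) :=
  ⟨perm8 b, Equiv.Perm.mem_alternatingGroup.2 (sign_perm8 b)⟩

def ext9Fun (σ : Equiv.Perm (Fin 8)) (x : Fin 9) : Fin 9 :=
  if h : x.val < 8 then (σ ⟨x.val, h⟩).castSucc else x

theorem ext9Fun_mul (σ τ : Equiv.Perm (Fin 8)) (x : Fin 9) :
    ext9Fun (σ * τ) x = ext9Fun σ (ext9Fun τ x) := by
  unfold ext9Fun
  by_cases h : x.val < 8
  · simp [h]
  · simp [h]

theorem ext9Fun_one (x : Fin 9) : ext9Fun 1 x = x := by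
  unfold ext9Fun
  by_cases h : x.val < 8
  · simp [h]
  · simp [h]

/-- A permutation of eight points extended to nine. -/
def ext9 : Equiv.Perm (Fin 8) →* Equiv.Perm (Fin 9) where
  toFun σ :=
    { toFun := ext9Fun σ
      invFun := ext9Fun σ⁻¹
      left_inv := fun x => by rw [← ext9Fun_mul, inv_mul_cancel, ext9Fun_one]
      right_inv := fun x => by rw [← ext9Fun_mul, mul_inv_cancel, ext9Fun_one] }
  map_one' := Equiv.ext ext9Fun_one
  map_mul' σ τ := Equiv.ext (ext9Fun_mul σ τ)

theorem ext9_injective : Function.Injective ext9 := fun σ τ h => Equiv.ext fun a => by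
  have h1 : ext9Fun σ a.castSucc = ext9Fun τ a.castSucc := congrArg (fun p => p a.castSucc) h
  simpa [ext9Fun] using h1

theorem img9_ext9 (σ : Equiv.Perm (Fin 8)) :
    img9 (ext9 σ) = (img8 σ).map Fin.castSucc ++ [8] := by
  show (List.finRange 9).map (ext9Fun σ) = ((List.finRange 8).map σ).map Fin.castSucc ++ [8]
  simp [List.finRange_succ, ext9Fun]

/-- The names of the five points. -/
def lab : Fin 5 → Fin 9 := ![3, 2, 0, 1, 8]

def unl : Fin 9 → Option (Fin 5) :=
  ![some 2, some 3, some 1, some 0, none, none, none, none, some 4]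

theorem unl_lab : ∀ k, unl (lab k) = some k := by decide

theorem lab_unl : ∀ x k, unl x = some k → lab k = x := by decide

def emb5Fun (σ : Equiv.Perm (Fin 5)) (x : Fin 9) : Fin 9 :=
  match unl x with
  | some k => lab (σ k)
  | none => x

theorem emb5Fun_mul (σ τ : Equiv.Perm (Fin 5)) (x : Fin 9) :
    emb5Fun (σ * τ) x = emb5Fun σ (emb5Fun τ x) := by
  cases h : unl x with
  | none => simp [emb5Fun, h]
  | some k => simp [emb5Fun, h, unl_lab]

theorem emb5Fun_one (x : Fin 9) : emb5Fun 1 x = x := by
  cases h : unl x with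
  | none => simp [emb5Fun, h]
  | some k => simp [emb5Fun, h, lab_unl x k h]

/-- A permutation of five points on the five named points. -/
def emb5 : Equiv.Perm (Fin 5) →* Equiv.Perm (Fin 9) where
  toFun σ :=
    { toFun := emb5Fun σ
      invFun := emb5Fun σ⁻¹
      left_inv := fun x => by rw [← emb5Fun_mul, inv_mul_cancel, emb5Fun_one]
      right_inv := fun x => by rw [← emb5Fun_mul, mul_inv_cancel, emb5Fun_one] }
  map_one' := Equiv.ext emb5Fun_one
  map_mul' σ τ := Equiv.ext (emb5Fun_mul σ τ)

theorem emb5_injective : Function.Injective emb5 := fun σ τ h => Equiv.ext fun k => by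
  have h1 : emb5Fun σ (lab k) = emb5Fun τ (lab k) := congrArg (fun p => p (lab k)) h
  simp only [emb5Fun, unl_lab] at h1
  have h2 := congrArg unl h1
  rw [unl_lab, unl_lab] at h2
  exact Option.some.inj h2

def pτ : Equiv.Perm (Fin 5) := Equiv.swap 2 3
def pus : Equiv.Perm (Fin 5) := Equiv.swap 0 1 * Equiv.swap 2 3
def pv2 : Equiv.Perm (Fin 5) := Equiv.swap 0 2 * Equiv.swap 1 3
def pd : Equiv.Perm (Fin 5) := Equiv.swap 1 2 * Equiv.swap 2 3

def bp5 (p : Equiv.Perm (Fin 5)) (b : Bool) : Equiv.Perm (Fin 5) := if b then p else 1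

/-- The action on the five points. -/
def rtab (a : M) : Equiv.Perm (Fin 5) :=
  bp5 pτ (co a).1 * (bp5 pus (co a).2.2.2.1 * bp5 pv2 (co a).2.2.2.2)

/-- The component in the complement. -/
def dpart (a : M) : M := lin5 ((co a).1, (co a).2.1, (co a).2.2.1, false, false)

/-- The action on the other four points. -/
def tab4 (a : M) : Equiv.Perm (Fin 9) :=
  ext9 (wval perm8 (wordM a)) * (emb5 (rtab a))⁻¹

theorem tab4_mul : ∀ a ∈ dList, ∀ b ∈ dList,
    img9 (tab4 (mm true false a b)) = comp9 (img9 (tab4 a)) (img9 (tab4 b)) := by decide +kernel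

theorem tab4_facts : ∀ a ∈ dList, (∀ k : Fin 5, tab4 a (lab k) = lab k) ∧
    (img9 (tab4 a) = id9 → a = oneM) := by decide +kernel

theorem tab_split : ∀ a ∈ t32, dpart a ∈ dList ∧
    mm true false a (minv true false (dpart a)) ∈ vpList ∧
    img9 (emb5 (rtab a) * tab4 (dpart a)) = tabImg a := by decide +kernel

theorem emb5_comm (e : Equiv.Perm (Fin 5)) {a : M} (ha : a ∈ dList) :
    Commute (emb5 e) (tab4 a) := by
  refine Equiv.Perm.Disjoint.commute fun x => ?_
  cases h : unl x with
  | none => exact Or.inl (show emb5Fun e x = x by simp [emb5Fun, h])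
  | some k => exact Or.inr (by rw [← lab_unl x k h]; exact (tab4_facts a ha).1 k)

namespace Loc

variable {G : Type*} [Group G] {s : G} {N : Nm s} (L : Loc N)

local notation "φ" => N.toCd.φ

include L

/-- The homomorphism from the alternating group is injective. -/
theorem exists_inj [Finite G] : ∃ ψ : alternatingGroup (Fin 8) →* G, Function.Injective ψ ∧
    ∀ w, ψ (wval aA w) = wval L.gens5 w := by
  obtain ⟨ψ, hψ⟩ := L.exists_psi
  have hb : ∀ b, ψ (aA b) = L.gens5 b := fun b => by
    obtain ⟨a, ha, e⟩ := hψ b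
    rw [← e]
    congr 1
    exact Subtype.ext ha.symm
  haveI : IsSimpleGroup (alternatingGroup (Fin 8)) := alternatingGroup.isSimpleGroup (by simp)
  refine ⟨ψ, ?_, fun w => by rw [map_wval]; simp only [hb]⟩
  rw [← MonoidHom.ker_eq_bot_iff]
  refine (MonoidHom.normal_ker ψ).eq_bot_or_eq_top.resolve_right fun h => ?_
  have h1 : ψ (aA 4) = 1 := MonoidHom.mem_ker.1 (h ▸ mem_top _)
  rw [hb] at h1
  have hd : L.d = 1 := by simpa [gens5] using h1
  have := L.dus
  rw [hd, one_mul, inv_one, mul_one] at this
  exact absurd (N.toCd.inj this) (by decide +kernel)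

theorem coe_wval (w : List ℕ) :
    ((wval aA w : alternatingGroup (Fin 8)) : Equiv.Perm (Fin 8)) = wval perm8 w :=
  map_wval (alternatingGroup (Fin 8)).subtype aA w

theorem wval_word (a : M) : wval L.gens5 (wordM a) = φ a := by
  have h := List.all_eq_true.1 wordM_spec a (mem_all a)
  simp only [Bool.and_eq_true, beq_iff_eq] at h
  rw [L.wval_small h.1, h.2]

theorem wval_dpow (i : ℕ) : wval L.gens5 (List.replicate i 8) = L.d ^ i := by
  induction i with
  | zero => simp [wval]
  | succ i ih =>
    rw [List.replicate_succ, show 8 :: List.replicate i 8 = [8] ++ List.replicate i 8 from rfl,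
      wval_append, L.wval_d.1, ih, pow_succ']

end Loc

end Cfsg.Agent.SymThirtyTwo
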