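import Cfsg.Agent.Lib.SymThirtyTwo.Classes
import Cfsg.Agent.Lib.Involution.StronglyEmbedded
import Cfsg.Agent.S1175

/-
One or all classes fused is impossible in a simple group (helper22).

* `Fz.shape_eq` : two of the classes inside and one of those outside are fused
-/

set_option autoImplicit false
set_option synthInstance.maxSize 4096
set_option maxRecDepth 100000

open Subgroup

namespace Cfsg.Agent.SymThirtyTwo

def sigM : M := ((false, (true, false), (false, true)), 0, false)

def tauM : M := ((false, (false, true), (true, false)), 0, false)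

theorem one_fused : ∀ b0 ∈ bools, ∀ b1 ∈ bools, ∀ b2 ∈ bools, ∀ k ∈ ([0, 1, 2] : List (Fin 3)),
    flagSet (flagsOf b0 b1 b2 false false) (repE k) →
    shape (flagsOf b0 b1 b2 false false) = (1, 0) →
    ∀ a ∈ all, flagSet (flagsOf b0 b1 b2 false false) a → inE k a = true := by decide +kernel

theorem t_norm_w : ∀ a ∈ all, (inT a = true ↔ ∀ b ∈ wList, inW (cjg true a b) = true) := by
  decide +kernel

theorem w_cent : ∀ a ∈ all, (∀ b ∈ wList, mm true false a b = mm true false b a) → inW a = true := by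
  decide +kernel

def fixW (a : M) : List M := wList.filter fun b => b != oneM && cjg true a b == b

theorem fix_spec : (fixW tauM).length = 3 ∧ (fixW sigM).length = 3 ∧ inT tauM ∧ inT sigM ∧
    ∃ b ∈ fixW tauM, ¬ b ∈ fixW sigM := by decide +kernel

namespace Fz

variable {G : Type*} [Group G] {s : G} {k : Fin 3} (F : Fz s true k) [Finite G]

local notation "φ" => F.toCd.φ

include F

theorem orderOf_s : orderOf s = 2 :=
  haveI := Fact.mk Nat.prime_two
  orderOf_eq_prime (by rw [pow_two, F.sq_s]) F.ne_one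

theorem not_one_fused [IsSimpleGroup G] {f : Fin 5 → Bool}
    (hf : ∀ a, flagSet f a = true ↔ IsConj s (φ a)) (hshape : shape f = (1, 0)) : False := by
  classical
  have h34 : f 3 = false ∧ f 4 = false := by
    have h := congrArg Prod.snd hshape
    simp only [shape] at h
    revert h
    cases e3 : f 3 <;> cases e4 : f 4 <;> simp [e3, e4]
  have hfE : ∀ a, flagSet f a = true → inE k a = true := by
    intro a ha
    have he : flagsOf (f 0) (f 1) (f 2) false false = f := by
      conv_rhs => rw [← flagsOf_eta f, h34.1, h34.2]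
    refine one_fused (f 0) (mem_bools _) (f 1) (mem_bools _) (f 2) (mem_bools _) k (mem_fin k)
      ?_ ?_ a (mem_all a) ?_
    · rw [he]; exact (hf _).2 F.fused
    · rw [he]; exact hshape
    · rw [he]; exact ha
  have hin : ∀ y, IsConj s y → Commute y s → y ∈ F.E := by
    intro y hy hys
    obtain ⟨a, rfl⟩ := F.toCd.surj y hys
    exact F.mem_E.2 (hfE a ((hf a).2 hy))
  set N := normalizer (F.E : Set G) with hN
  have hnorm : ∀ g, g * s * g⁻¹ ∈ F.E → g ∈ N := by
    intro g hg
    have hc : Commute (g⁻¹ * s * g) s := by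
      show g⁻¹ * s * g * s = s * (g⁻¹ * s * g)
      calc g⁻¹ * s * g * s = g⁻¹ * (s * (g * s * g⁻¹)) * g := by group
        _ = g⁻¹ * (g * s * g⁻¹ * s) * g := by rw [(F.comm_E F.s_mem hg).eq]
        _ = _ := by group
    have h1 : g⁻¹ * s * g ∈ F.E := hin _ (isConj_iff.2 ⟨g⁻¹, by group⟩) hc
    refine mem_normalizer_fintype fun x hx => ?_
    show g * x * g⁻¹ ∈ F.E
    by_cases hx1 : x = 1
    · rw [hx1, mul_one, mul_inv_cancel]; exact one_mem _
    refine hin _ ((F.isConj_E hx hx1).trans (isConj_iff.2 ⟨g, rfl⟩)) ?_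
    have h2 := (SemiconjBy.conj_iff (b := g)).2 (F.comm_E hx h1)
    rwa [show g * (g⁻¹ * s * g) * g⁻¹ = s by group] at h2
  have hLN : centralizer ({s} : Set G) ≤ N := F.stab_le
  have hcentN : ∀ e ∈ F.E, e ≠ 1 → centralizer ({e} : Set G) ≤ N := by
    intro e he he1
    obtain ⟨m, rfl⟩ := isConj_iff.1 (F.isConj_E he he1)
    have hm := hnorm m he
    intro x hx
    have hx' : x * (m * s * m⁻¹) = m * s * m⁻¹ * x := mem_centralizer_singleton_iff.1 hx
    have h1 : m⁻¹ * x * m ∈ centralizer ({s} : Set G) := mem_centralizer_singleton_iff.2 (by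
      calc m⁻¹ * x * m * s = m⁻¹ * (x * (m * s * m⁻¹)) * m := by group
        _ = m⁻¹ * (m * s * m⁻¹ * x) * m := by rw [hx']
        _ = _ := by group)
    have h2 := N.mul_mem (N.mul_mem hm (hLN h1)) (N.inv_mem hm)
    rwa [show m * (m⁻¹ * x * m) * m⁻¹ = x by group] at h2
  have hNtop : N ≠ ⊤ := by
    intro h
    have hnE : F.E.Normal := normalizer_eq_top_iff.1 h
    rcases hnE.eq_bot_or_eq_top with e | e
    · exact F.ne_one (mem_bot.1 (e ▸ F.s_mem))
    · exact F.not_central (eq_top_iff.2 fun g _ =>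
        mem_centralizer_singleton_iff.2 (F.comm_E (e ▸ mem_top g) F.s_mem).eq)
  obtain ⟨S, hS, -⟩ := F.exists_sylow
  haveI := Fact.mk Nat.prime_two
  have hTC : ∀ t ∈ (S : Subgroup G), Commute t s := fun t ht => by
    rw [hS] at ht; obtain ⟨a, -, rfl⟩ := ht; exact F.toCd.comm a
  have hSN : (S : Subgroup G) ≤ N := fun t ht => hLN (mem_centralizer_singleton_iff.2 (hTC t ht))
  obtain ⟨H, hH⟩ : ∃ H : Subgroup G, IsStronglyEmbedded H := by
    refine S1175.result N hNtop s F.orderOf_s (hLN (mem_centralizer_singleton_iff.2 rfl))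
      ⟨S, hS.ge F.s_mem_T, hTC⟩ (fun g hg => hnorm g ?_) (fun g hg hne => ?_)
    · -- a conjugate in the normaliser lies in `E`
      set y := g * s * g⁻¹ with hy
      have hy2 : y * y = 1 := by
        rw [hy, show g * s * g⁻¹ * (g * s * g⁻¹) = g * (s * s) * g⁻¹ by group, F.sq_s]; group
      have hp : IsPGroup 2 (zpowers (⟨y, hg⟩ : N)) := by
        refine IsPGroup.of_card (n := 1) ?_
        rw [Nat.card_zpowers, pow_one]
        exact orderOf_eq_prime (Subtype.ext (by rw [Subgroup.coe_pow, pow_two]; exact hy2))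
          fun e => F.ne_one (conj_eq_one_iff.1 (congrArg Subtype.val e))
      obtain ⟨P, hP⟩ := hp.exists_le_sylow
      obtain ⟨m, hm⟩ := MulAction.exists_smul_eq N P (S.subtype hSN)
      have h2 : (m : G) * y * (m : G)⁻¹ ∈ (S : Subgroup G) := by
        have h3 : m * ⟨y, hg⟩ * m⁻¹ ∈ ((S.subtype hSN : Sylow 2 N) : Subgroup N) := by
          rw [← hm, Sylow.coe_subgroup_smul]
          exact ⟨⟨y, hg⟩, hP (mem_zpowers _), rfl⟩
        exact h3
      have h3 : (m : G) * y * (m : G)⁻¹ ∈ F.E :=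
        hin _ (isConj_iff.2 ⟨m * g, by rw [hy]; group⟩) (hTC _ h2)
      exact (mem_normalizer_iff.1 m.2 y).2 h3
    · have hyE : g * s * g⁻¹ ∈ F.E := hin _ (isConj_iff.2 ⟨g, rfl⟩) hg.symm
      refine hcentN _ (mul_mem F.s_mem hyE) fun e => hne ?_
      rw [eq_inv_of_mul_eq_one_right e, inv_eq_of_mul_eq_one_right F.sq_s]
  -- all involutions are conjugate
  have key : ∀ b0 ∈ bools, ∀ b1 ∈ bools, ∀ b2 ∈ bools,
      flagSet (flagsOf b0 b1 b2 false false) (cRep (Fin.succ 3)) = false := by decide +kernel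
  have he : flagsOf (f 0) (f 1) (f 2) false false = f := by
    conv_rhs => rw [← flagsOf_eta f, h34.1, h34.2]
  have h3 := (hf _).2 (Involution.isConj_involutions hH F.orderOf_s (show
    orderOf (φ (cRep (Fin.succ 3))) = 2 from by
      have h := (cRep_inv (Fin.succ 3) (by decide)).1
      simp only [isInv, Bool.and_eq_true, beq_iff_eq, bne_iff_ne] at h
      exact orderOf_eq_prime (by rw [pow_two, F.toCd.mul, h.1, F.toCd.map_one])
        fun e => h.2 (F.toCd.inj (e.trans F.toCd.map_one.symm))))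
  rw [← he, key _ (mem_bools _) _ (mem_bools _) _ (mem_bools _)] at h3
  exact Bool.noConfusion h3

theorem not_all_fused {f : Fin 5 → Bool}
    (hf : ∀ a, flagSet f a = true ↔ IsConj s (φ a)) (hshape : shape f = (3, 2)) : False := by
  classical
  haveI := Fact.mk Nat.prime_two
  have hall : flagsOf true true true true true = f := by
    have h1 := congrArg Prod.fst hshape
    have h2 := congrArg Prod.snd hshape
    simp only [shape] at h1 h2
    rw [← flagsOf_eta f]
    cases e0 : f 0 <;> cases e1 : f 1 <;> cases e2 : f 2 <;> simp [e0, e1, e2] at h1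
    cases e3 : f 3 <;> cases e4 : f 4 <;> simp [e3, e4] at h2 ⊢
  set N := normalizer (F.W : Set G) with hN
  have hNmem : ∀ {n : G}, n ∈ N → ∀ {w : G}, w ∈ F.W → n * w * n⁻¹ ∈ F.W :=
    fun {_} hn {w} hw => (mem_normalizer_iff.1 hn w).1 hw
  have hTN : F.T ≤ N := by
    rintro _ ⟨a, ha, rfl⟩
    refine mem_normalizer_fintype fun x hx => ?_
    obtain ⟨b, hb, rfl⟩ := hx
    show φ a * φ b * (φ a)⁻¹ ∈ F.W
    rw [F.toCd.conj_mem, F.mem_W]
    exact (t_norm_w a (mem_all a)).1 ha b hb
  have hNT : ∀ n ∈ N, Commute n s → n ∈ F.T := by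
    intro n hn hns
    obtain ⟨a, rfl⟩ := F.toCd.surj n hns
    refine ⟨a, (t_norm_w a (mem_all a)).2 fun b hb => ?_, rfl⟩
    have := hNmem hn (⟨b, hb, rfl⟩ : φ b ∈ F.W)
    rwa [F.toCd.conj_mem, F.mem_W] at this
  have hfusedW : ∀ w ∈ F.W, w ≠ 1 → ∃ n ∈ N, n * s * n⁻¹ = w := by
    rintro _ ⟨a, ha, rfl⟩ h1
    have key : ∀ a ∈ wList, a ≠ oneM → flagSet (flagsOf true true true true true) a = true := by
      decide +kernel
    have hc := (hf a).1 (hall ▸ key a ha fun e => h1 (by rw [e, F.toCd.map_one]))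
    obtain ⟨g, hg⟩ := isConj_iff.1 hc
    obtain ⟨n, hn, he⟩ := F.conj_w F.s_mem_W (g := g) (by rw [hg]; exact ⟨a, ha, rfl⟩)
    exact ⟨n, hn, he.trans hg⟩
  -- the action on `W`
  let ρ : N →* Equiv.Perm F.W :=
    { toFun := fun n =>
        { toFun := fun w => ⟨(n : G) * w * (n : G)⁻¹, hNmem n.2 w.2⟩
          invFun := fun w => ⟨(n : G)⁻¹ * w * (n : G), by
            have := hNmem (inv_mem n.2) w.2
            rwa [inv_inv] at this⟩
          left_inv := fun w => Subtype.ext (by group)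
          right_inv := fun w => Subtype.ext (by group) }
      map_one' := Equiv.ext fun w => Subtype.ext (by simp)
      map_mul' := fun a b => Equiv.ext fun w => Subtype.ext (by
        show ((a * b : N) : G) * w * ((a * b : N) : G)⁻¹ = a * (b * w * (b : G)⁻¹) * (a : G)⁻¹
        simp only [Subgroup.coe_mul]; group) }
  have hρker : ∀ n, ρ n = 1 ↔ (n : G) ∈ F.W := by
    intro n
    constructor
    · intro h
      have hc : ∀ w ∈ F.W, Commute (n : G) w := fun w hw =>
        mul_inv_eq_iff_eq_mul.1 (congrArg Subtype.val (Equiv.ext_iff.1 h ⟨w, hw⟩))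
      obtain ⟨a, ha⟩ := F.toCd.surj _ (hc s F.s_mem_W)
      rw [← ha, F.mem_W]
      exact w_cent a (mem_all a) fun b hb => F.toCd.commute_iff.1 (ha ▸ hc _ ⟨b, hb, rfl⟩)
    · intro h
      refine Equiv.ext fun w => Subtype.ext ?_
      show (n : G) * w * (n : G)⁻¹ = w
      rw [(F.comm_W h w.2).eq, mul_inv_cancel_right]
  set B := ρ.range with hB
  set TB := (F.T.subgroupOf N).map ρ.rangeRestrict with hTB
  have hTBcard : Nat.card TB = 4 := by
    have hk : (ρ.rangeRestrict.domRestrict (F.T.subgroupOf N)).ker =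
        (F.W.subgroupOf N).subgroupOf (F.T.subgroupOf N) := by
      ext x
      rw [MonoidHom.mem_ker, mem_subgroupOf, mem_subgroupOf]
      exact ⟨fun h => (hρker _).1 (congrArg Subtype.val h), fun h => Subtype.ext ((hρker _).2 h)⟩
    have h := Subgroup.card_mul_index (ρ.rangeRestrict.domRestrict (F.T.subgroupOf N)).ker
    rw [Subgroup.index_ker, hk, MonoidHom.domRestrict_range,
      Nat.card_congr (subgroupOfEquivOfLe hTN).toEquiv, F.card_T] at h
    have hW' : Nat.card ((F.W.subgroupOf N).subgroupOf (F.T.subgroupOf N)) = 16 := by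
      rw [Nat.card_congr (subgroupOfEquivOfLe (show F.W.subgroupOf N ≤ F.T.subgroupOf N from fun x hx =>
          mem_subgroupOf.2 (F.W_le_T (mem_subgroupOf.1 hx)))).toEquiv,
        Nat.card_congr (subgroupOfEquivOfLe (fun x hx => hTN (F.W_le_T hx))).toEquiv, F.card_W]
    rw [hW'] at h
    rw [hTB]
    omega
  -- transitivity
  let pt : F.W := ⟨s, F.s_mem_W⟩
  have hfix : ∀ b : B, (b : Equiv.Perm F.W) pt = pt → b ∈ TB := by
    rintro ⟨_, n, rfl⟩ h
    have hn : Commute (n : G) s := mul_inv_eq_iff_eq_mul.1 (congrArg Subtype.val h)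
    exact ⟨n, hNT _ n.2 hn, rfl⟩
  have hTfix : ∀ b ∈ TB, (b : Equiv.Perm F.W) pt = pt := by
    rintro _ ⟨n, hn, rfl⟩
    refine Subtype.ext ?_
    obtain ⟨a, -, ha⟩ := mem_subgroupOf.1 hn
    show (n : G) * s * (n : G)⁻¹ = s
    rw [← ha, (F.toCd.comm a).eq, mul_inv_cancel_right]
  have hone : ∀ b : B, (b : Equiv.Perm F.W) 1 = 1 := by
    rintro ⟨_, n, rfl⟩
    exact Subtype.ext (by show (n : G) * 1 * (n : G)⁻¹ = 1; group)
  have horb : MulAction.orbit B pt = {w : F.W | w ≠ 1} := by
    ext w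
    constructor
    · rintro ⟨b, rfl⟩ e
      have h := (b : Equiv.Perm F.W).injective (e.trans (hone b).symm)
      exact F.ne_one (congrArg Subtype.val h)
    · intro h
      obtain ⟨n, hn, hnw⟩ := hfusedW w w.2 fun e => h (Subtype.ext e)
      exact ⟨⟨ρ ⟨n, hn⟩, ⟨n, hn⟩, rfl⟩, Subtype.ext hnw⟩
  have hstab : MulAction.stabilizer B pt = TB :=
    le_antisymm (fun b hb => hfix b hb) (fun b hb => hTfix b hb)
  have hBcard : Nat.card B = 60 := by
    have h := (MulAction.stabilizer B pt).card_mul_index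
    rw [MulAction.index_stabilizer, horb, hstab, hTBcard] at h
    have h15 : ({w : F.W | w ≠ 1} : Set F.W).ncard = 15 := by
      have : ({w : F.W | w ≠ 1} : Set F.W) = ({1} : Set F.W)ᶜ := rfl
      rw [this, Set.ncard_compl, Set.ncard_singleton, F.card_W]
    rw [h15] at h
    exact h.symm
  have hfac : (Nat.card B).factorization 2 = 2 := by
    rw [hBcard, show (60 : ℕ) = 2 ^ 2 * 15 by norm_num, Nat.factorization_mul (by norm_num) (by norm_num),
      Nat.Prime.factorization_pow Nat.prime_two]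
    simp [Nat.factorization_eq_zero_of_not_dvd (show ¬ 2 ∣ 15 by norm_num)]
  let P : Sylow 2 B := Sylow.ofCard TB (by rw [hfac, hTBcard]; rfl)
  have hP : (P : Subgroup B) = TB := Sylow.coe_ofCard ..
  have hBurn : normalizer ((P : Subgroup B) : Set B) ≤ centralizer ((P : Subgroup B) : Set B) := by
    rw [hP]
    intro b hb
    have hbT : b ∈ TB := by
      obtain ⟨_, n, rfl⟩ := b
      obtain ⟨S, -, hself⟩ := F.exists_sylow
      have h1 : ∀ t ∈ F.T, (n : G) * t * (n : G)⁻¹ ∈ F.T := by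
        intro t ht
        obtain ⟨m, hm, e⟩ := (mem_normalizer_iff.1 hb (ρ.rangeRestrict ⟨t, hTN ht⟩)).1
          ⟨⟨t, hTN ht⟩, ht, rfl⟩
        have h2 : ρ m = ρ (n * ⟨t, hTN ht⟩ * n⁻¹) := by
          rw [map_mul, map_mul, map_inv]; exact congrArg Subtype.val e
        have h3 : ρ ((n * ⟨t, hTN ht⟩ * n⁻¹) * m⁻¹) = 1 := by
          rw [map_mul, map_inv, h2, mul_inv_cancel]
        have h4 := F.T.mul_mem (F.W_le_T ((hρker _).1 h3)) (mem_subgroupOf.1 hm)
        simpa using h4
      exact ⟨n, hself (mem_normalizer_fintype h1), rfl⟩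
    rw [mem_centralizer_iff]
    intro c hc
    exact congrArg Subtype.val (IsPGroup.commutative_of_card_eq_prime_sq (p := 2) (G := TB)
      (by rw [hTBcard]; rfl) ⟨c, hc⟩ ⟨b, hbT⟩)
  have hcomp := MonoidHom.ker_transferSylow_isComplement' P hBurn
  set K := (MonoidHom.transferSylow P hBurn).ker with hK
  rw [hP] at hcomp
  have hKcard : Nat.card K = 15 := by
    have h := hcomp.card_mul
    rw [hTBcard, hBcard] at h
    omega
  let orb : K → {w : F.W // w ≠ 1} := fun x => ⟨((x : B) : Equiv.Perm F.W) pt, fun e =>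
    F.ne_one (congrArg Subtype.val (((x : B) : Equiv.Perm F.W).injective (e.trans (hone x).symm)))⟩
  have horb' : Function.Bijective orb := by
    have hsurj : Function.Surjective orb := by
      rintro ⟨w, hw⟩
      obtain ⟨b, hb⟩ : w ∈ MulAction.orbit B pt := by rw [horb]; exact hw
      obtain ⟨x, t, rfl⟩ : ∃ (x : K) (t : TB), (x : B) * t = b := by
        obtain ⟨⟨x, t⟩, h⟩ := (Equiv.ofBijective _ hcomp).surjective b
        exact ⟨x, t, h⟩
      refine ⟨x, Subtype.ext (Eq.trans ?_ hb)⟩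
      show ((x : B) : Equiv.Perm F.W) pt = ((x : B) : Equiv.Perm F.W) (((t : B) : Equiv.Perm F.W) pt)
      rw [hTfix t t.2]
    refine hsurj.bijective_of_nat_card_le ?_
    rw [hKcard]
    refine le_of_eq ?_
    haveI := Fintype.ofFinite F.W
    rw [Nat.card_eq_fintype_card, Fintype.card_subtype_compl, Fintype.card_subtype_eq,
      ← Nat.card_eq_fintype_card, F.card_W]
  haveI hKn : K.Normal := by rw [hK]; infer_instance
  have hfixcent : ∀ a (ha : inT a = true) (x : K),
      ((x : B) * ρ.rangeRestrict ⟨φ a, hTN ⟨a, ha, rfl⟩⟩ =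
          ρ.rangeRestrict ⟨φ a, hTN ⟨a, ha, rfl⟩⟩ * (x : B)) ↔
        φ a * ((((x : B) : Equiv.Perm F.W) pt : F.W) : G) * (φ a)⁻¹ =
          ((((x : B) : Equiv.Perm F.W) pt : F.W) : G) := by
    intro a ha x
    set tb := ρ.rangeRestrict ⟨φ a, hTN ⟨a, ha, rfl⟩⟩ with htb
    have htf : (tb : Equiv.Perm F.W) pt = pt := hTfix tb ⟨_, ⟨a, ha, rfl⟩, rfl⟩
    constructor
    · intro h
      have h2 := congrArg (fun b : B => (((b : Equiv.Perm F.W) pt : F.W) : G)) h
      simp only [Subgroup.coe_mul, Equiv.Perm.coe_mul, Function.comp_apply, htf] at h2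
      exact h2.symm
    · intro h
      let x' : K := ⟨tb * (x : B) * tb⁻¹, hKn.conj_mem _ x.2 tb⟩
      have h2 : orb x' = orb x := by
        refine Subtype.ext ?_
        show ((tb * (x : B) * tb⁻¹ : B) : Equiv.Perm F.W) pt = ((x : B) : Equiv.Perm F.W) pt
        have htf' : ((tb⁻¹ : B) : Equiv.Perm F.W) pt = pt := by
          rw [Subgroup.coe_inv, Equiv.Perm.inv_eq_iff_eq, htf]
        simp only [Subgroup.coe_mul, Equiv.Perm.coe_mul, Function.comp_apply, htf']
        exact Subtype.ext h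
      have h3 := congrArg Subtype.val (horb'.1 h2)
      show (x : B) * tb = tb * (x : B)
      exact (mul_inv_eq_iff_eq_mul.1 h3).symm
  -- centralisers of two involutions
  let CK : (a : M) → inT a = true → Subgroup K := fun a ha =>
    (centralizer ({ρ.rangeRestrict ⟨φ a, hTN ⟨a, ha, rfl⟩⟩} : Set B)).subgroupOf K
  have hCK : ∀ a ha (x : K), x ∈ CK a ha ↔
      φ a * ((((x : B) : Equiv.Perm F.W) pt : F.W) : G) * (φ a)⁻¹ =
        ((((x : B) : Equiv.Perm F.W) pt : F.W) : G) := fun a ha x => by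
    rw [← hfixcent a ha x, mem_subgroupOf, mem_centralizer_singleton_iff]
  have hcardCK : ∀ a ha, Nat.card (CK a ha) = (fixW a).length := by
    intro a ha
    have hex : ∀ x : CK a ha, ∃ b, b ∈ fixW a ∧
        φ b = ((((x : K) : B) : Equiv.Perm F.W) pt : F.W) := by
      intro x
      obtain ⟨b, hb, e⟩ := ((((x : K) : B) : Equiv.Perm F.W) pt).2
      refine ⟨b, ?_, e⟩
      simp only [fixW, List.mem_filter, Bool.and_eq_true, bne_iff_ne, beq_iff_eq]
      refine ⟨hb, fun e1 => (orb x).2 (Subtype.ext ?_), F.toCd.inj ?_⟩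
      · rw [← e, e1, F.toCd.map_one]; rfl
      · rw [cjg, ← F.toCd.conj_mem, e]; exact (hCK a ha x).1 x.2
    choose f' hf' using hex
    have hfin : (fixW a).Nodup := w_list.1.filter _
    rw [← List.toFinset_card_of_nodup hfin, ← Fintype.card_coe, ← Nat.card_eq_fintype_card]
    refine Nat.card_eq_of_bijective (fun x => ⟨f' x, List.mem_toFinset.2 (hf' x).1⟩) ⟨?_, ?_⟩
    · intro x y h
      refine Subtype.ext (horb'.1 (Subtype.ext (Subtype.ext ?_)))
      rw [show ((orb x : F.W) : G) = ((((x : K) : B) : Equiv.Perm F.W) pt : F.W) from rfl,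
        show ((orb y : F.W) : G) = ((((y : K) : B) : Equiv.Perm F.W) pt : F.W) from rfl,
        ← (hf' x).2, ← (hf' y).2]
      exact congrArg φ (congrArg Subtype.val h)
    · rintro ⟨b, hb⟩
      rw [List.mem_toFinset] at hb
      have hb' := hb
      simp only [fixW, List.mem_filter, Bool.and_eq_true, bne_iff_ne, beq_iff_eq] at hb'
      obtain ⟨x, hx⟩ := horb'.2 ⟨⟨φ b, b, hb'.1, rfl⟩,
        fun e => hb'.2.1 (F.toCd.inj ((congrArg Subtype.val e).trans F.toCd.map_one.symm))⟩
      have hxb : ((((x : B) : Equiv.Perm F.W) pt : F.W) : G) = φ b :=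
        congrArg (fun w : {w : F.W // w ≠ 1} => ((w : F.W) : G)) hx
      have hxC : x ∈ CK a ha := (hCK a ha x).2 (by
        rw [hxb, F.toCd.conj_mem]; exact congrArg φ hb'.2.2)
      exact ⟨⟨x, hxC⟩, Subtype.ext (F.toCd.inj ((hf' ⟨x, hxC⟩).2.trans hxb))⟩
  obtain ⟨h1, h2, ht, hs, b, hb, hbn⟩ := fix_spec
  haveI := Fact.mk (show Nat.Prime 3 by norm_num)
  have hK3 : (Nat.card K).factorization 3 = 1 := by
    rw [hKcard, show (15 : ℕ) = 3 * 5 by norm_num, Nat.factorization_mul (by norm_num) (by norm_num)]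
    simp [Nat.Prime.factorization_self (show Nat.Prime 3 by norm_num),
      Nat.factorization_eq_zero_of_not_dvd (show ¬ 3 ∣ 5 by norm_num)]
  let P1 : Sylow 3 K := Sylow.ofCard (CK tauM ht) (by rw [hK3, hcardCK tauM ht, h1]; rfl)
  let P2 : Sylow 3 K := Sylow.ofCard (CK sigM hs) (by rw [hK3, hcardCK sigM hs, h2]; rfl)
  have hsub : Subsingleton (Sylow 3 K) := by
    refine (Nat.card_eq_one_iff_unique.1 ?_).1
    have hd := P1.card_dvd_index
    have hidx : (P1 : Subgroup K).index = 5 := by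
      have h := (P1 : Subgroup K).card_mul_index
      rw [Sylow.coe_ofCard, hcardCK tauM ht, h1, hKcard] at h
      rw [Sylow.coe_ofCard]
      omega
    rw [hidx] at hd
    have hmod := card_sylow_modEq_one 3 K
    rcases (Nat.dvd_prime (by norm_num)).1 hd with e | e
    · exact e
    · rw [e] at hmod
      exact absurd hmod (by decide)
  have heq : CK tauM ht = CK sigM hs := by
    have e := congrArg (fun P : Sylow 3 K => (P : Subgroup K)) (Subsingleton.elim P1 P2)
    simpa [P1, P2, Sylow.coe_ofCard] using e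
  simp only [fixW, List.mem_filter, Bool.and_eq_true, bne_iff_ne, beq_iff_eq] at hb hbn
  obtain ⟨x, hx⟩ := horb'.2 ⟨⟨φ b, b, hb.1, rfl⟩,
    fun e => hb.2.1 (F.toCd.inj ((congrArg Subtype.val e).trans F.toCd.map_one.symm))⟩
  have hxb : ((((x : B) : Equiv.Perm F.W) pt : F.W) : G) = φ b :=
    congrArg (fun w : {w : F.W // w ≠ 1} => ((w : F.W) : G)) hx
  have hmem : x ∈ CK tauM ht := (hCK tauM ht x).2 (by
    rw [hxb, F.toCd.conj_mem]; exact congrArg φ hb.2.2)
  rw [heq] at hmem
  have h3 := (hCK sigM hs x).1 hmem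
  rw [hxb, F.toCd.conj_mem] at h3
  exact hbn ⟨hb.1, hb.2.1, F.toCd.inj h3⟩

/-- Exactly two classes inside and one outside are fused. -/
theorem shape_eq [IsSimpleGroup G] : ∃ f : Fin 5 → Bool,
    (∀ a, flagSet f a = true ↔ IsConj s (φ a)) ∧ shape f = (2, 1) := by
  obtain ⟨f, hf, h | h | h⟩ := F.patterns
  · exact (F.not_one_fused hf h).elim
  · exact ⟨f, hf, h⟩
  · exact (F.not_all_fused hf h).elim

end Fz

end Cfsg.Agent.SymThirtyTwo
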