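import Cfsg.Agent.Lib.SymThirtyTwo.Frame

/-
Conjugates of the central involution inside its centraliser (helper22).

* `eList k` : the three elementary abelian subgroups of order eight
* `Cd.exists_fused` : a conjugate in the extraspecial subgroup lies in one of them, and `t * t = 1`
* `Cd.noncomm_part` : such a conjugate is a commutator of two conjugates of elements of `Q`
-/

set_option autoImplicit false
set_option synthInstance.maxSize 4096

namespace Cfsg.Agent.SymThirtyTwo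

/-- The inverse in a model. -/
def minv (sw d : Bool) (g : M) : M :=
  if g.2.2 then (tau sw (sigPow (-g.2.1) (qmul (qinv g.1) (sgn d))), g.2.1, true)
  else (sigPow (-g.2.1) (qinv g.1), -g.2.1, false)

/-- The commutator in a model. -/
def com (sw d : Bool) (w g : M) : M :=
  mm sw d (mm sw d w g) (mm sw d (minv sw d w) (minv sw d g))

def isInv (sw d : Bool) (a : M) : Bool := mm sw d a a == oneM && a != oneM

def inQ (a : M) : Bool := a.2.1 == 0 && !a.2.2

def sigN (k : Fin 3) (v : V2) : V2 := if k = 0 then v else if k = 1 then sig v else sig (sig v)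

/-- Membership in one of the three elementary abelian subgroups of order eight. -/
def inE (k : Fin 3) (a : M) : Bool := inQ a && a.1.2.2 == sigN k a.1.2.1

def qList : List M := qs.map fun q => (q, 0, false)

def eList (k : Fin 3) : List M := qList.filter (inE k)

/-- A representative of the `k`-th class. -/
def repE (k : Fin 3) : M := ((false, (false, true), sigN k (false, true)), 0, false)

/-- A representative of a class of involutions outside the extraspecial subgroup. -/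
def outE (c : Bool) : M := (sgn c, 0, true)

/-- The three subgroups which are normal. -/
def okE (sw : Bool) (k : Fin 3) : Bool := sw || k == 0

/-- `b` is the commutator of two involutions commuting with it. -/
def nc (sw d : Bool) (b : M) : Bool :=
  let C := all.filter fun u => isInv sw d u && mm sw d u b == mm sw d b u
  C.any fun u => C.any fun v => mm sw d u v == mm sw d (mm sw d v u) b

theorem minv_spec : ∀ sw ∈ bools, ∀ d ∈ bools, ∀ a ∈ all,
    mm sw d a (minv sw d a) = oneM := by decide +kernel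

theorem pc_spec : ∀ sw ∈ bools, ∀ d ∈ bools, ∀ a ∈ qList, isInv sw d a → a ≠ cs →
    ∃ u ∈ qList, isInv sw d u ∧ mm sw d u a = mm sw d a u ∧
      ∃ v ∈ qList, isInv sw d v ∧ mm sw d v a = mm sw d a v ∧
        mm sw d u v = mm sw d (mm sw d v u) cs := by decide +kernel

theorem nc_spec : ∀ sw ∈ bools, ∀ d ∈ bools, ∀ b ∈ all, isInv sw d b → b ≠ cs →
    nc sw d b = true → d = false ∧ ∃ k ∈ ([0, 1, 2] : List (Fin 3)), okE sw k ∧ inE k b := by
  decide +kernel

theorem mem_bools (b : Bool) : b ∈ bools := by cases b <;> decide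

theorem mem_fin (k : Fin 3) : k ∈ ([0, 1, 2] : List (Fin 3)) := by revert k; decide

theorem mem_qList {a : M} : a ∈ qList ↔ inQ a = true := by
  revert a
  decide +kernel

theorem mm_one : ∀ sw d : Bool, mm sw d oneM oneM = oneM := by decide +kernel

theorem isInv_cs {sw d : Bool} : isInv sw d cs = true := by
  revert sw d
  decide +kernel

theorem nc_of_images {sw d : Bool} {a u v : M} (hu : mm sw d u a = mm sw d a u) (hv : mm sw d v a = mm sw d a v)
    (hui : isInv sw d u = true) (hvi : isInv sw d v = true)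
    (h : mm sw d u v = mm sw d (mm sw d v u) a) : nc sw d a = true := by
  simp only [nc, List.any_eq_true, List.mem_filter, Bool.and_eq_true, beq_iff_eq]
  exact ⟨u, ⟨mem_all u, hui, hu⟩, v, ⟨mem_all v, hvi, hv⟩, h⟩

namespace Cd

variable {G : Type*} [Group G] {s : G} {sw d : Bool} (c : Cd s sw d)

theorem map_one : c.φ oneM = 1 := by
  have h : c.φ oneM * c.φ oneM = c.φ oneM := by
    rw [c.mul]
    exact congrArg c.φ (mm_one sw d)
  exact mul_eq_left.1 h

theorem map_inv (a : M) : c.φ (minv sw d a) = (c.φ a)⁻¹ :=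
  eq_inv_of_mul_eq_one_right
    (by rw [c.mul, minv_spec sw (mem_bools _) d (mem_bools _) a (mem_all a), c.map_one])

theorem map_com (a b : M) : c.φ (com sw d a b) = c.φ a * c.φ b * (c.φ a)⁻¹ * (c.φ b)⁻¹ := by
  rw [com, ← c.mul, ← c.mul, ← c.mul, c.map_inv, c.map_inv]
  simp only [mul_assoc]

theorem eq_iff {a b : M} : c.φ a = c.φ b ↔ a = b := c.inj.eq_iff

theorem commute_iff {a b : M} : Commute (c.φ a) (c.φ b) ↔ mm sw d a b = mm sw d b a := by
  rw [Commute, SemiconjBy, c.mul, c.mul, c.eq_iff]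

theorem conj_mem (a g : M) :
    c.φ g * c.φ a * (c.φ g)⁻¹ = c.φ (mm sw d (mm sw d g a) (minv sw d g)) := by
  rw [← c.map_inv, c.mul, c.mul]

theorem isConj_of_eq {a b g : M} (h : mm sw d g a = mm sw d b g) : IsConj (c.φ a) (c.φ b) :=
  isConj_iff.2 ⟨c.φ g, by rw [c.mul, h, ← c.mul, mul_inv_cancel_right]⟩

theorem isInv_of_isConj {a b : M} (h : IsConj (c.φ a) (c.φ b)) (ha : isInv sw d a = true) :
    isInv sw d b = true := by
  obtain ⟨g, hg⟩ := isConj_iff.1 h
  simp only [isInv, Bool.and_eq_true, beq_iff_eq, bne_iff_ne] at ha ⊢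
  refine ⟨c.inj ?_, fun e => ha.2 (c.inj ?_)⟩
  · rw [← c.mul, ← hg, show g * c.φ a * g⁻¹ * (g * c.φ a * g⁻¹) = g * (c.φ a * c.φ a) * g⁻¹ by group,
      c.mul, ha.1, c.map_one]
    group
  · rw [e, c.map_one] at hg
    rw [c.map_one]
    calc c.φ a = g⁻¹ * (g * c.φ a * g⁻¹) * g := by group
      _ = 1 := by rw [hg]; group

/-- Conjugation of `s` to `φ a` carries the centraliser of `a` to that of another element. -/
theorem partner {a : M} {g : G} (hg : g * s * g⁻¹ = c.φ a) : ∃ b, c.φ b = g⁻¹ * s * g ∧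
    ∀ u, mm sw d u b = mm sw d b u →
      ∃ w, c.φ w = g * c.φ u * g⁻¹ ∧ mm sw d w a = mm sw d a w := by
  have hsa : Commute s (g * s * g⁻¹) := by rw [hg]; exact (c.comm a).symm
  have hb : Commute (g⁻¹ * s * g) s := by
    show g⁻¹ * s * g * s = s * (g⁻¹ * s * g)
    calc g⁻¹ * s * g * s = g⁻¹ * (s * (g * s * g⁻¹)) * g := by group
      _ = g⁻¹ * (g * s * g⁻¹ * s) * g := by rw [hsa.eq]
      _ = _ := by group
  obtain ⟨b, hb'⟩ := c.surj _ hb
  refine ⟨b, hb', fun u hu => ?_⟩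
  have hu' : Commute (c.φ u) (g⁻¹ * s * g) := hb' ▸ c.commute_iff.2 hu
  have h1 : Commute (g * c.φ u * g⁻¹) s := by
    show g * c.φ u * g⁻¹ * s = s * (g * c.φ u * g⁻¹)
    calc g * c.φ u * g⁻¹ * s = g * (c.φ u * (g⁻¹ * s * g)) * g⁻¹ := by group
      _ = g * (g⁻¹ * s * g * c.φ u) * g⁻¹ := by rw [hu'.eq]
      _ = _ := by group
  obtain ⟨w, hw⟩ := c.surj _ h1
  refine ⟨w, hw, c.commute_iff.1 ?_⟩
  rw [hw, ← hg]
  exact (SemiconjBy.conj_iff).2 (c.comm u)

/-- The images of two elements of `Q` whose commutator is the conjugate `φ a`. -/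
theorem images {a b : M} {g : G} (hg : g * s * g⁻¹ = c.φ a) (hb : c.φ b = g⁻¹ * s * g)
    (hbQ : inQ b = true) (hbI : isInv sw d b = true) (hb1 : b ≠ cs) :
    ∃ u v : M, inQ u = true ∧ inQ v = true ∧ isInv sw d u = true ∧ isInv sw d v = true ∧
      mm sw d u b = mm sw d b u ∧ mm sw d v b = mm sw d b v ∧
      ∃ u' v', c.φ u' = g * c.φ u * g⁻¹ ∧ c.φ v' = g * c.φ v * g⁻¹ ∧
        mm sw d u' a = mm sw d a u' ∧ mm sw d v' a = mm sw d a v' ∧
        isInv sw d u' = true ∧ isInv sw d v' = true ∧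
        mm sw d u' v' = mm sw d (mm sw d v' u') a := by
  obtain ⟨u, hu, hui, hub, v, hv, hvi, hvb, huv⟩ :=
    pc_spec sw (mem_bools _) d (mem_bools _) b (mem_qList.2 hbQ) hbI hb1
  obtain ⟨b', hb', hpar⟩ := c.partner hg
  obtain rfl : b' = b := c.inj (hb'.trans hb.symm)
  obtain ⟨u', hu', hu'a⟩ := hpar u hub
  obtain ⟨v', hv', hv'a⟩ := hpar v hvb
  refine ⟨u, v, mem_qList.1 hu, mem_qList.1 hv, hui, hvi, hub, hvb, u', v', hu', hv', hu'a, hv'a,
    c.isInv_of_isConj (isConj_iff.2 ⟨g, hu'.symm⟩) hui,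
    c.isInv_of_isConj (isConj_iff.2 ⟨g, hv'.symm⟩) hvi, c.inj ?_⟩
  rw [← c.mul, ← c.mul, ← c.mul, hu', hv', ← hg]
  have e := congrArg c.φ huv
  rw [← c.mul, ← c.mul, ← c.mul, c.map_cs] at e
  calc g * c.φ u * g⁻¹ * (g * c.φ v * g⁻¹) = g * (c.φ u * c.φ v) * g⁻¹ := by group
    _ = g * (c.φ v * c.φ u * s) * g⁻¹ := by rw [e]
    _ = _ := by group

/-- A conjugate of `s` in `Q` lies in one of the normal elementary abelian subgroups. -/
theorem fused_mem {a : M} (ha : inQ a = true) (ha1 : a ≠ cs) (h : IsConj s (c.φ a)) :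
    d = false ∧ ∃ g, g * s * g⁻¹ = c.φ a ∧ ∃ b, c.φ b = g⁻¹ * s * g ∧ inQ b = true ∧ b ≠ cs ∧
      isInv sw d b = true ∧ ∃ k, okE sw k = true ∧ inE k a = true := by
  obtain ⟨g, hg⟩ := isConj_iff.1 h
  have hsa : IsConj (c.φ cs) (c.φ a) := by rwa [c.map_cs]
  have haI : isInv sw d a = true := c.isInv_of_isConj hsa isInv_cs
  obtain ⟨b, hb, -⟩ := c.partner hg
  have hbI : isInv sw d b = true :=
    c.isInv_of_isConj (a := cs) (isConj_iff.2 ⟨g⁻¹, by rw [c.map_cs, inv_inv, hb]⟩) isInv_cs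
  have hb1 : b ≠ cs := by
    rintro rfl
    rw [c.map_cs] at hb
    refine ha1 (c.inj ?_)
    rw [c.map_cs, ← hg]
    nth_rw 1 [hb]
    group
  have hg' : g⁻¹ * s * g⁻¹⁻¹ = c.φ b := by rw [inv_inv, hb]
  have ha' : c.φ a = g⁻¹⁻¹ * s * g⁻¹ := by rw [inv_inv, hg]
  obtain ⟨u, v, -, -, -, -, -, -, u', v', -, -, h1, h2, h3, h4, h5⟩ := c.images hg' ha' ha haI ha1
  obtain ⟨hd, k, -, hk, hbk⟩ := nc_spec sw (mem_bools _) d (mem_bools _) b (mem_all b) hbI hb1
    (nc_of_images h1 h2 h3 h4 h5)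
  have hbQ : inQ b = true := (Bool.and_eq_true_iff.1 hbk).1
  obtain ⟨u, v, -, -, -, -, -, -, u', v', -, -, h1, h2, h3, h4, h5⟩ := c.images hg hb hbQ hbI hb1
  obtain ⟨-, l, -, hl, hal⟩ := nc_spec sw (mem_bools _) d (mem_bools _) a (mem_all a) haI ha1
    (nc_of_images h1 h2 h3 h4 h5)
  exact ⟨hd, g, hg, b, hb, hbQ, hb1, hbI, l, hl, hal⟩

theorem exists_fused (h : ∃ a, inQ a = true ∧ a ≠ cs ∧ IsConj s (c.φ a)) :
    d = false ∧ ∃ k, okE sw k = true ∧ IsConj s (c.φ (repE k)) := by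
  obtain ⟨a, ha, ha1, hca⟩ := h
  obtain ⟨hd, -, -, -, -, -, -, -, k, hk, hak⟩ := c.fused_mem ha ha1 hca
  have haI : isInv sw d a = true := c.isInv_of_isConj (by rwa [c.map_cs]) isInv_cs
  subst hd
  have key : ∀ sw ∈ bools, ∀ k ∈ ([0, 1, 2] : List (Fin 3)), ∀ a ∈ qList, okE sw k → inE k a →
      isInv sw false a → a ≠ cs → ∃ g ∈ all, mm sw false g a = mm sw false (repE k) g := by
    decide +kernel
  obtain ⟨g, -, hga⟩ := key sw (mem_bools _) k (mem_fin k) a (mem_qList.2 ha) hk hak haI ha1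
  exact ⟨rfl, k, hk, hca.trans (c.isConj_of_eq hga)⟩

end Cd

end Cfsg.Agent.SymThirtyTwo
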