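import Cfsg.Agent.Lib.SymThirtyTwo.Rep
import Cfsg.Agent.S0213

/-
The group is the alternating group of degree eight or nine (helper22).

* `Nm.identify` : by the order formula and the action on the cosets of a subgroup
-/

set_option autoImplicit false
set_option synthInstance.maxSize 4096
set_option maxRecDepth 100000

open Subgroup

namespace Cfsg.Agent.SymThirtyTwo

/-- A simple group with a subgroup of index nine and the right order is alternating. -/
theorem iso_alt_nine {G : Type*} [Group G] [Finite G] [IsSimpleGroup G] (H : Subgroup G)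
    (hidx : H.index = 9) (hG : Nat.card G = 181440) :
    Nonempty (G ≃* alternatingGroup (Fin 9)) := by
  classical
  haveI := Fintype.ofFinite (G ⧸ H)
  have hc : Fintype.card (G ⧸ H) = 9 := by rw [← Nat.card_eq_fintype_card]; exact hidx
  let e := Fintype.equivFinOfCardEq hc
  let ρ : G →* Equiv.Perm (Fin 9) :=
    e.permCongrHom.toMonoidHom.comp (MulAction.toPermHom G (G ⧸ H))
  have hρ : Function.Injective ρ := by
    rw [← MonoidHom.ker_eq_bot_iff]
    refine (MonoidHom.normal_ker ρ).eq_bot_or_eq_top.resolve_right fun h => ?_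
    have hH : H = ⊤ := by
      refine eq_top_iff.2 fun g _ => ?_
      have hg : ρ g = 1 := MonoidHom.mem_ker.1 (h ▸ mem_top g)
      have hg' : MulAction.toPermHom G (G ⧸ H) g = 1 :=
        e.permCongrHom.injective (hg.trans (map_one e.permCongrHom).symm)
      have h1 : g • ((1 : G) : G ⧸ H) = ((1 : G) : G ⧸ H) :=
        congrArg (fun p : Equiv.Perm (G ⧸ H) => p ((1 : G) : G ⧸ H)) hg'
      rw [MulAction.Quotient.smul_coe, smul_eq_mul, mul_one] at h1
      simpa using QuotientGroup.eq.1 h1.symm
    rw [hH, index_top] at hidx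
    omega
  have hsign : ∀ g, Equiv.Perm.sign (ρ g) = 1 := by
    rcases (MonoidHom.normal_ker (Equiv.Perm.sign.comp ρ)).eq_bot_or_eq_top with h | h
    · exfalso
      have := Nat.card_le_card_of_injective _ (MonoidHom.ker_eq_bot_iff _ |>.1 h)
      rw [hG, Nat.card_eq_fintype_card, Fintype.card_units_int] at this
      omega
    · exact fun g => MonoidHom.mem_ker.1 (h ▸ mem_top g : g ∈ (Equiv.Perm.sign.comp ρ).ker)
  let f : G →* alternatingGroup (Fin 9) :=
    ρ.codRestrict _ fun g => Equiv.Perm.mem_alternatingGroup.2 (hsign g)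
  refine ⟨MulEquiv.ofBijective f ((Nat.bijective_iff_injective_and_card _).2
    ⟨fun a b h => hρ (congrArg Subtype.val h), ?_⟩)⟩
  rw [hG, nat_card_alternatingGroup, Nat.card_fin]
  rfl

namespace Nm

variable {G : Type*} [Group G] {s : G} (N : Nm s) [Finite G]

local notation "φ" => N.toCd.φ

include N

/-- The order formula. -/
theorem card_formula {π : centralizer ({φ uM} : Set G) →* Equiv.Perm (Fin 9)}
    (hπ : Function.Injective π)
    (htab : ∀ a (ha : a ∈ t32), img9 (π ⟨φ a, N.t32_mem ha⟩) = tabImg a)
    {L : List (List (Fin 9))} (hL : L.Nodup) (hach : ∀ l ∈ L, ∃ x, img9 (π x) = l)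
    (hcard : Nat.card (centralizer ({φ uM} : Set G)) = L.length) (hord : ordOK L = true) :
    Nat.card G = L.length * 156 + 192 * (cnt9 L).length := by
  rw [S0213.result s (φ uM) N.toFz.orderOf_s N.orderOf_u N.not_conj fun t ht => N.two_classes ht,
    N.card_pairs_s, N.card_pairs_u π hπ htab L hL hach hcard (of_ordOK hord), hcard,
    N.toFz.card_cent]

/-- The group is alternating of degree eight or nine. -/
theorem identify [IsSimpleGroup G] :
    Nonempty (G ≃* alternatingGroup (Fin 8)) ∨ Nonempty (G ≃* alternatingGroup (Fin 9)) := by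
  classical
  obtain ⟨L⟩ := N.exists_loc
  obtain ⟨ψ, hψi, -⟩ := L.exists_inj
  obtain ⟨K, hKc, hKn, hKt, hdK, hsplit, hX, hcus, h12 | h60⟩ := L.exists_core
  · left
    have h96 : Nat.card (centralizer ({φ uM} : Set G)) = 96 := by rw [hX, h12]
    obtain ⟨π, hπ, htab, hach⟩ := L.exists_rep_eight h96
    have hG := N.card_formula hπ htab cent8_shape.1 hach (h96.trans cent8_shape.2.1.symm) cent8_ord
    rw [cent8_shape.2.1, cent8_pairs] at hG
    refine ⟨(MulEquiv.ofBijective ψ ((Nat.bijective_iff_injective_and_card _).2 ⟨hψi, ?_⟩)).symm⟩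
    rw [hG, nat_card_alternatingGroup, Nat.card_fin]
    rfl
  · right
    obtain ⟨π, hπ, htab, hach⟩ := L.exists_rep_nine hKc hKn hKt hdK hsplit hcus h60
    have h480 : Nat.card (centralizer ({φ uM} : Set G)) = 480 := by rw [hX, h60]
    have hG := N.card_formula hπ htab cent9_shape.1 hach (h480.trans cent9_shape.2.1.symm) cent9_ord
    rw [cent9_shape.2.1, cent9_pairs] at hG
    have hG' : Nat.card G = 181440 := by rw [hG]
    have hA : Nat.card (alternatingGroup (Fin 8)) = 20160 := by
      rw [nat_card_alternatingGroup, Nat.card_fin]; rfl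
    refine iso_alt_nine ψ.range ?_ hG'
    have h := ψ.range.card_mul_index
    rw [← Nat.card_congr (MonoidHom.ofInjective hψi).toEquiv, hA, hG'] at h
    omega

end Nm

end Cfsg.Agent.SymThirtyTwo
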