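import Cfsg.Agent.Lib.SymThirtyTwo.Embed

/-
The five points of the centraliser of `uM` when its normal subgroup has order 60 (helper22).

* `Loc.exists_labels` : the homomorphism into the symmetric group of degree five
-/

set_option autoImplicit false
set_option synthInstance.maxSize 4096
set_option maxRecDepth 100000

open Subgroup

namespace Cfsg.Agent.SymThirtyTwo

/-- The elements of the four-group in the order of the points. -/
def ptM : Fin 4 → M := ![oneM, usM, v2M, mm true false usM v2M]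

def fins4 : List (Fin 4) := [0, 1, 2, 3]

theorem pt_facts : (∀ i ∈ fins4, ptM i ∈ vpList) ∧
    (∀ i ∈ fins4, ∀ j ∈ fins4, ∃ k ∈ fins4, mm true false (ptM i) (ptM j) = ptM k ∧
      (k = 0 → i = j)) ∧
    (∀ b ∈ vpList, b = oneM ∨ b = usM ∨ b = v2M ∨ b = mm true false usM v2M) ∧
    (∀ i ∈ fins4, i ≠ 0 → ptM i ≠ oneM) := by decide +kernel

theorem gen_moves : ∀ i ∈ fins4,
    ((pτ i.castSucc).val < 4 ∧ ∃ k ∈ fins4, pτ i.castSucc = k.castSucc ∧
      cjg true tauM (ptM i) = ptM k) ∧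
    (∃ k ∈ fins4, pus i.castSucc = k.castSucc ∧ mm true false usM (ptM i) = ptM k) ∧
    (∃ k ∈ fins4, pv2 i.castSucc = k.castSucc ∧ mm true false v2M (ptM i) = ptM k) ∧
    (∃ k ∈ fins4, pd i.castSucc = k.castSucc ∧ dW (ptM i) = ptM k ∧ (i ≠ 0 → k ≠ i)) ∧
    cjg true vM (ptM i) = ptM i ∧ cjg true uM (ptM i) = ptM i := by decide +kernel

theorem gen_top : pτ 4 = 4 ∧ pus 4 = 4 ∧ pv2 4 = 4 ∧ pd 4 = 4 := by decide +kernel

theorem stab_words : ∀ b ∈ vpList, ∀ i ∈ ([0, 1, 2] : List ℕ),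
    (img8 (wval perm8 (List.replicate i 8 ++ wordM b) *
      wval perm8 (List.replicate i 8 ++ wordM b)) = List.finRange 8 → i = 0) ∧
    (∀ b' ∈ vpList, ∀ j ∈ ([0, 1, 2] : List ℕ),
      img8 (wval perm8 (List.replicate i 8 ++ wordM b)) =
        img8 (wval perm8 (List.replicate j 8 ++ wordM b')) → i = j ∧ b = b') := by decide +kernel

theorem stab_perm : ∀ b ∈ vpList, ∀ i ∈ ([0, 1, 2] : List ℕ),
    pd ^ i * rtab b = 1 → i = 0 ∧ b = oneM := by decide +kernel

theorem vp_norm : ∀ a ∈ dList, ∀ b ∈ vpList, cjg true a b ∈ vpList := by decide +kernel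

theorem vp_norm32 : ∀ a ∈ t32, ∀ b ∈ vpList, cjg true a b ∈ vpList := by decide +kernel

/-- The conjugate of a subgroup. -/
def cjs {G : Type*} [Group G] (g : G) (H : Subgroup G) : Subgroup G :=
  H.map (MulAut.conj g).toMonoidHom

theorem cjs_mul {G : Type*} [Group G] (g h : G) (H : Subgroup G) :
    cjs (g * h) H = cjs g (cjs h H) := by
  rw [cjs, cjs, cjs, map_map]
  congr 1
  ext x
  simp [mul_assoc]

theorem cjs_one {G : Type*} [Group G] (H : Subgroup G) : cjs (1 : G) H = H := by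
  rw [cjs]; ext x; simp

theorem mem_cjs {G : Type*} [Group G] {g x : G} {H : Subgroup G} :
    x ∈ cjs g H ↔ g⁻¹ * x * g ∈ H := by
  constructor
  · rintro ⟨y, hy, rfl⟩
    show g⁻¹ * (g * y * g⁻¹) * g ∈ H
    rwa [show g⁻¹ * (g * y * g⁻¹) * g = y by group]
  · intro h
    exact ⟨_, h, show g * (g⁻¹ * x * g) * g⁻¹ = x by group⟩

namespace Loc

variable {G : Type*} [Group G] {s : G} {N : Nm s} (L : Loc N) [Finite G]

local notation "φ" => N.toCd.φ

include L

omit [Finite G] in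
theorem dpow3 : L.d ^ 3 = 1 := by rw [pow_succ, pow_two, L.d3]

theorem dconj (i : ℕ) {b : M} (hb : b ∈ vpList) :
    ∃ b' ∈ vpList, L.d ^ i * φ b * (L.d ^ i)⁻¹ = φ b' := by
  have hvv : ∀ v ∈ vpList, dW v ∈ vpList := by decide +kernel
  induction i with
  | zero => exact ⟨b, hb, by group⟩
  | succ i ih =>
    obtain ⟨b', hb', e⟩ := ih
    refine ⟨dW b', hvv b' hb', ?_⟩
    rw [← L.act (vp_facts b' hb').1, ← e, pow_succ']
    group

/-- The homomorphism into the permutations of five points. -/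
theorem exists_labels {K : Subgroup G} (hKc : ∀ x ∈ K, Commute x (φ uM))
    (hKn : ∀ g, Commute g (φ uM) → ∀ x ∈ K, g * x * g⁻¹ ∈ K)
    (hKt : ∀ a ∈ t32, φ a ∈ K ↔ a ∈ vpList) (hdK : L.d ∈ K)
    (hsplit : ∀ g, Commute g (φ uM) → ∃ k ∈ K, ∃ a ∈ dList, k * φ a = g)
    (hcus : ∀ k ∈ K, Commute k (φ usM) → ∃ a ∈ vpList, φ a = k)
    (h60 : Nat.card K = 60) :
    ∃ ρ : centralizer ({φ uM} : Set G) →* Equiv.Perm (Fin 5),
      (∀ a (ha : a ∈ t32), ρ ⟨φ a, N.t32_mem ha⟩ = rtab a) ∧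
      (∀ x : centralizer ({φ uM} : Set G), (x : G) ∈ K → ρ x = 1 → x = 1) ∧
      (∀ e : Equiv.Perm (Fin 5), Equiv.Perm.sign e = 1 →
        ∃ x : centralizer ({φ uM} : Set G), (x : G) ∈ K ∧ ρ x = e) := by
  classical
  haveI := Fact.mk (show Nat.Prime 3 by norm_num)
  obtain ⟨ψ, hψi, hψ⟩ := L.exists_inj
  obtain ⟨hpt, hptmul, hvp4, hpt0⟩ := pt_facts
  have ht6 := t32_facts.2.2.2.2.2
  have hvpT : ∀ b ∈ vpList, b ∈ t32 := fun b hb =>
    ht6 b (List.contains_iff_mem.1 (vp_facts b hb).1)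
  have hvpK : ∀ b ∈ vpList, φ b ∈ K := fun b hb => (hKt b (hvpT b hb)).2 hb
  set V := listSub N vpList (by decide +kernel) (by decide +kernel) (by decide +kernel) with hV
  have hVmem : ∀ {x : G}, x ∈ V ↔ ∃ b ∈ vpList, φ b = x := Iff.rfl
  have hVcard : Nat.card V = 4 := (N.card_listSub _ _ _ (by decide +kernel)).trans rfl
  have hnormV : ∀ g : G, (∀ b ∈ vpList, ∃ b' ∈ vpList, g * φ b * g⁻¹ = φ b') → cjs g V = V := by
    intro g hg
    refine eq_of_le_of_card_ge ?_ (le_of_eq ?_)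
    · rintro _ ⟨_, ⟨b, hb, rfl⟩, rfl⟩
      obtain ⟨b', hb', e⟩ := hg b hb
      exact ⟨b', hb', e.symm⟩
    · exact (card_map_of_injective (MulAut.conj g).injective).symm
  have ht32V : ∀ a ∈ t32, cjs (φ a) V = V := fun a ha => hnormV _ fun b hb =>
    ⟨_, vp_norm32 a ha b hb, N.conj_eq a b⟩
  have hdV : cjs L.d V = V := hnormV _ fun b hb => by
    obtain ⟨b', hb', e⟩ := L.dconj 1 hb
    exact ⟨b', hb', by simpa using e⟩
  have hword : ∀ (i : ℕ) (b : M),
      ψ (wval aA (List.replicate i 8 ++ wordM b)) = L.d ^ i * φ b := fun i b => by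
    rw [hψ, wval_append, L.wval_dpow, L.wval_word]
  -- the stabiliser
  have hstab : ∀ k ∈ K, cjs k V = V → ∃ i ∈ ([0, 1, 2] : List ℕ), ∃ b ∈ vpList,
      k = L.d ^ i * φ b := by
    intro k hk hkV
    have hmem : k * φ usM * k⁻¹ ∈ V := hkV ▸ ⟨φ usM, ⟨usM, by decide +kernel, rfl⟩, rfl⟩
    obtain ⟨b, hb, eb⟩ := hVmem.1 hmem
    obtain ⟨i, hi, ei⟩ : ∃ i ∈ ([0, 1, 2] : List ℕ), L.d ^ i * φ usM * (L.d ^ i)⁻¹ = φ b := by
      rcases hvp4 b hb with rfl | rfl | rfl | rfl
      · exfalso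
        rw [N.toCd.map_one] at eb
        exact absurd (N.toCd.inj ((conj_eq_one_iff.1 eb.symm).trans N.toCd.map_one.symm))
          (by decide +kernel)
      · exact ⟨0, by simp, by group⟩
      · exact ⟨1, by simp, by rw [pow_one]; exact L.dus⟩
      · refine ⟨2, by simp, ?_⟩
        rw [← L.dv2, ← L.dus, pow_two]; group
    obtain ⟨v, hv, ev⟩ := hcus ((L.d ^ i)⁻¹ * k) (mul_mem (inv_mem (pow_mem hdK i)) hk) (by
      show (L.d ^ i)⁻¹ * k * φ usM = φ usM * ((L.d ^ i)⁻¹ * k)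
      calc (L.d ^ i)⁻¹ * k * φ usM = (L.d ^ i)⁻¹ * (k * φ usM * k⁻¹) * k := by group
        _ = (L.d ^ i)⁻¹ * (L.d ^ i * φ usM * (L.d ^ i)⁻¹) * k := by rw [← eb, ei]
        _ = _ := by group)
    exact ⟨i, hi, v, hv, by rw [ev, mul_inv_cancel_left]⟩
  let S : Subgroup K :=
    { carrier := {k | cjs (k : G) V = V}
      mul_mem' := fun {a b} ha hb => by
        show cjs ((a : G) * b) V = V
        rw [cjs_mul, hb, ha]
      one_mem' := cjs_one V
      inv_mem' := fun {a} ha => by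
        show cjs (a : G)⁻¹ V = V
        conv_lhs => rw [← show cjs (a : G) V = V from ha]
        rw [← cjs_mul, inv_mul_cancel, cjs_one] }
  have hdpowV : ∀ i : ℕ, cjs (L.d ^ i) V = V := fun i => hnormV _ fun b hb => L.dconj i hb
  let Sf : Fin 3 × {b // b ∈ vpList} → S := fun p =>
    ⟨⟨L.d ^ (p.1 : ℕ) * φ p.2.1, mul_mem (pow_mem hdK _) (hvpK _ p.2.2)⟩, by
      show cjs (L.d ^ (p.1 : ℕ) * φ p.2.1) V = V
      rw [cjs_mul, ht32V _ (hvpT _ p.2.2), hdpowV]⟩
  have hfin : ∀ i : Fin 3, (i : ℕ) ∈ ([0, 1, 2] : List ℕ) := by decide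
  have hSf : Function.Bijective Sf := by
    refine ⟨?_, ?_⟩
    · rintro ⟨i, b, hb⟩ ⟨j, b', hb'⟩ h
      have h' : L.d ^ (i : ℕ) * φ b = L.d ^ (j : ℕ) * φ b' :=
        congrArg (fun x : S => ((x : K) : G)) h
      rw [← hword, ← hword] at h'
      have h'' := congrArg (fun x : alternatingGroup (Fin 8) => img8 (x : Equiv.Perm (Fin 8))) (hψi h')
      simp only [L.coe_wval] at h''
      obtain ⟨e1, e2⟩ := (stab_words b hb i (hfin i)).2 b' hb' j (hfin j) h''
      exact Prod.ext (Fin.ext e1) (Subtype.ext e2)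
    · rintro ⟨⟨k, hk⟩, hkS⟩
      obtain ⟨i, hi, b, hb, rfl⟩ := hstab k hk hkS
      have hi3 : i < 3 := by
        simp only [List.mem_cons, List.not_mem_nil, or_false] at hi
        omega
      exact ⟨(⟨i, hi3⟩, ⟨b, hb⟩), rfl⟩
  have hScard : Nat.card S = 12 := by
    rw [← Nat.card_eq_of_bijective Sf hSf, Nat.card_prod, Nat.card_fin,
      Nat.subtype_card vpList.toFinset (fun _ => List.mem_toFinset)]
    decide +kernel
  -- the orbit
  let Ω := {H : Subgroup G // ∃ k ∈ K, cjs k V = H}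
  have hΩ : Nat.card Ω = 5 := by
    let g : K ⧸ S → Ω := Quotient.lift (fun k : K => (⟨cjs (k : G) V, k, k.2, rfl⟩ : Ω))
      fun a b h => by
        refine Subtype.ext ?_
        have h' : cjs ((a⁻¹ * b : K) : G) V = V := QuotientGroup.leftRel_apply.1 h
        show cjs (a : G) V = cjs (b : G) V
        calc cjs (a : G) V = cjs (a : G) (cjs ((a⁻¹ * b : K) : G) V) := by rw [h']
          _ = _ := by rw [← cjs_mul]; simp
    have hg : Function.Bijective g := by
      refine ⟨fun p q => ?_, fun ⟨H, k, hk, e⟩ => ⟨QuotientGroup.mk ⟨k, hk⟩, Subtype.ext e⟩⟩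
      induction p using QuotientGroup.induction_on with
      | H a =>
        induction q using QuotientGroup.induction_on with
        | H b =>
          intro h
          have h' : cjs (a : G) V = cjs (b : G) V := congrArg Subtype.val h
          refine QuotientGroup.eq.2 ?_
          show cjs ((a⁻¹ * b : K) : G) V = V
          rw [Subgroup.coe_mul, cjs_mul, ← h', ← cjs_mul]
          simp [cjs_one]
    have h := S.card_mul_index
    rw [Subgroup.index, Nat.card_congr (Equiv.ofBijective g hg), hScard, h60] at h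
    omega
  set X := centralizer ({φ uM} : Set G) with hX
  have hXc : ∀ x : X, Commute (x : G) (φ uM) := fun x => N.mem_X.1 x.2
  have hclosed : ∀ (x : X) (H : Ω), ∃ k ∈ K, cjs k V = cjs (x : G) H.1 := by
    rintro x ⟨H, k, hk, rfl⟩
    obtain ⟨k', hk', a, ha, e⟩ := hsplit x (hXc x)
    refine ⟨(x : G) * k * (x : G)⁻¹ * k', mul_mem (hKn _ (hXc x) k hk) hk', ?_⟩
    show cjs ((x : G) * k * (x : G)⁻¹ * k') V = cjs (x : G) (cjs k V)
    have hxk : (x : G) * k * (x : G)⁻¹ * k' * φ a = (x : G) * k := by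
      rw [mul_assoc ((x : G) * k * (x : G)⁻¹), e]; group
    conv_lhs => rw [← ht32V a (d_list.2.2.2.1 a ha).1]
    rw [← cjs_mul, hxk, cjs_mul]
  letI act : MulAction X Ω :=
    { smul := fun x H => ⟨cjs (x : G) H.1, hclosed x H⟩
      one_smul := fun H => Subtype.ext (cjs_one H.1)
      mul_smul := fun x y H => Subtype.ext (cjs_mul (x : G) (y : G) H.1) }
  have hsmul : ∀ (x : X) (H : Ω), (x • H).1 = cjs (x : G) H.1 := fun _ _ => rfl
  let top : Ω := ⟨V, 1, one_mem _, cjs_one V⟩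
  let dX : X := ⟨L.d, N.mem_X.2 (hKc _ hdK)⟩
  let tX : (a : M) → a ∈ t32 → X := fun a ha => ⟨φ a, N.t32_mem ha⟩
  have htop : ∀ a (ha : a ∈ t32), tX a ha • top = top := fun a ha => Subtype.ext (ht32V a ha)
  have hdtop : dX • top = top := Subtype.ext hdV
  -- a second fixed point of `d`
  obtain ⟨q0, hq0, hq0ne⟩ : ∃ q : Ω, dX • q = q ∧ q ≠ top := by
    haveI : Fintype Ω := Fintype.ofFinite Ω
    let σ : Equiv.Perm Ω := MulAction.toPermHom X Ω dX
    have hσ : ∀ q, q ≠ top ↔ σ q ≠ top := fun q =>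
      not_congr ⟨fun h => h ▸ hdtop, fun h => smul_left_cancel dX (h.trans hdtop.symm)⟩
    have hd3' : dX ^ 3 = 1 := Subtype.ext L.dpow3
    obtain ⟨a, ha⟩ := Equiv.Perm.exists_fixed_point_of_prime (p := 3) (n := 1)
      (α := {q : Ω // q ≠ top}) (σ := σ.subtypePerm fun q => (hσ q).symm) (by
        rw [Fintype.card_subtype_compl, Fintype.card_subtype_eq, ← Nat.card_eq_fintype_card, hΩ]
        decide) (by
        rw [pow_one, Equiv.Perm.subtypePerm_pow]
        refine Equiv.ext fun q => Subtype.ext ?_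
        show (σ ^ 3) q.1 = q.1
        rw [← map_pow, hd3', map_one]
        rfl)
    exact ⟨a.1, congrArg Subtype.val ha, a.2⟩
  -- `usM` moves it
  have hus : usM ∈ t32 := t32_facts.2.2.1.2.2.2.2.1
  have husne : tX usM hus • q0 ≠ q0 := by
    intro hfix
    obtain ⟨k, hk, ek⟩ := q0.2
    have hfix' : cjs (φ usM) (cjs k V) = cjs k V := by
      rw [ek]; exact congrArg Subtype.val hfix
    set m := k⁻¹ * φ usM * k with hm
    have hmK : m ∈ K := mul_mem (mul_mem (inv_mem hk) (hvpK _ (by decide +kernel))) hk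
    have hmV : cjs m V = V := by
      rw [hm, cjs_mul, cjs_mul, hfix', ← cjs_mul, inv_mul_cancel, cjs_one]
    obtain ⟨i, hi, b, hb, e⟩ := hstab m hmK hmV
    have hm2 : m * m = 1 := by
      rw [hm]
      calc k⁻¹ * φ usM * k * (k⁻¹ * φ usM * k) = k⁻¹ * (φ usM * φ usM) * k := by group
        _ = 1 := by
          rw [N.toFz.sq_W (N.toFz.mem_W.2 (loc_facts.1 usM (by simp)))]; group
    have hi0 : i = 0 := by
      refine (stab_words b hb i hi).1 ?_
      rw [e, ← hword, ← map_mul, ← map_one ψ] at hm2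
      have := congrArg (fun x : alternatingGroup (Fin 8) => img8 (x : Equiv.Perm (Fin 8))) (hψi hm2)
      simp only [Subgroup.coe_mul, L.coe_wval, OneMemClass.coe_one] at this
      rw [this]
      decide +kernel
    rw [hi0, pow_zero, one_mul] at e
    refine hq0ne (Subtype.ext ?_)
    show q0.1 = V
    rw [← ek]
    refine eq_of_le_of_card_ge ?_ (le_of_eq (card_map_of_injective (MulAut.conj k).injective).symm)
    intro x hx
    obtain ⟨c, hc, ec⟩ := hVmem.1 (mem_cjs.1 hx)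
    have hxK : x ∈ K := by
      have h := mul_mem (mul_mem hk (hvpK c hc)) (inv_mem hk)
      rwa [ec, show k * (k⁻¹ * x * k) * k⁻¹ = x by group] at h
    obtain ⟨v, hv, ev⟩ := hcus x hxK (by
      have h := (SemiconjBy.conj_iff (b := k)).2 (N.toFz.comm_W
        (N.toFz.mem_W.2 (vp_facts c hc).1) (N.toFz.mem_W.2 (vp_facts b hb).1))
      rwa [ec, ← e, hm, show k * (k⁻¹ * x * k) * k⁻¹ = x by group,
        show k * (k⁻¹ * φ usM * k) * k⁻¹ = φ usM by group] at h)
    exact ⟨v, hv, ev⟩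
  let pX : Fin 4 → X := fun i => tX (ptM i) (hvpT _ (hpt i (by revert i; decide)))
  have hfins : ∀ i : Fin 4, i ∈ fins4 := by decide
  have hdp : ∀ i, ∃ k, pd i.castSucc = k.castSucc ∧ dX * pX i * dX⁻¹ = pX k ∧ (i ≠ 0 → k ≠ i) := by
    intro i
    obtain ⟨k, -, e1, e2, e3⟩ := (gen_moves i (hfins i)).2.2.2.1
    refine ⟨k, e1, Subtype.ext ?_, e3⟩
    show L.d * φ (ptM i) * L.d⁻¹ = φ (ptM k)
    rw [L.act (vp_facts _ (hpt i (hfins i))).1, e2]
  have hmul : ∀ i j, ∃ k, pX i * pX j = pX k ∧ (k = 0 → i = j) := by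
    intro i j
    obtain ⟨k, -, e1, e2⟩ := hptmul i (hfins i) j (hfins j)
    exact ⟨k, Subtype.ext ((N.toCd.mul _ _).trans (congrArg φ e1)), e2⟩
  have hp0 : pX 0 = 1 := Subtype.ext N.toCd.map_one
  have hpne : ∀ i, i ≠ 0 → pX i • q0 ≠ q0 := by
    intro i hi h
    apply husne
    have hconj : ∀ j k, dX * pX j * dX⁻¹ = pX k → pX k • q0 = q0 → pX j • q0 = q0 := by
      intro j k e hk
      have hdi : dX⁻¹ • q0 = q0 := by rw [inv_smul_eq_iff, hq0]
      calc pX j • q0 = (dX⁻¹ * pX k * dX) • q0 := by rw [← e]; group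
        _ = q0 := by rw [mul_smul, mul_smul, hq0, hk, hdi]
    have e12 : dX * pX 1 * dX⁻¹ = pX 2 := Subtype.ext L.dus
    have e23 : dX * pX 2 * dX⁻¹ = pX 3 := Subtype.ext L.dv2
    have h1 : pX 1 • q0 = q0 := by
      have h4 : ∀ j : Fin 4, j ≠ 0 → j = 1 ∨ j = 2 ∨ j = 3 := by decide
      rcases h4 i hi with rfl | rfl | rfl
      exacts [h, hconj 1 2 e12 h, hconj 1 2 e12 (hconj 2 3 e23 h)]
    exact h1
  let q : Fin 5 → Ω := Fin.snoc (fun i => pX i • q0) top
  have hqc : ∀ i : Fin 4, q i.castSucc = pX i • q0 := fun i => Fin.snoc_castSucc ..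
  have hq4 : q 4 = top := by
    show q (Fin.last 4) = top
    exact Fin.snoc_last ..
  have hinvo : ∀ i, pX i * pX i = 1 := by
    intro i
    refine Subtype.ext ?_
    exact N.toFz.sq_W (N.toFz.mem_W.2 (vp_facts _ (hpt i (hfins i))).1)
  have hqtop : ∀ i, pX i • q0 ≠ top := by
    intro i h
    refine hq0ne (smul_left_cancel (pX i) (h.trans ?_))
    exact (htop _ (hvpT _ (hpt i (hfins i)))).symm
  have hqinj : Function.Injective q := by
    intro a b h
    rcases Fin.eq_castSucc_or_eq_last a with ⟨i, rfl⟩ | rfl <;>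
      rcases Fin.eq_castSucc_or_eq_last b with ⟨j, rfl⟩ | rfl
    · rw [hqc, hqc] at h
      obtain ⟨k, ek, hk0⟩ := hmul j i
      by_contra hne
      have hk : k ≠ 0 := fun e => hne (by rw [hk0 e])
      refine hpne k hk ?_
      rw [← ek, mul_smul, h, ← mul_smul, hinvo, one_smul]
    · rw [hqc, show q (Fin.last 4) = top from Fin.snoc_last ..] at h
      exact absurd h (hqtop i)
    · rw [hqc, show q (Fin.last 4) = top from Fin.snoc_last ..] at h
      exact absurd h.symm (hqtop j)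
    · rfl
  have hqb : Function.Bijective q := hqinj.bijective_of_nat_card_le (by rw [hΩ, Nat.card_fin])
  let qe : Fin 5 ≃ Ω := Equiv.ofBijective q hqb
  -- uniqueness of the fixed point
  have huniq : ∀ r : Ω, dX • r = r → r ≠ top → r = q0 := by
    intro r hr hrt
    obtain ⟨a, rfl⟩ := hqb.2 r
    rcases Fin.eq_castSucc_or_eq_last a with ⟨i, rfl⟩ | rfl
    · rw [hqc] at hr ⊢
      by_cases hi : i = 0
      · rw [hi, hp0, one_smul]
      · exfalso
        obtain ⟨k, -, ek, hki⟩ := hdp i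
        have e : dX • pX i • q0 = pX k • q0 := by
          rw [← ek, mul_smul, mul_smul, inv_smul_eq_iff.2 hq0.symm]
        rw [hr] at e
        exact hki hi (Fin.castSucc_injective _ (hqinj (by rw [hqc, hqc]; exact e.symm)))
    · exact absurd (Fin.snoc_last ..) hrt
  let ρ : X →* Equiv.Perm (Fin 5) :=
    (qe.symm.permCongrHom.toMonoidHom).comp (MulAction.toPermHom X Ω)
  have hρ : ∀ (x : X) (a b : Fin 5), x • q a = q b → ρ x a = b := by
    intro x a b h
    show qe.symm (x • qe a) = b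
    rw [qe.symm_apply_eq]
    exact h
  -- values
  have hval : ∀ (x : X) (r : Equiv.Perm (Fin 5)), x • top = top → r 4 = 4 →
      (∀ i : Fin 4, ∃ k : Fin 4, r i.castSucc = k.castSucc ∧ x • pX i • q0 = pX k • q0) →
      ρ x = r := by
    intro x r h4 hr4 h
    refine Equiv.ext fun a => ?_
    rcases Fin.eq_castSucc_or_eq_last a with ⟨i, rfl⟩ | rfl
    · obtain ⟨k, e1, e2⟩ := h i
      rw [e1]
      exact hρ x _ _ (by rw [hqc, hqc, e2])
    · rw [show r (Fin.last 4) = 4 from hr4]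
      exact hρ x _ _ (by
        show x • q (Fin.last 4) = q 4
        rw [show q (Fin.last 4) = top from Fin.snoc_last .., hq4, h4])
  have hfix0 : ∀ x : X, x • top = top → (dX * x = x * dX ∨ dX * x = x * dX⁻¹) → x • q0 = q0 := by
    intro x hx4 hcomm
    refine huniq _ ?_ fun e => hq0ne (smul_left_cancel x (e.trans hx4.symm))
    rcases hcomm with e | e <;> rw [← mul_smul, e, mul_smul]
    · rw [hq0]
    · rw [inv_smul_eq_iff.2 hq0.symm]
  obtain ⟨-, -, ⟨tone, ttau, tv, tu, tus, tv2⟩, t4, t5, -⟩ := t32_facts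
  have hconjgen : ∀ (x : X) (i k : Fin 4), x • q0 = q0 → x * pX i * x⁻¹ = pX k →
      x • pX i • q0 = pX k • q0 := by
    intro x i k h0 e
    rw [← e, mul_smul, mul_smul, inv_smul_eq_iff.2 h0.symm]
  have vτ : ρ (tX tauM ttau) = pτ := by
    have h0 : tX tauM ttau • q0 = q0 := hfix0 _ (htop tauM ttau) (Or.inr (Subtype.ext (by
      show L.d * φ tauM = φ tauM * L.d⁻¹
      rw [← L.tdt, ← mul_assoc, ← mul_assoc, N.tau_sq, one_mul])))
    refine hval _ _ (htop tauM ttau) gen_top.1 fun i => ?_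
    obtain ⟨-, k, -, e1, e2⟩ := (gen_moves i (hfins i)).1
    refine ⟨k, e1, hconjgen _ i k h0 (Subtype.ext ?_)⟩
    exact (N.conj_eq _ _).trans (congrArg φ e2)
  have v0 : ∀ a ∈ [vM, uM], ∀ ha : a ∈ t32, ρ (tX a ha) = 1 := by
    intro a hav ha
    have hd : L.d * φ a = φ a * L.d := by
      simp only [List.mem_cons, List.not_mem_nil, or_false] at hav
      rcases hav with rfl | rfl
      exacts [mul_inv_eq_iff_eq_mul.1 L.dv, mul_inv_eq_iff_eq_mul.1 L.du]
    have h0 : tX a ha • q0 = q0 := hfix0 _ (htop a ha) (Or.inl (Subtype.ext hd))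
    refine hval _ _ (htop a ha) rfl fun i => ⟨i, rfl, hconjgen _ i i h0 (Subtype.ext ?_)⟩
    refine (N.conj_eq _ _).trans (congrArg φ ?_)
    obtain ⟨-, -, -, -, e1, e2⟩ := gen_moves i (hfins i)
    simp only [List.mem_cons, List.not_mem_nil, or_false] at hav
    rcases hav with rfl | rfl
    exacts [e1, e2]
  have vus : ρ (tX usM tus) = pus := by
    refine hval _ _ (htop usM tus) gen_top.2.1 fun i => ?_
    obtain ⟨k, -, e1, e2⟩ := (gen_moves i (hfins i)).2.1
    refine ⟨k, e1, ?_⟩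
    rw [← mul_smul]
    congr 1
    exact Subtype.ext ((N.toCd.mul _ _).trans (congrArg φ e2))
  have vv2 : ρ (tX v2M tv2) = pv2 := by
    refine hval _ _ (htop v2M tv2) gen_top.2.2.1 fun i => ?_
    obtain ⟨k, -, e1, e2⟩ := (gen_moves i (hfins i)).2.2.1
    refine ⟨k, e1, ?_⟩
    rw [← mul_smul]
    congr 1
    exact Subtype.ext ((N.toCd.mul _ _).trans (congrArg φ e2))
  have vd : ρ dX = pd := by
    refine hval _ _ hdtop gen_top.2.2.2 fun i => ?_
    obtain ⟨k, e1, e2, -⟩ := hdp i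
    exact ⟨k, e1, hconjgen _ i k hq0 e2⟩
  have htab : ∀ a (ha : a ∈ t32), ρ (tX a ha) = rtab a := by
    intro a ha
    have hbp : ∀ x (hx : x ∈ t32) (p : Equiv.Perm (Fin 5)), ρ (tX x hx) = p → ∀ b : Bool,
        ∃ h : bpM x b ∈ t32, ρ (tX (bpM x b) h) = bp5 p b := by
      intro x hx p hp b
      cases b
      · refine ⟨tone, ?_⟩
        show ρ (tX oneM tone) = 1
        rw [show tX oneM tone = 1 from Subtype.ext N.toCd.map_one, map_one]
      · exact ⟨hx, hp⟩
    have hm : ∀ x y (hx : x ∈ t32) (hy : y ∈ t32), tX x hx * tX y hy =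
        tX (mm true false x y) (t5 x hx y hy).1 := fun x y _ _ => Subtype.ext (N.toCd.mul x y)
    obtain ⟨m1, r1⟩ := hbp _ ttau _ vτ (co a).1
    obtain ⟨m2, r2⟩ := hbp _ tv _ (v0 vM (by simp) tv) (co a).2.1
    obtain ⟨m3, r3⟩ := hbp _ tu _ (v0 uM (by simp) tu) (co a).2.2.1
    obtain ⟨m4, r4⟩ := hbp _ tus _ vus (co a).2.2.2.1
    obtain ⟨m5, r5⟩ := hbp _ tv2 _ vv2 (co a).2.2.2.2
    have e : tX a ha = tX _ m1 * tX _ m2 * (tX _ m3 * (tX _ m4 * tX _ m5)) := by
      refine Subtype.ext ?_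
      show φ a = φ _ * φ _ * (φ _ * (φ _ * φ _))
      simp only [N.toCd.mul]
      exact congrArg φ (t4 a ha).1.symm
    rw [e, map_mul, map_mul, map_mul, map_mul, r1, r2, r3, r4, r5]
    have h1 : ∀ b, bp5 (1 : Equiv.Perm (Fin 5)) b = 1 := fun b => by cases b <;> rfl
    rw [h1, h1, mul_one, one_mul]
    rfl
  have hinj : ∀ x : X, (x : G) ∈ K → ρ x = 1 → x = 1 := by
    intro x hxK hx1
    have hfix : x • top = top := by
      have h : ρ x 4 = 4 := by rw [hx1]; rfl
      have h2 : qe.symm (x • qe 4) = 4 := h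
      rw [Equiv.symm_apply_eq] at h2
      rwa [show qe 4 = top from hq4] at h2
    obtain ⟨i, hi, b, hb, e⟩ := hstab _ hxK (congrArg Subtype.val hfix)
    have e' : x = dX ^ i * tX b (hvpT b hb) := Subtype.ext (by
      rw [e, Subgroup.coe_mul, SubgroupClass.coe_pow])
    have h := hx1
    rw [e', map_mul, map_pow, vd, htab b (hvpT b hb)] at h
    obtain ⟨rfl, rfl⟩ := stab_perm b hb i hi h
    rw [e', pow_zero, one_mul]
    exact Subtype.ext N.toCd.map_one
  refine ⟨ρ, htab, hinj, ?_⟩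
  let ρK : K →* Equiv.Perm (Fin 5) :=
    ρ.comp (Subgroup.inclusion (show K ≤ X from fun x hx => N.mem_X.2 (hKc x hx)))
  have hρK : Function.Injective ρK := by
    rw [injective_iff_map_eq_one]
    intro k hk
    have h := hinj _ (show (((Subgroup.inclusion (show K ≤ X from fun x hx =>
      N.mem_X.2 (hKc x hx))) k : X) : G) ∈ K from k.2) hk
    exact Subtype.ext (congrArg Subtype.val h :)
  have hA : ρK.range = alternatingGroup (Fin 5) := by
    refine Equiv.Perm.eq_alternatingGroup_of_index_eq_two ?_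
    have h := ρK.range.card_mul_index
    rw [show Nat.card ρK.range = 60 from
      (Nat.card_congr (MonoidHom.ofInjective hρK).toEquiv).symm.trans h60,
      Nat.card_perm, Nat.card_fin, show Nat.factorial 5 = 120 from rfl] at h
    omega
  intro e he
  obtain ⟨k, hk⟩ : e ∈ ρK.range := hA ▸ Equiv.Perm.mem_alternatingGroup.2 he
  exact ⟨_, k.2, hk⟩

end Loc

end Cfsg.Agent.SymThirtyTwo
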