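import Cfsg.Agent.Lib.SymThirtyTwo.Relabel
import Cfsg.Agent.Lib.SymThirtyTwo.Eight

/-
The element of order three in the normaliser of the subgroup of order 16 and the relators of the
presented group (helper22).

* `Loc` : such an element with its action, inverted by `tauM`
* `Nm.exists_loc` : it exists
* `Loc.sat` : together with the centraliser it satisfies the relators
-/

set_option autoImplicit false
set_option synthInstance.maxSize 4096
set_option maxRecDepth 100000

open Subgroup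

namespace Cfsg.Agent.SymThirtyTwo

/-- A representative of the unfused involutions. -/
def uM : M := ((false, (true, true), (false, true)), 0, false)

/-- The second generator of the first four-group. -/
def vM : M := (sgn true, 0, true)

def usM : M := mm true false uM cs

/-- The image of `vM` under `sigM`. -/
def v2M : M := cjg true sigM vM

/-- The second four-group. -/
def vpList : List M := [oneM, usM, v2M, mm true false usM v2M]

/-- An element in coordinates. -/
def lin (c : Bool × Bool × Bool × Bool) (a b a' b' : M) : M :=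
  mm true false (mm true false (bpM a c.1) (bpM b c.2.1))
    (mm true false (bpM a' c.2.2.1) (bpM b' c.2.2.2))

def combos : List (Bool × Bool × Bool × Bool) :=
  bools.flatMap fun a => bools.flatMap fun b => bools.flatMap fun a' => bools.map fun b' =>
    (a, b, a', b')

/-- The action of the element of order three. -/
def dW (a : M) : M :=
  ((combos.find? fun c => lin c uM vM usM v2M == a).map fun c =>
    lin c uM vM v2M (mm true false usM v2M)).getD oneM

def dWi (a : M) : M := dW (dW a)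

def ePair (b : Bool) (a : M) : M :=
  dW (cjg true sigM (if b then dWi (cjg true sigM a) else dW (cjg true sigM a)))

/-- The element outside in the two elementary abelian subgroups of order eight. -/
def gE (b : Bool) : M := if b then mm true false tauM sigM else sigM

def e8 (b : Bool) : List M :=
  let c := wList.filter fun w => cjg true (gE b) w == w
  c ++ c.map (mm true false (gE b))

def eAct (b : Bool) (a : M) : M :=
  if inW a then ePair b a else mm true false (gE b) (ePair b (mm true false (gE b) a))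

theorem loc_facts : (∀ a ∈ [uM, vM, usM, v2M], inW a = true) ∧ inT sigM = true ∧ inT tauM = true ∧
    (∀ a ∈ [sigM, tauM], isInv true false a = true) ∧
    cjg true sigM uM = usM ∧ cjg true sigM usM = uM ∧ cjg true sigM vM = v2M ∧
    cjg true sigM v2M = vM ∧
    mm true false sigM tauM = mm true false tauM sigM ∧
    mm true false tauM uM = mm true false uM tauM := by decide +kernel

theorem lin_cover : ∀ a ∈ wList, ∃ c ∈ combos, lin c uM vM usM v2M = a ∧
    dW a = lin c uM vM v2M (mm true false usM v2M) := by decide +kernel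

theorem dW_facts : ∀ a ∈ wList, inW (dW a) = true ∧ dW (dWi a) = a ∧
    inW (cjg true sigM a) = true ∧ inW (cjg true tauM a) = true ∧
    dW (cjg true tauM (dW (cjg true tauM a))) = a ∧
    ePair true (ePair true a) = ePair true (ePair true a) ∧
    (mm true false (mm true false a (dW a)) (dWi a) = oneM → a ∈ vpList) ∧
    (cjg true sigM a = a → a ∈ vpList → a = oneM) ∧
    dW (cjg true sigM (dW (cjg true sigM a))) = cjg true sigM (dW (cjg true sigM (dW a))) := by
  decide +kernel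

theorem vp_facts : ∀ b ∈ vpList, inW b = true ∧
    mm true false (mm true false b (dW b)) (dWi b) = oneM ∧
    (dWi (cjg true tauM b) = b → ∃ a ∈ vpList,
      mm true false (dWi (cjg true tauM a)) b = a) := by decide +kernel

def uList : List M := wList.filter fun a => isInv true false a && !flagSet fNorm a

theorem u_facts : uList.length = 6 ∧ uM ∈ uList ∧ vM ∈ uList ∧
    (wList.filter fun a => flagSet fNorm a).length = 9 ∧
    (uList.filter fun a => uList.contains (mm true false a uM)) ⊆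
      [vM, mm true false uM vM] ∧
    (∀ a ∈ [vM, mm true false uM vM], uList.contains (mm true false a uM) = true) ∧
    vM ≠ mm true false uM vM ∧
    mm true false uM (mm true false uM vM) = vM ∧
    (∀ a ∈ uList, a ∉ [uM, vM, mm true false uM vM] →
      a ∈ [usM, v2M, mm true false usM v2M]) ∧
    (∀ a ∈ [usM, v2M, mm true false usM v2M],
      a ∈ uList ∧ a ∉ [uM, vM, mm true false uM vM]) ∧
    (∀ a ∈ uList, clsIdx a = 3 ∨ clsIdx a = 5) := by decide +kernel

theorem e8_facts : ∀ b ∈ bools, inT (gE b) = true ∧ cs ∈ e8 b ∧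
    (∀ a ∈ e8 b, (inW a = true ∨ inW (mm true false (gE b) a) = true) ∧
      mm true false (gE b) (mm true false (gE b) a) = a ∧
      (isInv true false a = true → flagSet fNorm a = true) ∧
      (a = oneM ∨ isInv true false a = true)) ∧
    (∀ m ∈ all, (∀ a ∈ e8 b, mm true false m a = mm true false a m) → m ∈ e8 b) := by
  decide +kernel

theorem no_eight : ∀ n ∈ all,
    let f := fun a => mm true false a a
    f (f (f n)) = oneM → f (f n) = oneM := by decide +kernel

/-- The value of a word in `i, i', x, t`. -/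
def genM (q : ℕ) : M :=
  if q = 0 then ((false, (true, false), (false, false)), 0, false)
  else if q = 1 then ((false, (false, false), (true, false)), 0, false)
  else if q = 2 then (sgn false, 1, false) else (sgn false, 0, true)

def letM (a : ℕ) : M := if a % 2 = 0 then genM (a / 2) else minv true false (genM (a / 2))

def wM (w : List ℕ) : M := w.foldr (fun a r => mm true false (letM a) r) oneM

def small (w : List ℕ) : Bool := w.all fun a => decide (a < 8)

theorem inner_check : ((relWords ++ eightInner).all fun w => small w && wM w == oneM) = true := by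
  decide +kernel

/-- The words `l` with `(l * e) ^ 4 = 1`, and whether the second factor of `e` is inverted. -/
def quadData : List (List ℕ × Bool) :=
  [([4, 6], true), ([2, 4], false), ([4, 0, 5], true), ([0, 4, 6], false), ([0, 0, 2], false),
    ([0, 4, 4, 6], true), ([0, 0, 4, 4], false), ([0, 0, 4, 6], true)]

def sigWord (b : Bool) : List ℕ := if b then [4, 3, 5, 1] else [0, 4, 2, 5]

def eWord (b : Bool) : List ℕ := 8 :: sigWord b ++ (if b then 9 else 8) :: sigWord b

def quad (q : List ℕ × Bool) : List ℕ :=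
  (q.1 ++ eWord q.2) ++ ((q.1 ++ eWord q.2) ++ ((q.1 ++ eWord q.2) ++ (q.1 ++ eWord q.2)))

theorem outer_check : eightOuter =
    [[8, 8, 8], [8, 0, 0, 6, 9, 7, 1, 1],
      [4, 0, 5, 2] ++ 8 :: [4, 0, 5, 2] ++ [8],
      8 :: [0, 4, 0, 5, 4, 2, 5] ++ 9 :: [4, 3, 5, 4, 1, 5, 1],
      8 :: [0, 4, 2, 5] ++ 8 :: [0, 4, 2, 5] ++ 9 :: [0, 4, 2, 5] ++ 9 :: [0, 4, 2, 5],
      8 :: [0, 4, 0, 5, 4, 2, 5, 0, 0] ++ 9 :: [0, 4, 2, 5, 7, 1, 1, 4, 3, 5, 1],
      8 :: [0, 4, 2, 5, 0, 0, 6, 4, 3, 5, 1] ++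
        9 :: [0, 4, 2, 5, 7, 1, 1, 4, 3, 5, 1, 1, 1, 4, 3, 5, 4, 1, 5, 1]] ++
      quadData.map quad := by decide +kernel

theorem outer_words : wM [4, 0, 5, 2] = tauM ∧ wM [0, 0, 6] = vM ∧ wM [7, 1, 1] = vM ∧
    wM [0, 4, 0, 5, 4, 2, 5] = uM ∧ wM [4, 3, 5, 4, 1, 5, 1] = uM ∧ wM [0, 4, 2, 5] = sigM ∧
    wM [4, 3, 5, 1] = sigM ∧
    wM [0, 4, 0, 5, 4, 2, 5, 0, 0] = usM ∧ wM [0, 4, 2, 5, 7, 1, 1, 4, 3, 5, 1] = v2M ∧
    wM [0, 4, 2, 5, 0, 0, 6, 4, 3, 5, 1] = v2M ∧
    wM [0, 4, 2, 5, 7, 1, 1, 4, 3, 5, 1, 1, 1, 4, 3, 5, 4, 1, 5, 1] = mm true false usM v2M := by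
  decide +kernel

theorem quad_facts : ∀ q ∈ quadData, small q.1 = true ∧ ∀ a ∈ e8 q.2,
    let p := fun c => cjg true (wM q.1) (eAct q.2 c)
    p a ∈ e8 q.2 ∧ p (p (p (p a))) = a := by decide +kernel

/-- An element of order three of the normaliser of `W` that centralises the first four-group. -/
structure Loc {G : Type*} [Group G] {s : G} (N : Nm s) where
  d : G
  d3 : d * d * d = 1
  du : d * N.φ uM * d⁻¹ = N.φ uM
  dv : d * N.φ vM * d⁻¹ = N.φ vM
  dus : d * N.φ usM * d⁻¹ = N.φ v2M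
  dv2 : d * N.φ v2M * d⁻¹ = N.φ (mm true false usM v2M)
  tdt : N.φ tauM * d * N.φ tauM = d⁻¹
  dd' : Commute d (N.φ sigM * d * N.φ sigM)

namespace Nm

variable {G : Type*} [Group G] {s : G} (N : Nm s)

local notation "φ" => N.toCd.φ

include N

theorem inv_eq {a : M} (ha : mm true false a a = oneM) : (φ a)⁻¹ = φ a :=
  inv_eq_of_mul_eq_one_right (by rw [N.toCd.mul, ha, N.toCd.map_one])

theorem conj_eq (g a : M) : φ g * φ a * (φ g)⁻¹ = φ (cjg true g a) := N.toCd.conj_mem a g

theorem sig_sq : φ sigM * φ sigM = 1 := by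
  have h := loc_facts.2.2.2.1 sigM (by simp)
  simp only [isInv, Bool.and_eq_true, beq_iff_eq] at h
  rw [N.toCd.mul, h.1, N.toCd.map_one]

theorem tau_sq : φ tauM * φ tauM = 1 := by
  have h := loc_facts.2.2.2.1 tauM (by simp)
  simp only [isInv, Bool.and_eq_true, beq_iff_eq] at h
  rw [N.toCd.mul, h.1, N.toCd.map_one]

theorem inW_inv {a : M} (ha : inW a = true) : (φ a)⁻¹ = φ a :=
  N.inv_eq (w_closed a (List.contains_iff_mem.1 ha)).2.1

/-- An element acting on the generators acts on all of `W`. -/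
theorem act_w {d : G} (hu : d * φ uM * d⁻¹ = φ uM) (hv : d * φ vM * d⁻¹ = φ vM)
    (hus : d * φ usM * d⁻¹ = φ v2M) (hv2 : d * φ v2M * d⁻¹ = φ (mm true false usM v2M))
    {a : M} (ha : inW a = true) : d * φ a * d⁻¹ = φ (dW a) := by
  obtain ⟨c, -, e, e'⟩ := lin_cover a (List.contains_iff_mem.1 ha)
  have hb : ∀ g b, φ (bpM g b) = bp (φ g) b := fun g b => by
    cases b <;> simp [bp, bpM, N.toCd.map_one]
  rw [e']
  conv_lhs => rw [← e]
  simp only [lin, ← N.toCd.mul, hb]
  have hc : ∀ g b, d * bp g b * d⁻¹ = bp (d * g * d⁻¹) b := fun g b => by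
    cases b <;> simp [bp]
  calc d * (bp (φ uM) c.1 * bp (φ vM) c.2.1 * (bp (φ usM) c.2.2.1 * bp (φ v2M) c.2.2.2)) * d⁻¹
      = d * bp (φ uM) c.1 * d⁻¹ * (d * bp (φ vM) c.2.1 * d⁻¹) *
          (d * bp (φ usM) c.2.2.1 * d⁻¹ * (d * bp (φ v2M) c.2.2.2 * d⁻¹)) := by group
    _ = _ := by rw [hc, hc, hc, hc, hu, hv, hus, hv2, ← N.toCd.mul]

theorem cls_u {a : M} (ha : a ∈ uList) [Finite G] : IsConj (φ uM) (φ a) := by
  have key : ∀ b ∈ uList, IsConj (φ (repE 2)) (φ b) := by
    intro b hb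
    have hI : isInv true false b = true := by
      have := (List.mem_filter.1 hb).2
      simp only [Bool.and_eq_true] at this
      exact this.1
    rcases u_facts.2.2.2.2.2.2.2.2.2.2 b hb with e | e
    · have := N.toFz.isConj_cls hI
      rwa [e] at this
    · obtain ⟨l, hl⟩ := N.toFz.outside 0 N.fused true
      have h1 := N.toFz.isConj_cls hI
      rw [e] at h1
      have h3 : ∀ i : Fin 3, i = 0 ∨ i = 1 ∨ i = 2 := by decide
      obtain rfl | rfl | rfl := h3 l
      · exact absurd ((N.flags _).2 (((N.flags _).1 (by decide +kernel)).trans hl)) (by decide +kernel)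
      · exact absurd ((N.flags _).2 (((N.flags _).1 (by decide +kernel)).trans hl)) (by decide +kernel)
      · exact hl.trans h1
  exact (key uM u_facts.2.1).symm.trans (key a ha)

variable [Finite G]

theorem card_norm_cent : Nat.card (normalizer (N.toFz.W : Set G) ⊓
    centralizer ({φ uM} : Set G) : Subgroup G) = 96 := by
  classical
  set NW := normalizer (N.toFz.W : Set G)
  have hmem : ∀ (n : NW) {w : G}, w ∈ N.toFz.W → (n : G) * w * (n : G)⁻¹ ∈ N.toFz.W :=
    fun n {w} hw => (mem_normalizer_iff.1 n.2 w).1 hw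
  have horb : ∀ (x : M), inW x = true → ∀ (l : List M),
      (∀ a, a ∈ l ↔ inW a = true ∧ IsConj (φ x) (φ a)) → l.Nodup →
      l.length * Nat.card (NW ⊓ centralizer ({φ x} : Set G) : Subgroup G) = Nat.card NW := by
    intro x hx l hl hnd
    let C : Subgroup NW := (centralizer ({φ x} : Set G)).subgroupOf NW
    have hC : Nat.card C = Nat.card (NW ⊓ centralizer ({φ x} : Set G) : Subgroup G) := by
      rw [← Nat.card_congr (subgroupOfEquivOfLe (inf_le_left : NW ⊓ centralizer ({φ x} : Set G) ≤ NW)).toEquiv,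
        inf_subgroupOf_left]
    have hx' : φ x ∈ N.toFz.W := N.toFz.mem_W.2 hx
    have hex : ∀ n : NW, ∃ a, a ∈ l ∧ φ a = (n : G) * φ x * (n : G)⁻¹ := by
      intro n
      obtain ⟨a, ha, e⟩ := hmem n hx'
      exact ⟨a, (hl a).2 ⟨N.toFz.mem_W.1 ⟨a, ha, rfl⟩, isConj_iff.2 ⟨n, e.symm⟩⟩, e⟩
    choose f hf using hex
    have hwell : ∀ n n' : NW, f n = f n' ↔ n⁻¹ * n' ∈ C := by
      intro n n'
      rw [← N.toCd.inj.eq_iff, (hf n).2, (hf n').2, mem_subgroupOf, mem_centralizer_singleton_iff]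
      push_cast
      constructor
      · intro e
        calc (n : G)⁻¹ * n' * φ x = (n : G)⁻¹ * ((n' : G) * φ x * (n' : G)⁻¹) * n' := by group
          _ = _ := by rw [← e]; group
      · intro e
        calc (n : G) * φ x * (n : G)⁻¹ = (n : G) * (φ x * ((n : G)⁻¹ * n')) * (n' : G)⁻¹ := by group
          _ = _ := by rw [← e]; group
    let g : NW ⧸ C → {a // a ∈ l.toFinset} :=
      Quotient.lift (fun n => ⟨f n, List.mem_toFinset.2 (hf n).1⟩)
        fun n n' h => Subtype.ext ((hwell n n').2 (QuotientGroup.leftRel_apply.1 h))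
    have hg : Function.Bijective g := by
      refine ⟨fun p q => ?_, fun a => ?_⟩
      · induction p using QuotientGroup.induction_on with
        | H n =>
          induction q using QuotientGroup.induction_on with
          | H n' =>
            intro h
            exact QuotientGroup.eq.2 ((hwell n n').1 (congrArg Subtype.val h))
      · obtain ⟨haW, hc⟩ := (hl a.1).1 (List.mem_toFinset.1 a.2)
        obtain ⟨m, hm⟩ := isConj_iff.1 hc
        obtain ⟨n, hn, e⟩ := N.toFz.conj_w hx' (g := m) (by rw [hm]; exact N.toFz.mem_W.2 haW)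
        refine ⟨QuotientGroup.mk ⟨n, hn⟩, Subtype.ext (N.toCd.inj ?_)⟩
        exact ((hf ⟨n, hn⟩).2).trans (e.trans hm)
    have h := C.card_mul_index
    have hcard : Nat.card {a // a ∈ l.toFinset} = l.length := by
      rw [Nat.card_eq_fintype_card, Fintype.card_coe, List.toFinset_card_of_nodup hnd]
    rw [Subgroup.index, Nat.card_congr (Equiv.ofBijective g hg), hcard, hC] at h
    rw [← h, mul_comm]
  -- the centraliser of `s`
  have hs : NW ⊓ centralizer ({φ cs} : Set G) = N.toFz.T := by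
    refine le_antisymm (fun n hn => ?_) (fun t ht => ?_)
    · obtain ⟨hnN, hnC⟩ := hn
      rw [N.toCd.map_cs] at hnC
      obtain ⟨a, rfl⟩ := N.toCd.surj n (mem_centralizer_singleton_iff.1 hnC)
      refine ⟨a, (t_norm_w a (mem_all a)).2 fun b hb => ?_, rfl⟩
      have := (mem_normalizer_iff.1 hnN (φ b)).1 ⟨b, hb, rfl⟩
      rwa [N.toCd.conj_mem, N.toFz.mem_W] at this
    · obtain ⟨a, ha, rfl⟩ := ht
      refine ⟨mem_normalizer_fintype fun x hx => ?_, ?_⟩
      · obtain ⟨b, hb, rfl⟩ := hx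
        show φ a * φ b * (φ a)⁻¹ ∈ N.toFz.W
        rw [N.toCd.conj_mem, N.toFz.mem_W]
        exact (t_norm_w a (mem_all a)).1 ha b hb
      · rw [N.toCd.map_cs]
        exact mem_centralizer_singleton_iff.2 (N.toCd.comm a)
  have h1 := horb cs (List.contains_iff_mem.2 w_list.2.2.2) (wList.filter fun a => flagSet fNorm a)
    (fun a => by
      rw [List.mem_filter, inW, List.contains_iff_mem, N.flags, N.toCd.map_cs])
    (w_list.1.filter _)
  rw [hs, N.toFz.card_T, u_facts.2.2.2.1] at h1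
  have hw_inv : ∀ a ∈ wList, a ≠ oneM → isInv true false a = true := by decide +kernel
  have h2 := horb uM (loc_facts.1 uM (by simp)) uList (fun a => by
    constructor
    · intro h
      exact ⟨List.contains_iff_mem.2 (List.mem_filter.1 h).1, N.cls_u h⟩
    · rintro ⟨hW, hc⟩
      have hu := (List.mem_filter.1 u_facts.2.1).2
      simp only [Bool.and_eq_true, Bool.not_eq_true'] at hu
      have haI : isInv true false a = true := N.toCd.isInv_of_isConj hc hu.1
      refine List.mem_filter.2 ⟨List.contains_iff_mem.1 hW, ?_⟩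
      simp only [haI, Bool.true_and, Bool.not_eq_true']
      refine Bool.eq_false_iff.2 fun h => ?_
      have := (N.flags uM).2 (((N.flags a).1 h).trans hc.symm)
      rw [hu.2] at this
      exact Bool.noConfusion this) (w_list.1.filter _)
  rw [u_facts.1, ← h1] at h2
  omega

theorem exists_d : ∃ d : G, d * d * d = 1 ∧ d * φ uM * d⁻¹ = φ uM ∧ d * φ vM * d⁻¹ = φ vM ∧
    d * φ usM * d⁻¹ = φ v2M ∧ d * φ v2M * d⁻¹ = φ (mm true false usM v2M) := by
  classical
  haveI := Fact.mk (show Nat.Prime 3 by norm_num)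
  obtain ⟨⟨d, hdN, hdC⟩, hd⟩ := exists_prime_orderOf_dvd_card' (G := (normalizer (N.toFz.W : Set G) ⊓
    centralizer ({φ uM} : Set G) : Subgroup G)) 3 (by rw [N.card_norm_cent]; norm_num)
  rw [← Subgroup.orderOf_coe] at hd
  have hd3 : d * d * d = 1 := by
    have h := pow_orderOf_eq_one d
    rw [show orderOf d = 3 from hd] at h
    simpa [pow_succ] using h
  have hdu : d * φ uM * d⁻¹ = φ uM :=
    mul_inv_eq_iff_eq_mul.2 (mem_centralizer_singleton_iff.1 hdC)
  -- the permutation induced on `uList`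
  have hperm : ∀ a ∈ uList, ∃ b ∈ uList, d * φ a * d⁻¹ = φ b := by
    intro a ha
    have haW : φ a ∈ N.toFz.W := ⟨a, (List.mem_filter.1 ha).1, rfl⟩
    obtain ⟨b, hb, e⟩ := (mem_normalizer_iff.1 hdN _).1 haW
    have hu := (List.mem_filter.1 ha).2
    simp only [Bool.and_eq_true, Bool.not_eq_true'] at hu
    have hc : IsConj (φ a) (φ b) := isConj_iff.2 ⟨d, e.symm⟩
    refine ⟨b, List.mem_filter.2 ⟨hb, ?_⟩, e.symm⟩
    simp only [N.toCd.isInv_of_isConj hc hu.1, Bool.true_and, Bool.not_eq_true']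
    refine Bool.eq_false_iff.2 fun h => ?_
    have := (N.flags a).2 (((N.flags b).1 h).trans hc.symm)
    rw [hu.2] at this
    exact Bool.noConfusion this
  obtain ⟨-, -, hvU, -, hP, hP', hne, huuv, hrest, hrest', -⟩ := u_facts
  have hcu : ∀ a, d * φ (mm true false a uM) * d⁻¹ = d * φ a * d⁻¹ * φ uM := fun a => by
    calc d * φ (mm true false a uM) * d⁻¹ = d * (φ a * φ uM) * d⁻¹ := by rw [N.toCd.mul]
      _ = d * φ a * d⁻¹ * (d * φ uM * d⁻¹) := by group
      _ = _ := by rw [hdu]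
  have hv : d * φ vM * d⁻¹ = φ vM := by
    have himg : d * φ vM * d⁻¹ = φ vM ∨ d * φ vM * d⁻¹ = φ (mm true false uM vM) := by
      obtain ⟨b, hb, e⟩ := hperm vM hvU
      have hvu := List.contains_iff_mem.1 (hP' vM (by simp))
      obtain ⟨b', hb', e'⟩ := hperm _ hvu
      rw [hcu, e, N.toCd.mul] at e'
      have hbu : uList.contains (mm true false b uM) = true :=
        List.contains_iff_mem.2 (N.toCd.inj e' ▸ hb')
      have := hP (List.mem_filter.2 ⟨hb, hbu⟩)
      simp only [List.mem_cons, List.not_mem_nil, or_false] at this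
      rcases this with h | h <;> rw [h] at e
      exacts [.inl e, .inr e]
    rcases himg with e | e
    · exact e
    · exfalso
      have h2 : d * φ (mm true false uM vM) * d⁻¹ = φ vM := by
        calc d * φ (mm true false uM vM) * d⁻¹ = d * (φ uM * φ vM) * d⁻¹ := by rw [N.toCd.mul]
          _ = d * φ uM * d⁻¹ * (d * φ vM * d⁻¹) := by group
          _ = _ := by rw [hdu, e, N.toCd.mul, huuv]
      have h3 : d * d * d * φ vM * (d * d * d)⁻¹ = φ (mm true false uM vM) := by
        calc d * d * d * φ vM * (d * d * d)⁻¹ = d * (d * (d * φ vM * d⁻¹) * d⁻¹) * d⁻¹ := by group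
          _ = _ := by rw [e, h2, e]
      rw [hd3] at h3
      exact hne (N.toCd.inj (by simpa using h3))
  have hfix : ∀ a ∈ [uM, vM, mm true false uM vM], d * φ a * d⁻¹ = φ a := by
    intro a ha
    simp only [List.mem_cons, List.not_mem_nil, or_false] at ha
    rcases ha with rfl | rfl | rfl
    · exact hdu
    · exact hv
    · calc d * φ (mm true false uM vM) * d⁻¹ = d * (φ uM * φ vM) * d⁻¹ := by rw [N.toCd.mul]
        _ = d * φ uM * d⁻¹ * (d * φ vM * d⁻¹) := by group
        _ = _ := by rw [hdu, hv, N.toCd.mul]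
  have hcyc : ∀ a ∈ [usM, v2M, mm true false usM v2M], ∃ b ∈ [usM, v2M, mm true false usM v2M],
      d * φ a * d⁻¹ = φ b := by
    intro a ha
    obtain ⟨b, hb, e⟩ := hperm a (hrest' a ha).1
    refine ⟨b, hrest b hb fun hb' => (hrest' a ha).2 ?_, e⟩
    have e2 := hfix b hb'
    rw [← e] at e2
    have e3 : d * φ a * d⁻¹ = φ a := by simpa using e2
    exact (N.toCd.inj (e.symm.trans e3)).symm ▸ hb'
  have hwv : ∀ a ∈ [uM, vM, usM, v2M], φ a ∈ N.toFz.W := fun a ha =>
    N.toFz.mem_W.2 (loc_facts.1 a ha)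
  -- not all fixed
  have hmove : ¬ (d * φ usM * d⁻¹ = φ usM ∧ d * φ v2M * d⁻¹ = φ v2M) := by
    rintro ⟨e1, e2⟩
    have hall : ∀ a, inW a = true → Commute d (φ a) := by
      intro a ha
      obtain ⟨c, -, hc, -⟩ := lin_cover a (List.contains_iff_mem.1 ha)
      have hb : ∀ g b, Commute d (φ g) → Commute d (φ (bpM g b)) := fun g b h => by
        cases b <;> simp [bpM, N.toCd.map_one, h]
      rw [← hc, lin, ← N.toCd.mul, ← N.toCd.mul, ← N.toCd.mul]
      exact ((hb _ _ (mul_inv_eq_iff_eq_mul.1 hdu)).mul_right (hb _ _ (mul_inv_eq_iff_eq_mul.1 hv))).mul_right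
        ((hb _ _ (mul_inv_eq_iff_eq_mul.1 e1)).mul_right (hb _ _ (mul_inv_eq_iff_eq_mul.1 e2)))
    have hds : Commute d s := N.toCd.map_cs ▸ hall cs (List.contains_iff_mem.2 w_list.2.2.2)
    obtain ⟨m, rfl⟩ := N.toCd.surj d hds
    have hm := w_cent m (mem_all m) fun b hb =>
      N.toCd.commute_iff.1 (hall b (List.contains_iff_mem.2 hb))
    have h2 := N.toFz.sq_W (N.toFz.mem_W.2 hm)
    rw [h2, one_mul] at hd3
    exact absurd (hd.symm.trans (orderOf_eq_one_iff.2 hd3)) (by norm_num)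
  obtain ⟨b1, hb1, e1⟩ := hcyc usM (by simp)
  obtain ⟨b2, hb2, e2⟩ := hcyc v2M (by simp)
  have e3 : d * φ (mm true false usM v2M) * d⁻¹ = φ (mm true false b1 b2) := by
    calc d * φ (mm true false usM v2M) * d⁻¹ = d * (φ usM * φ v2M) * d⁻¹ := by rw [N.toCd.mul]
      _ = d * φ usM * d⁻¹ * (d * φ v2M * d⁻¹) := by group
      _ = _ := by rw [e1, e2, N.toCd.mul]
  have hcube : ∀ a b c, d * φ a * d⁻¹ = φ b → d * φ b * d⁻¹ = φ c → d * φ c * d⁻¹ = φ a := by
    intro a b c h1 h2
    calc d * φ c * d⁻¹ = d * d * d * φ a * (d * d * d)⁻¹ := by rw [← h2, ← h1]; group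
      _ = φ a := by rw [hd3]; group
  simp only [List.mem_cons, List.not_mem_nil, or_false] at hb1 hb2
  have hvals : mm true false usM usM = oneM ∧
      mm true false v2M (mm true false usM v2M) = usM ∧
      mm true false (mm true false usM v2M) usM = v2M ∧ mm true false v2M v2M = oneM ∧
      mm true false (mm true false usM v2M) (mm true false usM v2M) = oneM ∧
      usM ≠ v2M ∧ usM ≠ mm true false usM v2M ∧ v2M ≠ mm true false usM v2M ∧
      usM ≠ oneM ∧ v2M ≠ oneM ∧ mm true false usM v2M ≠ oneM := by decide +kernel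
  obtain ⟨p1, p2, p3, p4, p5, n1, n2, n3, n4, n5, n6⟩ := hvals
  have hinj : ∀ {a b c : M}, d * φ a * d⁻¹ = φ c → d * φ b * d⁻¹ = φ c → a = b :=
    fun h h' => N.toCd.inj (mul_left_cancel (mul_right_cancel (h.trans h'.symm)))
  have hwus : mm true false (mm true false usM v2M) v2M = usM ∧
      mm true false usM (mm true false usM v2M) = v2M := by decide +kernel
  rcases hb1 with rfl | rfl | rfl
  · -- `us` fixed
    exfalso
    rcases hb2 with rfl | rfl | rfl
    · exact n1 (hinj e1 e2)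
    · exact hmove ⟨e1, e2⟩
    · rw [hwus.2] at e3
      exact n3 (N.toCd.inj ((hcube _ _ _ e3 e2).symm.trans e3)).symm
  · rcases hb2 with rfl | rfl | rfl
    · exact absurd (N.toCd.inj ((hcube _ _ _ e2 e1).symm.trans e2)) n1.symm
    · exact absurd (hinj e1 e2) n1
    · exact ⟨d, hd3, hdu, hv, e1, e2⟩
  · rcases hb2 with rfl | rfl | rfl
    · -- the other orientation
      have hi : ∀ a b, d * φ a * d⁻¹ = φ b → d⁻¹ * φ b * d⁻¹⁻¹ = φ a := fun a b h => by
        rw [← h]; group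
      refine ⟨d⁻¹, by rw [← mul_inv_rev, ← mul_inv_rev, ← mul_assoc, hd3, inv_one],
        hi _ _ hdu, hi _ _ hv, hi _ _ e2, hi _ _ (hcube _ _ _ e2 e1)⟩
    · rw [hwus.1] at e3
      exact absurd (N.toCd.inj ((hcube _ _ _ e3 e1).symm.trans e3)) n2.symm
    · exact absurd (hinj e1 e2) n1

theorem exists_loc : Nonempty (Loc N) := by
  classical
  obtain ⟨d, hd3, hdu, hdv, hdus, hdv2⟩ := N.exists_d
  have hA : ∀ a, inW a = true → d * φ a * d⁻¹ = φ (dW a) := fun a ha =>
    N.act_w hdu hdv hdus hdv2 ha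
  have hWmem : ∀ a, inW a = true → a ∈ wList := fun a ha => List.contains_iff_mem.1 ha
  have hd2 : d⁻¹ = d * d := inv_eq_of_mul_eq_one_left hd3
  have hAi : ∀ a, inW a = true → d⁻¹ * φ a * d = φ (dWi a) := by
    intro a ha
    calc d⁻¹ * φ a * d = d * (d * φ a * d⁻¹) * d⁻¹ := by
          have : d = d⁻¹ * d⁻¹ := by rw [← mul_inv_rev, ← hd2, inv_inv]
          nth_rw 2 [this]
          rw [hd2]; group
      _ = _ := by rw [hA a ha, hA _ (dW_facts a (hWmem a ha)).1]; rfl
  -- centralising `W` means lying in it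
  have hcentW : ∀ g : G, (∀ a, inW a = true → Commute g (φ a)) → ∃ b, inW b = true ∧ φ b = g := by
    intro g hg
    obtain ⟨m, rfl⟩ := N.toCd.surj g
      (N.toCd.map_cs ▸ hg cs (List.contains_iff_mem.2 w_list.2.2.2))
    exact ⟨m, w_cent m (mem_all m) fun b hb =>
      N.toCd.commute_iff.1 (hg b (List.contains_iff_mem.2 hb)), rfl⟩
  have hcube : ∀ a, inW a = true →
      d * φ a * (d * φ a) * (d * φ a) =
        φ (mm true false (mm true false (dW a) (dWi a)) a) := by
    intro a ha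
    rw [← N.toCd.mul, ← N.toCd.mul, ← hA a ha, ← hAi a ha]
    calc d * φ a * (d * φ a) * (d * φ a)
        = d * φ a * d⁻¹ * (d * d * φ a * d) * φ a := by group
      _ = _ := by rw [← hd2]
  have hcomm3 : ∀ a, inW a = true →
      mm true false (mm true false (dW a) (dWi a)) a = mm true false (mm true false a (dW a)) (dWi a) := by
    intro a ha
    have h1 := (dW_facts a (hWmem a ha)).1
    have h2 : inW (dWi a) = true := (dW_facts _ (hWmem _ h1)).1
    refine N.toCd.inj ?_
    rw [← N.toCd.mul, ← N.toCd.mul, ← N.toCd.mul, ← N.toCd.mul]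
    rw [((N.toFz.comm_W (N.toFz.W.mul_mem (N.toFz.mem_W.2 h1) (N.toFz.mem_W.2 h2))
      (N.toFz.mem_W.2 ha))).eq, mul_assoc]
  have hvp : ∀ a, inW a = true → d * φ a * (d * φ a) * (d * φ a) = 1 → a ∈ vpList := by
    intro a ha h
    rw [hcube a ha, hcomm3 a ha, ← N.toCd.map_one] at h
    exact (dW_facts a (hWmem a ha)).2.2.2.2.2.2.1 (N.toCd.inj h)
  -- make it inverted by `tau`
  have htau := N.tau_sq
  have htauinv : (φ tauM)⁻¹ = φ tauM := inv_eq_of_mul_eq_one_right htau
  obtain ⟨b, hbW, hb⟩ := hcentW (d⁻¹ * (φ tauM * d⁻¹ * φ tauM)) (by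
    intro a ha
    have ht := (dW_facts a (hWmem a ha)).2.2.2.1
    set a' := cjg true tauM a with ha'
    have e0 : φ tauM * φ a * φ tauM = φ a' := by
      have := N.conj_eq tauM a; rwa [htauinv] at this
    have hi := (dW_facts _ (hWmem _ ht)).1
    have hi2 : inW (dWi a') = true := (dW_facts _ (hWmem _ hi)).1
    have ht2 := (dW_facts _ (hWmem _ hi2)).2.2.2.1
    have e1 : d⁻¹ * (φ tauM * d⁻¹ * φ tauM) * φ a * (d⁻¹ * (φ tauM * d⁻¹ * φ tauM))⁻¹ =
        φ (dWi (cjg true tauM (dWi a'))) := by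
      calc _ = d⁻¹ * (φ tauM * (d⁻¹ * (φ tauM * φ a * (φ tauM)⁻¹) * d) * (φ tauM)⁻¹) * d := by group
        _ = _ := by rw [N.conj_eq, ← ha', hAi _ ht, N.conj_eq, hAi _ ht2]
    have key : ∀ c ∈ wList, dWi (cjg true tauM (dWi (cjg true tauM c))) = c := by decide +kernel
    rw [key a (hWmem a ha)] at e1
    exact mul_inv_eq_iff_eq_mul.1 e1)
  have hfd : φ tauM * d⁻¹ * φ tauM = d * φ b := by rw [hb, mul_inv_cancel_left]
  have hbv : b ∈ vpList := hvp b hbW (by
    rw [← hfd]
    calc φ tauM * d⁻¹ * φ tauM * (φ tauM * d⁻¹ * φ tauM) * (φ tauM * d⁻¹ * φ tauM)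
        = φ tauM * d⁻¹ * (φ tauM * φ tauM) * d⁻¹ * (φ tauM * φ tauM) * d⁻¹ * φ tauM := by
          simp only [mul_assoc]
      _ = φ tauM * (d * d * d)⁻¹ * φ tauM := by rw [htau]; group
      _ = 1 := by rw [hd3, inv_one, mul_one, htau])
  have hbfix : dWi (cjg true tauM b) = b := by
    have e : φ tauM * (φ tauM * d⁻¹ * φ tauM)⁻¹ * φ tauM = d := by
      calc φ tauM * (φ tauM * d⁻¹ * φ tauM)⁻¹ * φ tauM
          = φ tauM * (φ tauM)⁻¹ * d * ((φ tauM)⁻¹ * φ tauM) := by group
        _ = d := by rw [mul_inv_cancel, inv_mul_cancel, one_mul, mul_one]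
    rw [hfd, mul_inv_rev, N.inW_inv hbW] at e
    have hbt := (dW_facts b (hWmem b hbW)).2.2.2.1
    have e2 : φ (dWi (cjg true tauM b)) * φ b = 1 := by
      rw [← hAi _ hbt, ← N.conj_eq, htauinv]
      calc d⁻¹ * (φ tauM * φ b * φ tauM) * d * φ b
          = d⁻¹ * (φ tauM * φ b * (φ tauM * d * φ tauM) * φ tauM) * φ b := by
            simp only [mul_assoc, htau, mul_one]
        _ = d⁻¹ * (φ tauM * φ b * (φ tauM * d * φ tauM) * φ tauM) * φ b := rfl
        _ = 1 := by
          have h' : φ tauM * d * φ tauM = (d * φ b)⁻¹ := by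
            rw [← hfd]; rw [mul_inv_rev, mul_inv_rev, inv_inv, htauinv, mul_assoc]
          have h'' : φ tauM * d⁻¹ * φ tauM = d * φ b := hfd
          have h3 : φ tauM * (φ b * d⁻¹) * φ tauM = d := by
            simpa [mul_assoc] using e
          calc d⁻¹ * (φ tauM * φ b * (φ tauM * d * φ tauM) * φ tauM) * φ b
              = d⁻¹ * (φ tauM * φ b * ((φ b)⁻¹ * d⁻¹) * φ tauM) * φ b := by rw [h', mul_inv_rev]
            _ = d⁻¹ * (φ tauM * d⁻¹ * φ tauM) * φ b := by group
            _ = φ b * φ b := by rw [h'']; group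
            _ = 1 := by rw [N.toCd.mul, (w_closed b (hWmem b hbW)).2.1, N.toCd.map_one]
    rw [← N.inW_inv hbW] at e2
    exact N.toCd.inj (mul_inv_eq_one.1 e2)
  obtain ⟨hvpW, -, hsol⟩ := vp_facts b hbv
  obtain ⟨a, hav, hab⟩ := hsol hbfix
  have haW := (vp_facts a hav).1
  set d1 := d * φ a with hd1
  have hconj : ∀ c, inW c = true → d1 * φ c * d1⁻¹ = φ (dW c) := by
    intro c hc
    calc d1 * φ c * d1⁻¹ = d * (φ a * φ c * (φ a)⁻¹) * d⁻¹ := by rw [hd1]; group
      _ = _ := by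
        rw [(N.toFz.comm_W (N.toFz.mem_W.2 haW) (N.toFz.mem_W.2 hc)).eq, mul_inv_cancel_right,
          hA c hc]
  have h13 : d1 * d1 * d1 = 1 := by
    rw [hd1, hcube a haW, hcomm3 a haW, (vp_facts a hav).2.1, N.toCd.map_one]
  have hat := (dW_facts a (hWmem a haW)).2.2.2.1
  have h1t : φ tauM * d1 * φ tauM = d1⁻¹ := by
    have : φ tauM * d1⁻¹ * φ tauM = d1 := by
      calc φ tauM * d1⁻¹ * φ tauM = (φ tauM * φ a * (φ tauM)⁻¹) * (φ tauM * d⁻¹ * φ tauM) := by
            rw [hd1, mul_inv_rev, N.inW_inv haW]; group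
        _ = d * (d⁻¹ * φ (cjg true tauM a) * d * φ b) := by rw [N.conj_eq, hfd]; group
        _ = _ := by rw [hAi _ hat, N.toCd.mul, hab]
    calc φ tauM * d1 * φ tauM = ((φ tauM)⁻¹ * d1⁻¹ * (φ tauM)⁻¹)⁻¹ := by group
      _ = _ := by rw [htauinv, this]
  -- it commutes with its conjugate
  set σ := φ sigM with hσ
  have hσσ : σ * σ = 1 := N.sig_sq
  have hσi : σ⁻¹ = σ := inv_eq_of_mul_eq_one_right hσσ
  set d' := σ * d1 * σ with hd'
  have hconj' : ∀ c, inW c = true → d' * φ c * d'⁻¹ = φ (cjg true sigM (dW (cjg true sigM c))) := by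
    intro c hc
    have hs := (dW_facts c (hWmem c hc)).2.2.1
    calc d' * φ c * d'⁻¹ = σ * (d1 * (σ * φ c * σ⁻¹) * d1⁻¹) * σ⁻¹ := by
          rw [hd', mul_inv_rev, mul_inv_rev, hσi]; group
      _ = _ := by rw [hσ, N.conj_eq, hconj _ hs, N.conj_eq]
  obtain ⟨w0, hw0W, hw0⟩ := hcentW (d' * d1 * d'⁻¹ * d1⁻¹) (by
    intro c hc
    have e1 : d' * d1 * φ c * (d' * d1)⁻¹ = d1 * d' * φ c * (d1 * d')⁻¹ := by
      have h1 := (dW_facts c (hWmem c hc)).1
      have hs := (dW_facts c (hWmem c hc)).2.2.1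
      have hs2 := (dW_facts _ (hWmem _ (dW_facts _ (hWmem _ hs)).1)).2.2.1
      calc d' * d1 * φ c * (d' * d1)⁻¹ = d' * (d1 * φ c * d1⁻¹) * d'⁻¹ := by group
        _ = d1 * (d' * φ c * d'⁻¹) * d1⁻¹ := by
          rw [hconj c hc, hconj' _ h1, hconj' c hc, hconj _ hs2]
          exact congrArg φ (dW_facts c (hWmem c hc)).2.2.2.2.2.2.2.2.symm
        _ = _ := by group
    set p := d' * d1
    set q := d1 * d'
    have e2 : Commute (q⁻¹ * p) (φ c) := by
      show q⁻¹ * p * φ c = φ c * (q⁻¹ * p)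
      calc q⁻¹ * p * φ c = q⁻¹ * (p * φ c * p⁻¹) * p := by group
        _ = q⁻¹ * (q * φ c * q⁻¹) * p := by rw [e1]
        _ = _ := by group
    have e3 : d' * d1 * d'⁻¹ * d1⁻¹ = q * (q⁻¹ * p) * q⁻¹ := by simp only [p, q]; group
    rw [e3]
    have hq : ∀ x ∈ N.toFz.W, q⁻¹ * x * q ∈ N.toFz.W := by
      intro x hx
      have hN : q ∈ normalizer (N.toFz.W : Set G) := by
        refine mem_normalizer_fintype fun y hy => ?_
        obtain ⟨y', hy', rfl⟩ := hy
        show q * φ y' * q⁻¹ ∈ N.toFz.W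
        have hyW : inW y' = true := List.contains_iff_mem.2 hy'
        have hs := (dW_facts y' hy').2.2.1
        have hs2 := (dW_facts _ (hWmem _ (dW_facts _ (hWmem _ hs)).1)).2.2.1
        rw [show q * φ y' * q⁻¹ = d1 * (d' * φ y' * d'⁻¹) * d1⁻¹ by simp only [q]; group,
          hconj' _ hyW, hconj _ hs2, N.toFz.mem_W]
        exact (dW_facts _ (hWmem _ hs2)).1
      have := (mem_normalizer_iff.1 (inv_mem hN) x).1 hx
      rwa [inv_inv] at this
    obtain ⟨c', hc', ec⟩ := hq (φ c) (N.toFz.mem_W.2 hc)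
    have e4 : Commute (q⁻¹ * p) (φ c') := by
      have h5 : ∀ x, inW x = true → Commute (q⁻¹ * p) (φ x) → True := fun _ _ _ => trivial
      have hc'W : inW c' = true := List.contains_iff_mem.2 hc'
      have h1 := (dW_facts c' hc').1
      have hs := (dW_facts c' hc').2.2.1
      have hs2 := (dW_facts _ (hWmem _ (dW_facts _ (hWmem _ hs)).1)).2.2.1
      have e1' : p * φ c' * p⁻¹ = q * φ c' * q⁻¹ := by
        simp only [p, q]
        calc d' * d1 * φ c' * (d' * d1)⁻¹ = d' * (d1 * φ c' * d1⁻¹) * d'⁻¹ := by group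
          _ = d1 * (d' * φ c' * d'⁻¹) * d1⁻¹ := by
            rw [hconj c' hc'W, hconj' _ h1, hconj' c' hc'W, hconj _ hs2]
            exact congrArg φ (dW_facts c' hc').2.2.2.2.2.2.2.2.symm
          _ = _ := by group
      show q⁻¹ * p * φ c' = φ c' * (q⁻¹ * p)
      calc q⁻¹ * p * φ c' = q⁻¹ * (p * φ c' * p⁻¹) * p := by group
        _ = q⁻¹ * (q * φ c' * q⁻¹) * p := by rw [e1']
        _ = _ := by group
    have := (SemiconjBy.conj_iff (b := q)).2 e4
    rwa [show q * φ c' * q⁻¹ = φ c by rw [ec]; group] at this)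
  have hw0v : w0 ∈ vpList := by
    have hord : (d' * d1 * d'⁻¹) * (d' * d1 * d'⁻¹) * (d' * d1 * d'⁻¹) = 1 := by
      calc _ = d' * (d1 * d1 * d1) * d'⁻¹ := by group
        _ = 1 := by rw [h13]; group
    have hw : d' * d1 * d'⁻¹ = φ w0 * d1 := by rw [hw0, inv_mul_cancel_right]
    rw [hw] at hord
    have h3 : d1 * φ w0 * (d1 * φ w0) * (d1 * φ w0) = 1 := by
      calc _ = (φ w0)⁻¹ * (φ w0 * d1 * (φ w0 * d1) * (φ w0 * d1)) * φ w0 := by group
        _ = 1 := by rw [hord]; group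
    have h4 : d1 * φ w0 * (d1 * φ w0) * (d1 * φ w0) =
        φ (mm true false (mm true false (dW w0) (dWi w0)) w0) := by
      have hd12 : d1⁻¹ = d1 * d1 := inv_eq_of_mul_eq_one_left h13
      rw [← N.toCd.mul, ← N.toCd.mul, ← hconj w0 hw0W]
      have : φ (dWi w0) = d1⁻¹ * φ w0 * d1 := by
        rw [show dWi w0 = dW (dW w0) from rfl, ← hconj _ (dW_facts w0 (hWmem w0 hw0W)).1,
          ← hconj w0 hw0W]
        calc d1 * (d1 * φ w0 * d1⁻¹) * d1⁻¹
            = (d1 * d1 * d1) * (d1⁻¹ * φ w0 * d1) * (d1 * d1 * d1)⁻¹ := by group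
          _ = _ := by rw [h13, inv_one, mul_one, one_mul]
      rw [this]
      calc d1 * φ w0 * (d1 * φ w0) * (d1 * φ w0)
          = d1 * φ w0 * d1⁻¹ * (d1 * d1 * φ w0 * d1) * φ w0 := by group
        _ = _ := by rw [← hd12]
    rw [h4, hcomm3 w0 hw0W, ← N.toCd.map_one] at h3
    exact (dW_facts w0 (hWmem w0 hw0W)).2.2.2.2.2.2.1 (N.toCd.inj h3)
  have hσd : σ * d' * σ = d1 := by
    rw [hd']
    calc σ * (σ * d1 * σ) * σ = σ * σ * d1 * (σ * σ) := by simp only [mul_assoc]
      _ = _ := by rw [hσσ, one_mul, mul_one]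
  have hfix : cjg true sigM w0 = w0 := by
    refine N.toCd.inj ?_
    rw [← N.conj_eq, ← hσ]; nth_rw 1 [hw0]
    calc σ * (d' * d1 * d'⁻¹ * d1⁻¹) * σ⁻¹
        = σ * d' * σ⁻¹ * (σ * d1 * σ⁻¹) * (σ * d' * σ⁻¹)⁻¹ * (σ * d1 * σ⁻¹)⁻¹ := by group
      _ = d1 * d' * d1⁻¹ * d'⁻¹ := by rw [hσi, hσd, ← hd']
      _ = (φ w0)⁻¹ := by rw [hw0]; group
      _ = φ w0 := N.inW_inv hw0W
  have hw1 := (dW_facts w0 (hWmem w0 hw0W)).2.2.2.2.2.2.2.1 hfix hw0v
  rw [hw1, N.toCd.map_one] at hw0
  refine ⟨{ d := d1, d3 := h13, du := ?_, dv := ?_, dus := ?_, dv2 := ?_, tdt := h1t, dd' := ?_ }⟩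
  · exact (hconj _ (loc_facts.1 uM (by simp))).trans (congrArg φ (by decide +kernel))
  · exact (hconj _ (loc_facts.1 vM (by simp))).trans (congrArg φ (by decide +kernel))
  · exact (hconj _ (loc_facts.1 usM (by simp))).trans (congrArg φ (by decide +kernel))
  · exact (hconj _ (loc_facts.1 v2M (by simp))).trans (congrArg φ (by decide +kernel))
  · show d1 * d' = d' * d1
    calc d1 * d' = d1 * d' * 1 := (mul_one _).symm
      _ = d' * d1 := by
        have h := mul_inv_eq_one.1 hw0.symm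
        have h2 : d' * d1 = d1 * d' := mul_inv_eq_iff_eq_mul.1 h
        rw [h2, mul_one]

end Nm

namespace Loc

variable {G : Type*} [Group G] {s : G} {N : Nm s} (L : Loc N)

local notation "φ" => N.toCd.φ

/-- The five generators. -/
def gens5 : Fin 5 → G := ![φ (genM 0), φ (genM 1), φ (genM 2), φ (genM 3), L.d]

include L

theorem wval_small {w : List ℕ} (hw : small w = true) : wval L.gens5 w = φ (wM w) := by
  induction w with
  | nil => exact N.toCd.map_one.symm
  | cons a w ih =>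
    simp only [small, List.all_cons, Bool.and_eq_true, decide_eq_true_eq] at hw
    show elOf L.gens5 a * wval L.gens5 w = φ (mm true false (letM a) (wM w))
    rw [← N.toCd.mul, ← ih hw.2]
    congr 1
    obtain ⟨n, hn, rfl⟩ : ∃ n, n < 8 ∧ n = a := ⟨a, hw.1, rfl⟩
    interval_cases n <;> simp [elOf, letM, gens5, N.toCd.map_inv] <;> rfl

theorem wval_d : wval L.gens5 [8] = L.d ∧ wval L.gens5 [9] = L.d⁻¹ := by
  constructor <;> simp [wval, elOf, gens5]

theorem act {a : M} (ha : inW a = true) : L.d * φ a * L.d⁻¹ = φ (dW a) :=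
  N.act_w L.du L.dv L.dus L.dv2 ha

theorem act_inv {a : M} (ha : inW a = true) : L.d⁻¹ * φ a * L.d = φ (dWi a) := by
  have h1 := (dW_facts a (List.contains_iff_mem.1 ha)).1
  have hd2 : L.d⁻¹ = L.d * L.d := inv_eq_of_mul_eq_one_left L.d3
  rw [show dWi a = dW (dW a) from rfl, ← L.act h1, ← L.act ha]
  calc L.d⁻¹ * φ a * L.d = (L.d * L.d * L.d)⁻¹ * (L.d * (L.d * φ a * L.d⁻¹) * L.d⁻¹) *
        (L.d * L.d * L.d) := by group
    _ = _ := by rw [L.d3, inv_one, one_mul, mul_one]

/-- The product `d * d'` or `d * d'⁻¹`. -/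
def eEl (b : Bool) : G := L.d * φ sigM * (if b then L.d⁻¹ else L.d) * φ sigM

theorem wval_eWord (b : Bool) : wval L.gens5 (eWord b) = L.eEl b := by
  obtain ⟨-, -, -, -, -, h5, h6, -⟩ := outer_words
  have hs : wval L.gens5 (sigWord b) = φ sigM := by
    cases b
    · exact (L.wval_small (by decide +kernel)).trans (congrArg φ h5)
    · exact (L.wval_small (by decide +kernel)).trans (congrArg φ h6)
  rw [eWord, show (8 :: sigWord b ++ (if b then 9 else 8) :: sigWord b) =
      [8] ++ sigWord b ++ [if b then 9 else 8] ++ sigWord b by simp, wval_append, wval_append,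
    wval_append, hs, L.wval_d.1]
  cases b
  · simp [eEl, L.wval_d.1]
  · simp [eEl, L.wval_d.2]

theorem eEl_comm (b : Bool) : Commute (L.eEl b) (φ (gE b)) := by
  set σ := φ sigM with hσ
  set τ := φ tauM with hτ
  have hss : σ * σ = 1 := N.sig_sq
  have htt : τ * τ = 1 := N.tau_sq
  have hsi : σ⁻¹ = σ := inv_eq_of_mul_eq_one_right hss
  have hti : τ⁻¹ = τ := inv_eq_of_mul_eq_one_right htt
  have hst : Commute σ τ := N.toCd.commute_iff.2 loc_facts.2.2.2.2.2.2.2.2.1
  have hdd : L.d * (σ * L.d * σ) = σ * L.d * σ * L.d := L.dd'.eq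
  cases b
  · refine (mul_inv_eq_iff_eq_mul.1 ?_).symm
    show φ sigM * L.eEl false * (φ sigM)⁻¹ = L.eEl false
    simp only [eEl, ← hσ, hsi, Bool.false_eq_true, if_false]
    calc σ * (L.d * σ * L.d * σ) * σ = σ * L.d * σ * L.d * (σ * σ) := by simp only [mul_assoc]
      _ = L.d * σ * L.d * σ := by rw [hss, mul_one, ← hdd]; simp only [mul_assoc]
  · refine (mul_inv_eq_iff_eq_mul.1 ?_).symm
    have hg : φ (gE true) = τ * σ := by rw [hτ, hσ, N.toCd.mul]; rfl
    have htd : τ * L.d * τ = L.d⁻¹ := L.tdt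
    have htd' : τ * L.d⁻¹ * τ = L.d := by
      calc τ * L.d⁻¹ * τ = (τ⁻¹ * L.d * τ⁻¹)⁻¹ := by group
        _ = _ := by rw [hti, htd, inv_inv]
    have hdd' : Commute L.d⁻¹ (σ * L.d * σ) := L.dd'.inv_left
    simp only [eEl, ← hσ, if_true, hg, mul_inv_rev, hsi, hti]
    calc τ * σ * (L.d * σ * L.d⁻¹ * σ) * (σ * τ)
        = τ * (σ * L.d * σ * L.d⁻¹) * (σ * σ) * τ := by simp only [mul_assoc]
      _ = τ * (L.d⁻¹ * (σ * L.d * σ)) * τ := by rw [hss, mul_one, hdd'.eq]
      _ = τ * L.d⁻¹ * (τ * τ) * σ * L.d * σ * τ := by rw [htt, mul_one]; simp only [mul_assoc]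
      _ = L.d * σ * (τ * L.d * τ) * σ := by
        calc τ * L.d⁻¹ * (τ * τ) * σ * L.d * σ * τ
            = τ * L.d⁻¹ * τ * (τ * σ) * L.d * (σ * τ) := by simp only [mul_assoc]
          _ = L.d * (σ * τ) * L.d * (τ * σ) := by rw [htd', ← hst.eq]
          _ = _ := by simp only [mul_assoc]
      _ = _ := by rw [htd]

theorem eEl_W (b : Bool) {a : M} (ha : inW a = true) :
    L.eEl b * φ a * (L.eEl b)⁻¹ = φ (ePair b a) := by
  have hs := (dW_facts a (List.contains_iff_mem.1 ha)).2.2.1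
  have hsi : (φ sigM)⁻¹ = φ sigM := inv_eq_of_mul_eq_one_right N.sig_sq
  have h1 := (dW_facts _ (List.contains_iff_mem.1 hs)).1
  cases b
  · have h2 := (dW_facts _ (List.contains_iff_mem.1 h1)).2.2.1
    calc L.eEl false * φ a * (L.eEl false)⁻¹
        = L.d * (φ sigM * (L.d * (φ sigM * φ a * (φ sigM)⁻¹) * L.d⁻¹) * (φ sigM)⁻¹) * L.d⁻¹ := by
          simp only [eEl, Bool.false_eq_true, if_false]; group
      _ = _ := by rw [N.conj_eq, L.act hs, N.conj_eq, L.act h2]; rfl
  · have h1' := (dW_facts _ (List.contains_iff_mem.1 h1)).1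
    have h2 := (dW_facts _ (List.contains_iff_mem.1 h1')).2.2.1
    calc L.eEl true * φ a * (L.eEl true)⁻¹
        = L.d * (φ sigM * (L.d⁻¹ * (φ sigM * φ a * (φ sigM)⁻¹) * L.d) * (φ sigM)⁻¹) * L.d⁻¹ := by
          simp only [eEl, if_true]; group
      _ = _ := by rw [N.conj_eq, L.act_inv hs, N.conj_eq]; exact L.act h2

theorem eEl_act (b : Bool) {a : M} (ha : a ∈ e8 b) :
    L.eEl b * φ a * (L.eEl b)⁻¹ = φ (eAct b a) := by
  obtain ⟨hcase, hgg, -, -⟩ := (e8_facts b (mem_bools b)).2.2.1 a ha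
  unfold eAct
  split
  · rename_i h; exact L.eEl_W b h
  · rename_i h
    have h' := hcase.resolve_left h
    rw [← N.toCd.mul, ← L.eEl_W b h']
    conv_lhs => rw [← hgg, ← N.toCd.mul]
    calc L.eEl b * (φ (gE b) * φ (mm true false (gE b) a)) * (L.eEl b)⁻¹
        = L.eEl b * φ (gE b) * (L.eEl b)⁻¹ *
            (L.eEl b * φ (mm true false (gE b) a) * (L.eEl b)⁻¹) := by group
      _ = _ := by rw [(L.eEl_comm b).eq, mul_inv_cancel_right]

theorem quad_one [Finite G] {q : List ℕ × Bool} (hq : q ∈ quadData) :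
    (φ (wM q.1) * L.eEl q.2) ^ 4 = 1 := by
  obtain ⟨-, hact⟩ := quad_facts q hq
  obtain ⟨-, hcs, hE, hcent⟩ := e8_facts q.2 (mem_bools _)
  set y := φ (wM q.1) * L.eEl q.2 with hy
  set p := fun c => cjg true (wM q.1) (eAct q.2 c) with hp
  have h1 : ∀ a ∈ e8 q.2, y * φ a * y⁻¹ = φ (p a) := by
    intro a ha
    calc y * φ a * y⁻¹ = φ (wM q.1) * (L.eEl q.2 * φ a * (L.eEl q.2)⁻¹) * (φ (wM q.1))⁻¹ := by
          rw [hy]; group
      _ = _ := by rw [L.eEl_act q.2 ha, N.conj_eq]
  have hcomm : ∀ a ∈ e8 q.2, Commute (y ^ 4) (φ a) := by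
    intro a ha
    refine mul_inv_eq_iff_eq_mul.1 ?_
    have ha1 := (hact a ha).1
    have ha2 := (hact _ ha1).1
    have ha3 := (hact _ ha2).1
    calc y ^ 4 * φ a * (y ^ 4)⁻¹ = y * (y * (y * (y * φ a * y⁻¹) * y⁻¹) * y⁻¹) * y⁻¹ := by
          simp only [pow_succ, pow_zero, one_mul]; group
      _ = φ (p (p (p (p a)))) := by rw [h1 a ha, h1 _ ha1, h1 _ ha2, h1 _ ha3]
      _ = φ a := congrArg φ (hact a ha).2
  obtain ⟨m, hm⟩ := N.toCd.surj (y ^ 4) (N.toCd.map_cs ▸ hcomm cs hcs)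
  have hmE := hcent m (mem_all m) fun a ha => N.toCd.commute_iff.1 (hm ▸ hcomm a ha)
  obtain ⟨-, -, hfl, hcases⟩ := hE m hmE
  rcases hcases with e | hI
  · rw [← hm, e, N.toCd.map_one]
  exfalso
  obtain ⟨g, hg⟩ := isConj_iff.1 ((N.flags m).1 (hfl hI))
  rw [hm] at hg
  have hys : Commute (g⁻¹ * y * g) s := by
    have h := (Commute.refl y).pow_right 4
    show g⁻¹ * y * g * s = s * (g⁻¹ * y * g)
    have hs : g⁻¹ * y ^ 4 * g = s := by rw [← hg]; group
    rw [← hs]
    calc g⁻¹ * y * g * (g⁻¹ * y ^ 4 * g) = g⁻¹ * (y * y ^ 4) * g := by group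
      _ = g⁻¹ * (y ^ 4 * y) * g := by rw [h.eq]
      _ = _ := by group
  obtain ⟨n, hn⟩ := N.toCd.surj _ hys
  have hI' := hI
  simp only [isInv, Bool.and_eq_true, beq_iff_eq, bne_iff_ne] at hI'
  have hn4 : φ (mm true false (mm true false n n) (mm true false n n)) = s := by
    rw [← N.toCd.mul, ← N.toCd.mul, hn]
    calc g⁻¹ * y * g * (g⁻¹ * y * g) * (g⁻¹ * y * g * (g⁻¹ * y * g)) = g⁻¹ * y ^ 4 * g := by
          simp only [pow_succ, pow_zero, one_mul]; group
      _ = s := by rw [← hg]; group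
  have h4 := N.toCd.inj (hn4.trans N.toCd.map_cs.symm)
  have hcs2 : mm true false cs cs = oneM := by decide +kernel
  have h8 := no_eight n (mem_all n) (show _ = oneM by simp only [h4]; exact hcs2)
  simp only [h4] at h8
  exact absurd h8 (by decide +kernel)

/-- The relators hold. -/
theorem sat [Finite G] : Sat L.gens5 := by
  intro w hw
  rw [eightBase, List.mem_append] at hw
  rcases hw with hw | hw
  · have h := List.all_eq_true.1 inner_check w hw
    simp only [Bool.and_eq_true, beq_iff_eq] at h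
    rw [L.wval_small h.1, h.2, N.toCd.map_one]
  rw [outer_check, List.mem_append] at hw
  obtain ⟨o1, o2, o3, o4, o5, o6, o7, o8, o9, o10, o11⟩ := outer_words
  have hd := L.wval_d
  have hinv : ∀ {a : M}, inW a = true → (φ a)⁻¹ = φ a := fun h => N.inW_inv h
  rcases hw with hw | hw
  · simp only [List.mem_cons, List.not_mem_nil, or_false] at hw
    rcases hw with rfl | rfl | rfl | rfl | rfl | rfl | rfl
    · rw [show [8, 8, 8] = [8] ++ [8] ++ [8] from rfl, wval_append, wval_append, hd.1, L.d3]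
    · rw [show [8, 0, 0, 6, 9, 7, 1, 1] = [8] ++ [0, 0, 6] ++ [9] ++ [7, 1, 1] from rfl, wval_append,
        wval_append, wval_append, hd.1, hd.2, L.wval_small (by decide +kernel), o2,
        L.wval_small (w := [7, 1, 1]) (by decide +kernel), o3, L.dv, ← N.toFz.sq_W
          (N.toFz.mem_W.2 (loc_facts.1 vM (by simp)))]
    · rw [show [4, 0, 5, 2] ++ 8 :: [4, 0, 5, 2] ++ [8] = [4, 0, 5, 2] ++ [8] ++ [4, 0, 5, 2] ++ [8]
          from rfl, wval_append, wval_append, wval_append, hd.1,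
        L.wval_small (by decide +kernel), o1, L.tdt, inv_mul_cancel]
    · rw [show 8 :: [0, 4, 0, 5, 4, 2, 5] ++ 9 :: [4, 3, 5, 4, 1, 5, 1] =
          [8] ++ [0, 4, 0, 5, 4, 2, 5] ++ [9] ++ [4, 3, 5, 4, 1, 5, 1] from rfl, wval_append,
        wval_append, wval_append, hd.1, hd.2, L.wval_small (by decide +kernel), o4,
        L.wval_small (w := [4, 3, 5, 4, 1, 5, 1]) (by decide +kernel), o5, L.du, ← N.toFz.sq_W
          (N.toFz.mem_W.2 (loc_facts.1 uM (by simp)))]
    · rw [show 8 :: [0, 4, 2, 5] ++ 8 :: [0, 4, 2, 5] ++ 9 :: [0, 4, 2, 5] ++ 9 :: [0, 4, 2, 5] =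
          [8] ++ [0, 4, 2, 5] ++ [8] ++ [0, 4, 2, 5] ++ [9] ++ [0, 4, 2, 5] ++ [9] ++ [0, 4, 2, 5]
          from rfl]
      simp only [wval_append, hd.1, hd.2, L.wval_small (w := [0, 4, 2, 5]) (by decide +kernel), o6]
      have hss : φ sigM * φ sigM = 1 := N.sig_sq
      have hsi : (φ sigM)⁻¹ = φ sigM := inv_eq_of_mul_eq_one_right hss
      calc L.d * φ sigM * L.d * φ sigM * L.d⁻¹ * φ sigM * L.d⁻¹ * φ sigM
          = L.d * (φ sigM * L.d * φ sigM) * L.d⁻¹ * (φ sigM * L.d⁻¹ * φ sigM) := by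
            simp only [mul_assoc]
        _ = φ sigM * L.d * φ sigM * (φ sigM * L.d⁻¹ * φ sigM) := by
            rw [L.dd'.eq, mul_inv_cancel_right]
        _ = φ sigM * L.d * (φ sigM * φ sigM) * L.d⁻¹ * φ sigM := by simp only [mul_assoc]
        _ = 1 := by rw [hss]; simp [hss]
    · rw [show 8 :: [0, 4, 0, 5, 4, 2, 5, 0, 0] ++ 9 :: [0, 4, 2, 5, 7, 1, 1, 4, 3, 5, 1] =
          [8] ++ [0, 4, 0, 5, 4, 2, 5, 0, 0] ++ [9] ++ [0, 4, 2, 5, 7, 1, 1, 4, 3, 5, 1] from rfl,
        wval_append, wval_append, wval_append, hd.1, hd.2, L.wval_small (by decide +kernel), o8,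
        L.wval_small (w := [0, 4, 2, 5, 7, 1, 1, 4, 3, 5, 1]) (by decide +kernel), o9, L.dus,
        ← N.toFz.sq_W (N.toFz.mem_W.2 (loc_facts.1 v2M (by simp)))]
    · rw [show 8 :: [0, 4, 2, 5, 0, 0, 6, 4, 3, 5, 1] ++
          9 :: [0, 4, 2, 5, 7, 1, 1, 4, 3, 5, 1, 1, 1, 4, 3, 5, 4, 1, 5, 1] =
          [8] ++ [0, 4, 2, 5, 0, 0, 6, 4, 3, 5, 1] ++ [9] ++
            [0, 4, 2, 5, 7, 1, 1, 4, 3, 5, 1, 1, 1, 4, 3, 5, 4, 1, 5, 1] from rfl,
        wval_append, wval_append, wval_append, hd.1, hd.2, L.wval_small (by decide +kernel), o10,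
        L.wval_small (w := [0, 4, 2, 5, 7, 1, 1, 4, 3, 5, 1, 1, 1, 4, 3, 5, 4, 1, 5, 1])
          (by decide +kernel), o11, L.dv2]
      exact N.toFz.sq_W (N.toFz.mem_W.2 (by decide +kernel))
  · obtain ⟨q, hq, rfl⟩ := List.mem_map.1 hw
    rw [quad]
    simp only [wval_append, L.wval_small (quad_facts q hq).1, L.wval_eWord]
    have := L.quad_one hq
    simpa [pow_succ, mul_assoc] using this

/-- The alternating group of degree eight maps onto the generated subgroup. -/
theorem exists_psi [Finite G] : ∃ ψ : alternatingGroup (Fin 8) →* G,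
    ∀ b, ∃ a : alternatingGroup (Fin 8), (a : Equiv.Perm (Fin 8)) = perm8 b ∧ ψ a = L.gens5 b :=
  L.sat.exists_hom

end Loc

end Cfsg.Agent.SymThirtyTwo
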