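import Mathlib
import Cfsg.Agent.EqLemmas

/-
Models of a group `2^(1+4).S3` in which an element of order three centralises only the centre of
the extraspecial subgroup (helper22).

* `M`, `mm` : the four models; the first flag says that the element `t` exchanges the two
  quaternion factors, the second that `t * t` is the central involution
* `QRel`, `Rel` : the relations for five, six elements of a group
* `Rel.ev_mul` : such elements give a multiplicative map from the model
-/

set_option autoImplicit false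

namespace Cfsg.Agent.SymThirtyTwo

/-- Coordinates in one quaternion factor. -/
abbrev V2 : Type := Bool × Bool

/-- Elements of the extraspecial subgroup: sign and the two coordinates. -/
abbrev QE : Type := Bool × V2 × V2

/-- Elements of a model. -/
abbrev M : Type := QE × Fin 3 × Bool

def add2 (v w : V2) : V2 := (v.1 ^^ w.1, v.2 ^^ w.2)

/-- The cocycle of a quaternion factor for the normal forms `i^a j^b`. -/
def beta (v w : V2) : Bool := (v.1 && w.1) ^^ (v.2 && w.2) ^^ (v.2 && w.1)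

def qmul (p q : QE) : QE :=
  (p.1 ^^ q.1 ^^ beta p.2.1 q.2.1 ^^ beta p.2.2 q.2.2, add2 p.2.1 q.2.1, add2 p.2.2 q.2.2)

/-- `i ↦ j ↦ k ↦ i`. -/
def sig (v : V2) : V2 := (v.2, v.1 ^^ v.2)

def sigQ (p : QE) : QE := (p.1, sig p.2.1, sig p.2.2)

def sigPow (a : Fin 3) (p : QE) : QE :=
  if a = 0 then p else if a = 1 then sigQ p else sigQ (sigQ p)

/-- `i ↦ i, j ↦ k`, up to sign. -/
def fl (v : V2) : V2 := (v.1 ^^ v.2, v.2)

def nz (v : V2) : Bool := v.1 || v.2

/-- The action of `t`. -/
def tau (sw : Bool) (p : QE) : QE :=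
  (p.1 ^^ nz p.2.1 ^^ nz p.2.2,
    if sw then fl p.2.2 else fl p.2.1, if sw then fl p.2.1 else fl p.2.2)

def tauPow (sw : Bool) (b : Bool) (p : QE) : QE := if b then tau sw p else p

/-- The sign as an element. -/
def sgn (c : Bool) : QE := (c, (false, false), (false, false))

/-- The multiplication of a model. -/
def mm (sw d : Bool) (g h : M) : M :=
  (qmul (qmul g.1 (sigPow g.2.1 (tauPow sw g.2.2 h.1))) (sgn (d && g.2.2 && h.2.2)),
    if g.2.2 then g.2.1 - h.2.1 else g.2.1 + h.2.1, g.2.2 ^^ h.2.2)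

def oneM : M := (sgn false, 0, false)

/-- The central involution. -/
def cs : M := (sgn true, 0, false)

def bools : List Bool := [false, true]

def qs : List QE :=
  bools.flatMap fun c => bools.flatMap fun a => bools.flatMap fun b => bools.flatMap fun a' =>
    bools.map fun b' => (c, (a, b), (a', b'))

theorem mem_qs (p : QE) : p ∈ qs := by
  revert p
  decide +kernel

/-- The inverse of an element of the extraspecial subgroup. -/
def qinv (p : QE) : QE := (p.1 ^^ beta p.2.1 p.2.1 ^^ beta p.2.2 p.2.2, p.2.1, p.2.2)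

theorem qinv_spec : ∀ p ∈ qs, qmul (qinv p) p = sgn false ∧
    ∀ q ∈ qs, qmul (qinv p) q = sgn false → p = q := by decide +kernel

set_option synthInstance.maxSize 1024 in
theorem central_spec : ∀ p ∈ qs, (∀ r ∈ qs, qmul p r = qmul r p) → p = sgn false ∨ p = sgn true := by
  decide +kernel

/-- The elements of a model. -/
def all : List M :=
  qs.flatMap fun q => ([0, 1, 2] : List (Fin 3)).flatMap fun a => bools.map fun b => (q, a, b)

theorem mem_all (m : M) : m ∈ all := by
  revert m
  decide +kernel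

theorem all_nodup : all.Nodup ∧ all.length = 192 := by decide +kernel

section Hom

variable {G : Type*} [Group G]

/-- `z` to a power given by a flag. -/
def bp (g : G) (c : Bool) : G := if c then g else 1

/-- Five elements satisfying the relations of the subgroup of index two of a model. -/
structure QRel (z i j i' j' x : G) : Prop where
  z_sq : z * z = 1
  i_sq : i * i = z
  j_sq : j * j = z
  i'_sq : i' * i' = z
  j'_sq : j' * j' = z
  ji : j * i = i * j * z
  j'i' : j' * i' = i' * j' * z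
  ii' : Commute i i'
  ij' : Commute i j'
  ji' : Commute j i'
  jj' : Commute j j'
  x_three : x ^ 3 = 1
  xi : x * i * x⁻¹ = j
  xj : x * j * x⁻¹ = i * j
  xi' : x * i' * x⁻¹ = j'
  xj' : x * j' * x⁻¹ = i' * j'

/-- Six elements satisfying the relations of a model. -/
structure Rel (sw d : Bool) (z i j i' j' x t : G) : Prop extends QRel z i j i' j' x where
  t_sq : t * t = bp z d
  tx : t * x * t⁻¹ = x⁻¹
  ti : t * i * t⁻¹ = z * (if sw then i' else i)
  ti' : t * i' * t⁻¹ = z * (if sw then i else i')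

variable {sw d : Bool} {z i j i' j' x t : G}

/-- Elements of a factor. -/
def pv (i j : G) (v : V2) : G := bp i v.1 * bp j v.2

/-- The image of an element of the extraspecial subgroup. -/
def evQ (z i j i' j' : G) (p : QE) : G := bp z p.1 * (pv i j p.2.1 * pv i' j' p.2.2)

/-- The image of an element of the model. -/
def ev (z i j i' j' x t : G) (m : M) : G :=
  evQ z i j i' j' m.1 * (x ^ (m.2.1 : ℕ) * bp t m.2.2)

theorem pv_mul (h1 : i * i = z) (h2 : j * j = z) (h3 : j * i = i * j * z) (hz : z * z = 1)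
    (v w : V2) : pv i j v * pv i j w = bp z (beta v w) * pv i j (add2 v w) := by
  have zi : Commute z i := h1 ▸ (Commute.refl i).mul_left (Commute.refl i)
  have zj : Commute z j := h2 ▸ (Commute.refl j).mul_left (Commute.refl j)
  have e1 : ∀ g, i * (i * g) = z * g := fun g => by rw [← mul_assoc, h1]
  have e2 : ∀ g, j * (j * g) = z * g := fun g => by rw [← mul_assoc, h2]
  have e3 : ∀ g, j * (i * g) = z * (i * (j * g)) := fun g => by
    rw [← mul_assoc, h3, ← (zi.mul_right zj).eq]; simp only [mul_assoc]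
  have e4 : ∀ g, z * (z * g) = g := fun g => by rw [← mul_assoc, hz, one_mul]
  have e5 : ∀ g, i * (z * g) = z * (i * g) := fun g => by rw [← mul_assoc, ← zi.eq, mul_assoc]
  have e6 : ∀ g, j * (z * g) = z * (j * g) := fun g => by rw [← mul_assoc, ← zj.eq, mul_assoc]
  have e7 : j * i = z * (i * j) := by simpa using e3 1
  obtain ⟨_ | _, _ | _⟩ := v <;> obtain ⟨_ | _, _ | _⟩ := w <;>
    simp [pv, bp, beta, add2, mul_assoc, h1, h2, hz, e1, e2, e3, e4, e5, e6, e7, zi.eq.symm,
      zj.eq.symm]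

namespace QRel

variable (R : QRel z i j i' j' x)

include R

theorem zi : Commute z i := R.i_sq ▸ (Commute.refl i).mul_left (Commute.refl i)
theorem zj : Commute z j := R.j_sq ▸ (Commute.refl j).mul_left (Commute.refl j)
theorem zi' : Commute z i' := R.i'_sq ▸ (Commute.refl i').mul_left (Commute.refl i')
theorem zj' : Commute z j' := R.j'_sq ▸ (Commute.refl j').mul_left (Commute.refl j')

theorem zx : Commute z x := by
  have h : x * (i * i) * x⁻¹ = j * j := by rw [← R.xi]; group
  rw [R.i_sq, R.j_sq] at h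
  exact (mul_inv_eq_iff_eq_mul.1 h).symm

theorem bp_z (c c' : Bool) : bp z c * bp z c' = bp z (c ^^ c') := by
  cases c <;> cases c' <;> simp [bp, R.z_sq]

theorem z_comm_bp {g : G} (hg : Commute z g) (c : Bool) : Commute (bp z c) g := by
  cases c <;> simp [bp, hg]

theorem z_comm_pv {a b : G} (ha : Commute z a) (hb : Commute z b) (v : V2) :
    Commute z (pv a b v) := by
  obtain ⟨_ | _, _ | _⟩ := v <;> simp [pv, bp, ha, hb, ha.mul_right hb]

theorem z_comm_evQ (p : QE) : Commute z (evQ z i j i' j' p) :=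
  ((R.z_comm_bp (Commute.refl z) p.1).symm).mul_right
    ((R.z_comm_pv R.zi R.zj p.2.1).mul_right (R.z_comm_pv R.zi' R.zj' p.2.2))

theorem pv_comm (v w : V2) : Commute (pv i j v) (pv i' j' w) := by
  obtain ⟨_ | _, _ | _⟩ := v <;> obtain ⟨_ | _, _ | _⟩ := w <;>
    simp [pv, bp, R.ii', R.ij', R.ji', R.jj', R.ii'.mul_right R.ij', R.ji'.mul_right R.jj',
      R.ii'.mul_left R.ji', R.ij'.mul_left R.jj',
      (R.ii'.mul_right R.ij').mul_left (R.ji'.mul_right R.jj')]

theorem evQ_mul (p q : QE) :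
    evQ z i j i' j' p * evQ z i j i' j' q = evQ z i j i' j' (qmul p q) := by
  obtain ⟨c, v, w⟩ := p
  obtain ⟨c', v', w'⟩ := q
  simp only [evQ, qmul]
  rw [← R.bp_z, ← R.bp_z, ← R.bp_z]
  calc bp z c * (pv i j v * pv i' j' w) * (bp z c' * (pv i j v' * pv i' j' w'))
      = bp z c * bp z c' * ((pv i j v * pv i' j' w) * (pv i j v' * pv i' j' w')) := by
        rw [(R.z_comm_bp ((R.z_comm_pv R.zi R.zj v).mul_right (R.z_comm_pv R.zi' R.zj' w)) c').symm.mul_mul_mul_comm]
    _ = bp z c * bp z c' * ((pv i j v * pv i j v') * (pv i' j' w * pv i' j' w')) := by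
        rw [(R.pv_comm v' w).symm.mul_mul_mul_comm]
    _ = bp z c * bp z c' * (bp z (beta v v') * bp z (beta w w') *
          (pv i j (add2 v v') * pv i' j' (add2 w w'))) := by
        rw [pv_mul R.i_sq R.j_sq R.ji R.z_sq, pv_mul R.i'_sq R.j'_sq R.j'i' R.z_sq,
          (R.z_comm_bp (R.z_comm_pv R.zi R.zj (add2 v v')) (beta w w')).symm.mul_mul_mul_comm]
    _ = _ := by simp only [mul_assoc]

theorem evQ_sgn (c : Bool) : evQ z i j i' j' (sgn c) = bp z c := by
  cases c <;> simp [evQ, sgn, pv, bp]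


theorem x_evQ (p : QE) : x * evQ z i j i' j' p * x⁻¹ = evQ z i j i' j' (sigQ p) := by
  have hv : ∀ (a b : G), x * a * x⁻¹ = b → x * b * x⁻¹ = a * b → a * a = z → b * b = z →
      b * a = a * b * z → Commute z a → Commute z b → ∀ v : V2,
      x * pv a b v * x⁻¹ = pv a b (sig v) := by
    intro a b h1 h2 ha hb hba za zb v
    obtain ⟨_ | _, _ | _⟩ := v
    · simp [pv, bp, sig]
    · simpa [pv, bp, sig] using h2
    · simpa [pv, bp, sig] using h1
    · have : b * (a * b) = a := by
        rw [← mul_assoc, hba, mul_assoc (a * b), zb.eq, ← mul_assoc, mul_assoc a, hb,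
          mul_assoc, R.z_sq, mul_one]
      simp only [pv, bp, sig, Bool.xor_self, if_true, Bool.false_eq_true, if_false, mul_one]
      calc x * (a * b) * x⁻¹ = (x * a * x⁻¹) * (x * b * x⁻¹) := by group
        _ = a := by rw [h1, h2, this]
  obtain ⟨c, v, w⟩ := p
  simp only [evQ, sigQ]
  calc x * (bp z c * (pv i j v * pv i' j' w)) * x⁻¹
      = (x * bp z c * x⁻¹) * ((x * pv i j v * x⁻¹) * (x * pv i' j' w * x⁻¹)) := by group
    _ = _ := by
        rw [hv i j R.xi R.xj R.i_sq R.j_sq R.ji R.zi R.zj,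
          hv i' j' R.xi' R.xj' R.i'_sq R.j'_sq R.j'i' R.zi' R.zj',
          ← (R.z_comm_bp R.zx c).eq, mul_inv_cancel_right]

theorem x_pow_evQ (a : Fin 3) (p : QE) :
    x ^ (a : ℕ) * evQ z i j i' j' p = evQ z i j i' j' (sigPow a p) * x ^ (a : ℕ) := by
  have h : ∀ q : QE, x * evQ z i j i' j' q = evQ z i j i' j' (sigQ q) * x := fun q => by
    rw [← R.x_evQ, inv_mul_cancel_right]
  obtain rfl | rfl | rfl : a = 0 ∨ a = 1 ∨ a = 2 := by revert a; decide
  · simp [sigPow]
  · simpa [sigPow] using h p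
  · rw [show sigPow 2 p = sigQ (sigQ p) from rfl, show ((2 : Fin 3) : ℕ) = 2 from rfl, pow_two,
      mul_assoc, h, ← mul_assoc, h, mul_assoc]

theorem x_pow_mod (n : ℕ) : x ^ (n % 3) = x ^ n := by
  conv_rhs => rw [← Nat.div_add_mod n 3, pow_add, pow_mul, R.x_three, one_pow, one_mul]

end QRel

namespace Rel

variable (R : Rel sw d z i j i' j' x t)

include R

theorem zt : Commute z t := by
  have h : t * (i * i) * t⁻¹ = (t * i * t⁻¹) * (t * i * t⁻¹) := by group
  rw [R.i_sq, R.ti] at h
  have : ∀ u : G, Commute z u → u * u = z → z * u * (z * u) = z := fun u hu hu2 => by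
    rw [(hu.symm).mul_mul_mul_comm, R.z_sq, hu2, one_mul]
  have e : t * z * t⁻¹ = z := by
    rw [h]; split
    exacts [this _ R.zi' R.i'_sq, this _ R.zi R.i_sq]
  exact (mul_inv_eq_iff_eq_mul.1 e).symm

theorem t_evQ (p : QE) : t * evQ z i j i' j' p * t⁻¹ = evQ z i j i' j' (tau sw p) := by
  have hxi : ∀ a b : G, x * a * x⁻¹ = b → Commute z x → ∀ c : G, t * a * t⁻¹ = z * c →
      t * b * t⁻¹ = z * (x⁻¹ * c * x) := by
    intro a b h hzx c hc
    calc t * b * t⁻¹ = (t * x * t⁻¹) * (t * a * t⁻¹) * (t * x * t⁻¹)⁻¹ := by rw [← h]; group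
      _ = z * (x⁻¹ * c * x) := by
        rw [R.tx, hc, inv_inv, ← mul_assoc x⁻¹, ← hzx.inv_right.eq]; simp only [mul_assoc]
  have hk : ∀ a b : G, x * a * x⁻¹ = b → x * b * x⁻¹ = a * b → a * a = z → b * b = z →
      b * a = a * b * z → Commute z a → Commute z b → x⁻¹ * a * x = a * b := by
    intro a b h1 h2 ha hb hba za zb
    have : x * (a * b) * x⁻¹ = a := by
      calc x * (a * b) * x⁻¹ = (x * a * x⁻¹) * (x * b * x⁻¹) := by group
        _ = a := by
          rw [h1, h2, ← mul_assoc, hba, mul_assoc (a * b), zb.eq, ← mul_assoc, mul_assoc a, hb,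
            mul_assoc, R.z_sq, mul_one]
    nth_rw 1 [← this]; group
  have hv : ∀ (a b a' b' : G), Commute z a' → Commute z b' → a' * a' = z → b' * b' = z →
      b' * a' = a' * b' * z → t * a * t⁻¹ = z * a' → t * b * t⁻¹ = z * (a' * b') → ∀ v : V2,
      t * pv a b v * t⁻¹ = bp z (nz v) * pv a' b' (fl v) := by
    intro a b a' b' za zb ha hb hba h1 h2 v
    obtain ⟨_ | _, _ | _⟩ := v
    · simp [pv, bp, fl, nz]
    · simpa [pv, bp, fl, nz, mul_assoc] using h2
    · simpa [pv, bp, fl, nz] using h1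
    · simp only [pv, bp, fl, nz, Bool.xor_self, Bool.or_self, if_true, Bool.false_eq_true,
        if_false, one_mul]
      calc t * (a * b) * t⁻¹ = (t * a * t⁻¹) * (t * b * t⁻¹) := by group
        _ = z * b' := by
          rw [h1, h2, za.symm.mul_mul_mul_comm, R.z_sq, one_mul, ← mul_assoc, ha]
  have hti := R.ti
  have hti' := R.ti'
  have htj := hxi i j R.xi R.zx _ R.ti
  have htj' := hxi i' j' R.xi' R.zx _ R.ti'
  obtain ⟨c, v, w⟩ := p
  have hc : t * bp z c * t⁻¹ = bp z c := by
    rw [← (R.z_comm_bp R.zt c).eq, mul_inv_cancel_right]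
  have e : t * (bp z c * (pv i j v * pv i' j' w)) * t⁻¹ =
      (t * bp z c * t⁻¹) * ((t * pv i j v * t⁻¹) * (t * pv i' j' w * t⁻¹)) := by group
  simp only [evQ, tau]
  rw [e, hc, ← R.bp_z, ← R.bp_z]
  cases sw
  · simp only [Bool.false_eq_true, if_false] at hti hti' htj htj' ⊢
    rw [hk i j R.xi R.xj R.i_sq R.j_sq R.ji R.zi R.zj] at htj
    rw [hk i' j' R.xi' R.xj' R.i'_sq R.j'_sq R.j'i' R.zi' R.zj'] at htj'
    rw [hv i j i j R.zi R.zj R.i_sq R.j_sq R.ji hti htj,
      hv i' j' i' j' R.zi' R.zj' R.i'_sq R.j'_sq R.j'i' hti' htj',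
      (R.z_comm_bp (R.z_comm_pv R.zi R.zj (fl v)) (nz w)).symm.mul_mul_mul_comm]
    simp only [mul_assoc]
  · simp only [if_true] at hti hti' htj htj' ⊢
    rw [hk i' j' R.xi' R.xj' R.i'_sq R.j'_sq R.j'i' R.zi' R.zj'] at htj
    rw [hk i j R.xi R.xj R.i_sq R.j_sq R.ji R.zi R.zj] at htj'
    rw [hv i j i' j' R.zi' R.zj' R.i'_sq R.j'_sq R.j'i' hti htj,
      hv i' j' i j R.zi R.zj R.i_sq R.j_sq R.ji hti' htj',
      (R.z_comm_bp (R.z_comm_pv R.zi' R.zj' (fl v)) (nz w)).symm.mul_mul_mul_comm,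
      (R.pv_comm (fl w) (fl v)).symm.eq]
    simp only [mul_assoc]

theorem bp_t_evQ (b : Bool) (p : QE) :
    bp t b * evQ z i j i' j' p = evQ z i j i' j' (tauPow sw b p) * bp t b := by
  cases b
  · simp [bp, tauPow]
  · simp only [bp, tauPow, if_true]
    rw [← R.t_evQ, inv_mul_cancel_right]

theorem tail_mul (a a' : Fin 3) (b b' : Bool) :
    x ^ (a : ℕ) * bp t b * (x ^ (a' : ℕ) * bp t b') =
      bp z (d && b && b') * (x ^ ((if b then a - a' else a + a' : Fin 3) : ℕ) * bp t (b ^^ b')) := by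
  have hinv : x ^ (a : ℕ) * (x ^ (a' : ℕ))⁻¹ = x ^ ((a - a' : Fin 3) : ℕ) := by
    rw [← zpow_natCast, ← zpow_natCast, ← zpow_natCast, ← zpow_neg, ← zpow_add]
    refine zpow_eq_zpow_iff_modEq.2 ?_
    have h3 : ((a : ℕ) : ℤ) + -((a' : ℕ) : ℤ) ≡ (((a - a' : Fin 3) : ℕ) : ℤ) [ZMOD 3] := by
      revert a a'; decide
    exact h3.of_dvd (by exact_mod_cast orderOf_dvd_of_pow_eq_one R.x_three)
  have hadd : x ^ (a : ℕ) * x ^ (a' : ℕ) = x ^ ((a + a' : Fin 3) : ℕ) := by
    rw [← pow_add, Fin.val_add, R.x_pow_mod]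
  cases b
  · simp only [bp, Bool.false_eq_true, if_false, mul_one, Bool.and_false, Bool.false_and,
      Bool.false_xor]
    rw [one_mul, ← mul_assoc, hadd]
  · have htx : t * x ^ (a' : ℕ) = (x ^ (a' : ℕ))⁻¹ * t := by
      rw [← inv_pow, ← R.tx, conj_pow, inv_mul_cancel_right]
    simp only [if_true]
    rw [show bp t true = t from rfl, mul_assoc, ← mul_assoc t, htx, ← mul_assoc, ← mul_assoc,
      hinv]
    cases b'
    · simp [bp]
    · rw [show bp t true = t from rfl, mul_assoc, R.t_sq]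
      simp only [Bool.and_true, Bool.xor_self, show bp t false = 1 from rfl, mul_one]
      exact ((R.z_comm_bp (R.zx.pow_right _) d).symm).eq

/-- The map from the model is multiplicative. -/
theorem ev_mul (g h : M) :
    ev z i j i' j' x t g * ev z i j i' j' x t h = ev z i j i' j' x t (mm sw d g h) := by
  obtain ⟨p, a, b⟩ := g
  obtain ⟨q, a', b'⟩ := h
  simp only [ev, mm]
  calc evQ z i j i' j' p * (x ^ (a : ℕ) * bp t b) *
        (evQ z i j i' j' q * (x ^ (a' : ℕ) * bp t b'))
      = evQ z i j i' j' p * (x ^ (a : ℕ) * (bp t b * evQ z i j i' j' q)) *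
          (x ^ (a' : ℕ) * bp t b') := by simp only [mul_assoc]
    _ = evQ z i j i' j' p * (x ^ (a : ℕ) * evQ z i j i' j' (tauPow sw b q)) *
          (bp t b * (x ^ (a' : ℕ) * bp t b')) := by
        rw [R.bp_t_evQ]; simp only [mul_assoc]
    _ = evQ z i j i' j' (qmul p (sigPow a (tauPow sw b q))) *
          (x ^ (a : ℕ) * bp t b * (x ^ (a' : ℕ) * bp t b')) := by
        rw [R.x_pow_evQ, ← R.evQ_mul]; simp only [mul_assoc]
    _ = _ := by
        rw [R.tail_mul, ← mul_assoc, ← R.evQ_sgn, R.evQ_mul]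

end Rel

end Hom

end Cfsg.Agent.SymThirtyTwo
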