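import Cfsg.Agent.Lib.SymThirtyTwo.NormalFacts

/-
The group is simple or has a normal elementary abelian subgroup of order eight (helper22).

* `Fz` : a model of the centraliser and a conjugate of `s` in one of the three subgroups
* `Fz.E` : that subgroup
* `Fz.exists_sylow` : the Sylow 2-subgroup lies in the centraliser and is self-normalising
* `Fz.normal_cases` : a nontrivial normal subgroup is `E` or the whole group
-/

set_option autoImplicit false

open Subgroup

namespace Cfsg.Agent.SymThirtyTwo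

/-- A model of the centraliser and a conjugate of `s` in the `k`-th subgroup. -/
structure Fz {G : Type*} [Group G] (s : G) (sw : Bool) (k : Fin 3) extends Cd s sw false where
  ok : okE sw k = true
  fused : IsConj s (φ (repE k))

namespace Fz

variable {G : Type*} [Group G] {s : G} {sw : Bool} {k : Fin 3} (F : Fz s sw k)

local notation "φ" => F.toCd.φ

include F

/-- The elementary abelian subgroup of order eight. -/
def E : Subgroup G where
  carrier := {g | ∃ a ∈ eList k, φ a = g}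
  mul_mem' := by
    rintro _ _ ⟨a, ha, rfl⟩ ⟨b, hb, rfl⟩
    exact ⟨_, mem_eList.2 ((e_closed sw (mem_bools _) k (mem_fin k) F.ok a ha).2 b hb).1,
      (F.toCd.mul a b).symm⟩
  one_mem' := ⟨oneM, (eList_spec k (mem_fin k)).2.2.1, F.toCd.map_one⟩
  inv_mem' := by
    rintro _ ⟨a, ha, rfl⟩
    refine ⟨a, ha, eq_inv_of_mul_eq_one_left ?_⟩
    rw [F.toCd.mul, (e_closed sw (mem_bools _) k (mem_fin k) F.ok a ha).1, F.toCd.map_one]

theorem mem_E {a : M} : φ a ∈ F.E ↔ inE k a = true := by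
  rw [← mem_eList]
  exact ⟨fun ⟨b, hb, e⟩ => F.toCd.inj e ▸ hb, fun h => ⟨a, h, rfl⟩⟩

theorem card_E : Nat.card F.E = 8 := by
  classical
  obtain ⟨hnd, hlen, -⟩ := eList_spec k (mem_fin k)
  let f : {a // a ∈ eList k} → F.E := fun a => ⟨φ a, a.1, a.2, rfl⟩
  have hf : Function.Bijective f :=
    ⟨fun a b h => Subtype.ext (F.toCd.inj (congrArg Subtype.val h)),
      fun ⟨g, a, ha, e⟩ => ⟨⟨a, ha⟩, Subtype.ext e⟩⟩
  rw [← Nat.card_eq_of_bijective f hf, Nat.subtype_card (eList k).toFinset (fun _ => List.mem_toFinset),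
    List.toFinset_card_of_nodup hnd, hlen]

theorem comm_E {a b : G} (ha : a ∈ F.E) (hb : b ∈ F.E) : Commute a b := by
  obtain ⟨x, hx, rfl⟩ := ha
  obtain ⟨y, hy, rfl⟩ := hb
  exact F.toCd.commute_iff.2 ((e_closed sw (mem_bools _) k (mem_fin k) F.ok x hx).2 y hy).2

theorem sq_E {a : G} (ha : a ∈ F.E) : a * a = 1 := by
  obtain ⟨x, hx, rfl⟩ := ha
  rw [F.toCd.mul, (e_closed sw (mem_bools _) k (mem_fin k) F.ok x hx).1, F.toCd.map_one]

theorem s_mem : s ∈ F.E := ⟨cs, (eList_spec k (mem_fin k)).2.2.2.1, F.toCd.map_cs⟩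

theorem ne_one : s ≠ 1 := fun h => by
  have := F.toCd.inj (show φ cs = φ oneM by rw [F.toCd.map_cs, F.toCd.map_one, h])
  exact absurd this (by decide)

theorem sq_s : s * s = 1 := F.sq_E F.s_mem

theorem commute_mem {g : G} (hg : g ∈ F.E) : Commute g s := F.comm_E hg F.s_mem

theorem conj_E {l g : G} (hl : Commute l s) (hg : g ∈ F.E) : l * g * l⁻¹ ∈ F.E := by
  obtain ⟨a, ha, rfl⟩ := hg
  obtain ⟨b, rfl⟩ := F.toCd.surj l hl
  rw [F.toCd.conj_mem, F.mem_E]
  exact e_norm sw (mem_bools _) k (mem_fin k) F.ok b (mem_all b) a ha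

theorem cent_E {g : G} (hg : ∀ a ∈ F.E, Commute g a) : g ∈ F.E := by
  obtain ⟨b, rfl⟩ := F.toCd.surj g (hg s F.s_mem)
  exact F.mem_E.2 (e_cent sw (mem_bools _) k (mem_fin k) F.ok b (mem_all b)
    fun a ha => F.toCd.commute_iff.1 (hg _ ⟨a, ha, rfl⟩))

theorem isConj_E {g : G} (hg : g ∈ F.E) (h1 : g ≠ 1) : IsConj s g := by
  obtain ⟨a, ha, rfl⟩ := hg
  by_cases hcs : a = cs
  · rw [hcs, F.toCd.map_cs]
  · obtain ⟨b, -, hb⟩ := e_orbit sw (mem_bools _) k (mem_fin k) F.ok a ha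
      (fun e => h1 (by rw [e, F.toCd.map_one])) hcs
    exact F.fused.trans (F.toCd.isConj_of_eq hb)

theorem not_central : centralizer ({s} : Set G) ≠ ⊤ := fun h => by
  obtain ⟨-, -, -, -, hr, -, hr2⟩ := eList_spec k (mem_fin k)
  obtain ⟨g, hg⟩ := isConj_iff.1 F.fused
  have hgs : g * s = s * g := mem_centralizer_singleton_iff.1 (h ▸ mem_top g)
  exact hr2 (F.toCd.inj (by rw [← hg, hgs, mul_inv_cancel_right, F.toCd.map_cs]))

/-- The Sylow 2-subgroup of the centraliser. -/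
def T : Subgroup G where
  carrier := {g | ∃ a, inT a = true ∧ φ a = g}
  mul_mem' := by
    rintro _ _ ⟨a, ha, rfl⟩ ⟨b, hb, rfl⟩
    exact ⟨_, (t_closed sw (mem_bools _) a (mem_all a) ha).2 b (mem_all b) hb,
      (F.toCd.mul a b).symm⟩
  one_mem' := ⟨oneM, rfl, F.toCd.map_one⟩
  inv_mem' := by
    rintro _ ⟨a, ha, rfl⟩
    exact ⟨_, (t_closed sw (mem_bools _) a (mem_all a) ha).1, F.toCd.map_inv a⟩

theorem card_T : Nat.card F.T = 64 := by
  classical
  let f : {a // a ∈ all.filter inT} → F.T := fun a =>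
    ⟨φ a, a.1, (List.mem_filter.1 a.2).2, rfl⟩
  have hf : Function.Bijective f :=
    ⟨fun a b h => Subtype.ext (F.toCd.inj (congrArg Subtype.val h)),
      fun ⟨g, a, ha, e⟩ => ⟨⟨a, List.mem_filter.2 ⟨mem_all a, ha⟩⟩, Subtype.ext e⟩⟩
  rw [← Nat.card_eq_of_bijective f hf,
    Nat.subtype_card (all.filter inT).toFinset (fun _ => List.mem_toFinset),
    List.toFinset_card_of_nodup (all_nodup.1.filter _), t_count]

theorem s_mem_T : s ∈ F.T := ⟨cs, rfl, F.toCd.map_cs⟩

theorem card_cent : Nat.card (centralizer ({s} : Set G)) = 192 := by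
  classical
  let f : M → centralizer ({s} : Set G) := fun a =>
    ⟨φ a, mem_centralizer_singleton_iff.2 (F.toCd.comm a)⟩
  have hf : Function.Bijective f := by
    refine ⟨fun a b h => F.toCd.inj (congrArg Subtype.val h), fun g => ?_⟩
    obtain ⟨a, ha⟩ := F.toCd.surj g (mem_centralizer_singleton_iff.1 g.2)
    exact ⟨a, Subtype.ext ha⟩
  rw [← Nat.card_eq_of_bijective f hf, Nat.card_eq_fintype_card]
  rfl

variable [Finite G]

theorem exists_sylow : ∃ S : Sylow 2 G, (S : Subgroup G) = F.T ∧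
    normalizer (F.T : Set G) ≤ F.T := by
  haveI := Fact.mk Nat.prime_two
  obtain ⟨S, hS⟩ := (IsPGroup.of_card (p := 2) (n := 6) (F.card_T.trans (by norm_num))).exists_le_sylow
    (G := G)
  haveI : Nontrivial (S : Subgroup G) :=
    nontrivial_iff.2 ⟨⟨s, hS F.s_mem_T⟩, 1, fun e => F.ne_one (congrArg Subtype.val e)⟩
  haveI := S.2.center_nontrivial
  obtain ⟨z, hz⟩ := exists_ne (1 : center (S : Subgroup G))
  have hzc : ∀ g ∈ (S : Subgroup G), Commute g (z : S) := fun g hg =>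
    congrArg Subtype.val (mem_center_iff.1 z.2 ⟨g, hg⟩)
  obtain ⟨a, ha⟩ := F.toCd.surj _ (hzc s (hS F.s_mem_T)).symm
  have hzs : ((z : S) : G) = s := by
    rcases t_centre sw (mem_bools _) a (mem_all a) (fun b _ hb =>
      F.toCd.commute_iff.1 (ha ▸ (hzc _ (hS ⟨b, hb, rfl⟩)).symm)) with e | e
    · refine absurd (Subtype.ext (Subtype.ext ?_)) hz
      rw [← ha, e, F.toCd.map_one]
      rfl
    · rw [← ha, e, F.toCd.map_cs]
  have hSC : (S : Subgroup G) ≤ centralizer ({s} : Set G) := fun g hg =>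
    mem_centralizer_singleton_iff.2 (hzs ▸ hzc g hg)
  have hST : (S : Subgroup G) = F.T := by
    refine (eq_of_le_of_card_ge hS ?_).symm
    obtain ⟨n, hn⟩ := IsPGroup.iff_card.1 S.2
    have h := card_dvd_of_le hSC
    rw [F.card_cent, hn, show (192 : ℕ) = 2 ^ 6 * 3 by norm_num] at h
    rw [F.card_T, hn]
    exact Nat.le_of_dvd (by norm_num)
      ((Nat.Coprime.pow_left n (by norm_num : Nat.Coprime 2 3)).dvd_of_dvd_mul_right h)
  refine ⟨S, hST, fun g hg => ?_⟩
  have hgs : g * s * g⁻¹ ∈ F.T := (mem_normalizer_iff.1 hg s).1 F.s_mem_T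
  obtain ⟨b, -, hb'⟩ := hgs
  have hb : φ b = g * s * g⁻¹ := hb'
  have hgc : Commute g s := by
    rcases t_centre sw (mem_bools _) b (mem_all b) (fun m _ hm => F.toCd.commute_iff.1 (by
      rw [hb]
      have hm' : g⁻¹ * φ m * g ∈ F.T := by
        refine (mem_normalizer_iff.1 hg _).2 ?_
        rw [show g * (g⁻¹ * φ m * g) * g⁻¹ = φ m by group]
        exact ⟨m, hm, rfl⟩
      obtain ⟨m', -, hm''⟩ := hm'
      have h2 : Commute (g * s * g⁻¹) (g * φ m' * g⁻¹) :=
        (SemiconjBy.conj_iff).2 (F.toCd.comm m').symm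
      rwa [show g * φ m' * g⁻¹ = φ m by rw [hm'']; group] at h2)) with e | e
    · rw [e, F.toCd.map_one] at hb
      exact absurd (conj_eq_one_iff.1 hb.symm) F.ne_one
    · rw [e, F.toCd.map_cs] at hb
      exact mul_inv_eq_iff_eq_mul.1 hb.symm
  obtain ⟨l, rfl⟩ := F.toCd.surj g hgc
  refine ⟨l, t_self sw (mem_bools _) l (mem_all l) fun a _ ha => ?_, rfl⟩
  have := (mem_normalizer_iff.1 hg (φ a)).1 ⟨a, ha, rfl⟩
  rw [F.toCd.conj_mem] at this
  obtain ⟨a', ha', e⟩ := this
  exact (show a' = cjg sw l a from F.toCd.inj e) ▸ ha'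

theorem invol_conj {t : G} (ht : t * t = 1) : ∃ a, IsConj (φ a) t := by
  haveI := Fact.mk Nat.prime_two
  obtain ⟨S, hS, -⟩ := F.exists_sylow
  have hp : IsPGroup 2 (zpowers t) := by
    intro u
    obtain ⟨n, hn⟩ := mem_zpowers_iff.1 u.2
    refine ⟨1, Subtype.ext ?_⟩
    rw [Subgroup.coe_pow, ← hn, pow_one, ← zpow_natCast, ← zpow_mul, mul_comm, zpow_mul,
      zpow_natCast, pow_two, ht, one_zpow]
    rfl
  obtain ⟨P, hP⟩ := hp.exists_le_sylow
  obtain ⟨g, hg⟩ := MulAction.exists_smul_eq G S P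
  have htP := hP (mem_zpowers t)
  rw [← hg, Sylow.coe_subgroup_smul, hS] at htP
  obtain ⟨u, ⟨a, -, rfl⟩, hu⟩ := htP
  exact ⟨a, isConj_iff.2 ⟨g, hu⟩⟩

/-- A normal subgroup of odd order is trivial. -/
theorem odd_normal {N : Subgroup G} [hN : N.Normal] (hodd : Odd (Nat.card N)) : N = ⊥ := by
  have hsq : ∀ {g : G}, g ∈ N → g * g = 1 → g = 1 := fun {g} hg h => by
    have h2 : orderOf g ∣ 2 := orderOf_dvd_of_pow_eq_one (by rw [pow_two, h])
    have h3 : orderOf g ∣ Nat.card N := Subgroup.orderOf_dvd_natCard _ hg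
    rcases (Nat.dvd_prime Nat.prime_two).1 h2 with h4 | h4
    · exact orderOf_eq_one_iff.1 h4
    · rw [h4] at h3
      exact absurd h3 hodd.not_two_dvd_nat
  have hcs : ∀ g ∈ N, Commute g s → g = 1 := by
    intro g hg hgs
    obtain ⟨a, rfl⟩ := F.toCd.surj g hgs
    rcases no_odd_centre sw (mem_bools _) a (mem_all a) (fun b hb => F.toCd.commute_iff.1 (by
      have hb2 : ∀ sw ∈ bools, ∀ b ∈ qList,
          mm sw false b b = oneM ∨ mm sw false b b = cs := by decide +kernel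
      -- the commutator lies in the normal subgroup and in `Q`
      have h1 : φ (com sw false a b) ∈ N := by
        rw [F.toCd.map_com, mul_assoc, mul_assoc]
        exact mul_mem hg (by
          rw [← mul_assoc]
          exact hN.conj_mem _ (inv_mem hg) _)
      have hq : com sw false a b ∈ qList := by
        have key : ∀ sw ∈ bools, ∀ a ∈ all, ∀ b ∈ qList, inQ (com sw false a b) = true := by
          decide +kernel
        exact mem_qList.2 (key sw (mem_bools _) a (mem_all a) b hb)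
      have h2 : φ (com sw false a b) = 1 := by
        rcases hb2 sw (mem_bools _) _ hq with e | e
        · exact hsq h1 (by rw [F.toCd.mul, e, F.toCd.map_one])
        · exfalso
          refine F.ne_one (hsq (g := s) ?_ F.sq_s)
          rw [← F.toCd.map_cs, ← e, ← F.toCd.mul]
          exact mul_mem h1 h1
      rw [F.toCd.map_com] at h2
      have h3 : φ a * φ b = φ b * φ a := by
        calc φ a * φ b = φ a * φ b * (φ a)⁻¹ * (φ b)⁻¹ * (φ b * φ a) := by group
          _ = _ := by rw [h2, one_mul]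
      exact h3)) with e | e
    · rw [e, F.toCd.map_one]
    · rw [e, F.toCd.map_cs] at hg ⊢
      exact hsq hg F.sq_s
  have hinv : ∀ v, IsConj s v → ∀ g ∈ N, v * g * v⁻¹ = g⁻¹ := by
    intro v hv g hg
    obtain ⟨w, rfl⟩ := isConj_iff.1 hv
    set v := w * s * w⁻¹ with hvdef
    have hcv : ∀ n ∈ N, Commute n v → n = 1 := fun n hn hc => by
      have h := hcs (w⁻¹ * n * w⁻¹⁻¹) (hN.conj_mem n hn _) (by
        show w⁻¹ * n * w⁻¹⁻¹ * s = s * (w⁻¹ * n * w⁻¹⁻¹)
        calc w⁻¹ * n * w⁻¹⁻¹ * s = w⁻¹ * (n * v) * w := by rw [hvdef]; group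
          _ = w⁻¹ * (v * n) * w := by rw [hc.eq]
          _ = _ := by rw [hvdef]; group)
      exact conj_eq_one_iff.1 h
    let f : N → N := fun n => ⟨(n : G)⁻¹ * (v * n * v⁻¹), mul_mem (inv_mem n.2) (hN.conj_mem _ n.2 _)⟩
    have hf : Function.Injective f := fun n m h => by
      have h' : (n : G)⁻¹ * (v * n * v⁻¹) = (m : G)⁻¹ * (v * m * v⁻¹) := congrArg Subtype.val h
      have h1 : Commute ((m : G) * (n : G)⁻¹) v := by
        show (m : G) * (n : G)⁻¹ * v = v * ((m : G) * (n : G)⁻¹)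
        calc (m : G) * (n : G)⁻¹ * v = (m : G) * ((n : G)⁻¹ * (v * n * v⁻¹)) * (v * (n : G)⁻¹) := by
              group
          _ = (m : G) * ((m : G)⁻¹ * (v * m * v⁻¹)) * (v * (n : G)⁻¹) := by rw [h']
          _ = _ := by group
      exact Subtype.ext (mul_inv_eq_one.1 (hcv _ (mul_mem m.2 (inv_mem n.2)) h1)).symm
    obtain ⟨n, hn⟩ := (Finite.injective_iff_bijective.1 hf).2 ⟨g, hg⟩
    have hn' : (n : G)⁻¹ * (v * n * v⁻¹) = g := congrArg Subtype.val hn
    have hv2 : v * v = 1 := by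
      rw [hvdef, show w * s * w⁻¹ * (w * s * w⁻¹) = w * (s * s) * w⁻¹ by group, F.sq_s]
      group
    have hvi : v⁻¹ = v := inv_eq_of_mul_eq_one_left hv2
    rw [← hn', hvi]
    calc v * ((n : G)⁻¹ * (v * n * v)) * v = v * (n : G)⁻¹ * v * n * (v * v) := by group
      _ = v * (n : G)⁻¹ * v⁻¹ * n := by rw [hv2, mul_one, hvi]
      _ = ((n : G)⁻¹ * (v * n * v⁻¹))⁻¹ := by group
      _ = _ := by rw [hvi]
  obtain ⟨-, -, -, -, hr, hr1, hr2⟩ := eList_spec k (mem_fin k)
  have hr' : φ (repE k) ∈ F.E := ⟨_, hr, rfl⟩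
  rw [eq_bot_iff]
  intro g hg
  rw [mem_bot]
  refine hsq hg ?_
  have h1 := hinv s (IsConj.refl s) g hg
  have h2 := hinv _ F.fused g⁻¹ (inv_mem hg)
  have h3 := hinv (φ (repE k) * s) (F.isConj_E (mul_mem hr' F.s_mem) fun e => hr2 (F.toCd.inj (by
    rw [F.toCd.map_cs, eq_inv_of_mul_eq_one_left e, inv_eq_of_mul_eq_one_left F.sq_s]))) g hg
  rw [show φ (repE k) * s * g * (φ (repE k) * s)⁻¹ = φ (repE k) * (s * g * s⁻¹) * (φ (repE k))⁻¹
    by group, h1, h2, inv_inv] at h3
  nth_rw 1 [h3]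
  exact inv_mul_cancel g

/-- A nontrivial normal subgroup contains `s`. -/
theorem mem_normal {N : Subgroup G} [hN : N.Normal] (h : N ≠ ⊥) : s ∈ N := by
  haveI := Fact.mk Nat.prime_two
  have heven : 2 ∣ Nat.card N := by
    by_contra h2
    exact h (F.odd_normal (Nat.not_even_iff_odd.1 fun he => h2 he.two_dvd))
  obtain ⟨t, ht⟩ := exists_prime_orderOf_dvd_card' 2 heven
  have ht1 : t ≠ 1 := fun e => by rw [e, orderOf_one] at ht; omega
  have htt : (t : G) * t = 1 := by
    rw [← Subgroup.coe_mul, ← pow_two, ← ht, pow_orderOf_eq_one]; rfl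
  obtain ⟨a, ha⟩ := F.invol_conj htt
  obtain ⟨g, hg⟩ := isConj_iff.1 ha.symm
  have haN : φ a ∈ N := hg ▸ hN.conj_mem _ t.2 g
  have hai : isInv sw false a = true := by
    simp only [isInv, Bool.and_eq_true, beq_iff_eq, bne_iff_ne]
    refine ⟨F.toCd.inj ?_, fun e => ?_⟩
    · rw [← F.toCd.mul, ← hg, F.toCd.map_one,
        show g * (t : G) * g⁻¹ * (g * t * g⁻¹) = g * ((t : G) * t) * g⁻¹ by group, htt]
      group
    · rw [e, F.toCd.map_one] at hg
      exact ht1 (Subtype.ext (conj_eq_one_iff.1 hg))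
  have hcom : ∀ {x} (y : M), φ x ∈ N → φ (com sw false x y) ∈ N := fun {x} y hx => by
    rw [F.toCd.map_com, mul_assoc, mul_assoc, ← mul_assoc (φ y)]
    exact mul_mem hx (hN.conj_mem _ (inv_mem hx) _)
  rw [← F.toCd.map_cs]
  by_cases hacs : a = cs
  · rwa [← hacs]
  rcases cs_step sw (mem_bools _) a (mem_all a) hai hacs with ⟨y, -, e⟩ | ⟨y, -, z, -, e⟩
  · exact e ▸ hcom y haN
  · exact e ▸ hcom z (hcom y haN)

theorem isConj_mem_normal {N : Subgroup G} [hN : N.Normal] {a b : G} (h : IsConj a b) (ha : a ∈ N) :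
    b ∈ N := by
  obtain ⟨g, rfl⟩ := isConj_iff.1 h
  exact hN.conj_mem a ha g

theorem E_le_normal {N : Subgroup G} [N.Normal] (hs : s ∈ N) : F.E ≤ N := fun g hg => by
  by_cases h1 : g = 1
  · rw [h1]; exact one_mem N
  · exact F.isConj_mem_normal (F.isConj_E hg h1) hs

/-- A normal subgroup meeting the centraliser in more than `E` is the whole group. -/
theorem normal_top {N : Subgroup G} [hN : N.Normal] (hs : s ∈ N) {w : M} (hw : φ w ∈ N)
    (hwE : inE k w = false) : N = ⊤ := by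
  have hEN := F.E_le_normal hs
  have hconj : ∀ {x} (y : M), φ x ∈ N → φ (cjg sw y x) ∈ N := fun {x} y hx => by
    rw [cjg, ← F.toCd.conj_mem]
    exact hN.conj_mem _ hx _
  have hcom : ∀ {x} (y : M), φ x ∈ N → φ (com sw false x y) ∈ N := fun {x} y hx => by
    rw [F.toCd.map_com, mul_assoc, mul_assoc, ← mul_assoc (φ y)]
    exact mul_mem hx (hN.conj_mem _ (inv_mem hx) _)
  obtain ⟨w', hw', hw'Q, hw'E⟩ :
      ∃ w', φ w' ∈ N ∧ inQ w' = true ∧ inE k w' = false := by
    rcases q_step sw (mem_bools _) k (mem_fin k) F.ok w (mem_all w) hwE with e | ⟨g, -, e1, e2⟩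
    · exact ⟨w, hw, e, hwE⟩
    · exact ⟨_, hcom g hw, e1, e2⟩
  have hQ : ∀ q, inQ q = true → φ q ∈ N := fun q hq => by
    rcases q_cover sw (mem_bools _) k (mem_fin k) F.ok w' (mem_qList.2 hw'Q) hw'E q (mem_qList.2 hq)
      with e | ⟨g, -, e⟩
    · exact hEN (F.mem_E.2 e)
    · have h := hEN (F.mem_E.2 e)
      rw [← F.toCd.mul, F.toCd.map_inv] at h
      simpa using mul_mem h (hconj g hw')
  -- an element outside `Q`
  obtain ⟨u, hu, huQ, hui⟩ : ∃ u, φ u ∈ N ∧ inQ u = false ∧ isInv sw false u = true := by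
    obtain ⟨-, -, -, -, hr, -, hr2⟩ := eList_spec k (mem_fin k)
    have hrQ : inQ (repE k) = true := (Bool.and_eq_true_iff.1 (mem_eList.1 hr)).1
    obtain ⟨-, g, hg, b, hb, hbQ, hb1, hbI, -⟩ := F.toCd.fused_mem hrQ hr2 F.fused
    obtain ⟨u, v, huq, hvq, -, -, -, -, u', v', hu', hv', -, -, hui, hvi, huv⟩ :=
      F.toCd.images hg hb hbQ hbI hb1
    by_cases h1 : inQ u' = true
    · by_cases h2 : inQ v' = true
      · exfalso
        have key : ∀ sw ∈ bools, ∀ k ∈ ([0, 1, 2] : List (Fin 3)), ∀ u ∈ qList, ∀ v ∈ qList,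
            mm sw false u v ≠ mm sw false (mm sw false v u) (repE k) := by decide +kernel
        exact key sw (mem_bools _) k (mem_fin k) u' (mem_qList.2 h1) v' (mem_qList.2 h2) huv
      · exact ⟨v', hv' ▸ hN.conj_mem _ (hQ v hvq) g, by simpa using h2, hvi⟩
    · exact ⟨u', hu' ▸ hN.conj_mem _ (hQ u huq) g, by simpa using h1, hui⟩
  have hL : ∀ m, φ m ∈ N := fun m => by
    set m0 : M := (sgn false, m.2.1, m.2.2) with hm0
    have hm0mem : m0 ∈ tReps := by
      simp only [tReps, List.mem_flatMap, List.mem_map]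
      exact ⟨m.2.1, mem_fin _, m.2.2, mem_bools _, rfl⟩
    obtain ⟨g, -, e⟩ := top_step sw (mem_bools _) u (mem_all u) hui huQ m0 hm0mem
    have e' : inQ (mm sw false m (com sw false u g)) = true ∨
        inQ (mm sw false (mm sw false m u) (com sw false u g)) = true := e
    rcases e' with e | e
    · have h := hQ _ e
      rw [← F.toCd.mul] at h
      simpa using mul_mem h (inv_mem (hcom g hu))
    · have h := hQ _ e
      rw [← F.toCd.mul, ← F.toCd.mul] at h
      simpa [mul_assoc] using mul_mem h (inv_mem (mul_mem hu (hcom g hu)))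
  haveI := Fact.mk Nat.prime_two
  obtain ⟨S, hS, hnorm⟩ := F.exists_sylow
  have hTN : F.T ≤ N := by
    rintro _ ⟨a, -, rfl⟩
    exact hL a
  have h := Sylow.normalizer_sup_eq_top (S.subtype (hS ▸ hTN))
  rw [S.coe_subtype, map_subgroupOf_eq_of_le (hS ▸ hTN), hS] at h
  exact eq_top_iff.2 (h ▸ sup_le (hnorm.trans hTN) le_rfl)

end Fz

end Cfsg.Agent.SymThirtyTwo
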