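import Cfsg.Agent.Lib.SymThirtyTwo.Fuse

/-
Facts about the models with `t * t = 1`, checked by computation (helper22).
-/

set_option autoImplicit false
set_option synthInstance.maxSize 4096

namespace Cfsg.Agent.SymThirtyTwo

def xE : M := (sgn false, 1, false)

def xPows : List M := [oneM, xE, (sgn false, 2, false)]

/-- Conjugation in a model. -/
def cjg (sw : Bool) (g a : M) : M := mm sw false (mm sw false g a) (minv sw false g)

/-- The Sylow 2-subgroup. -/
def inT (a : M) : Bool := a.2.1 == 0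

def tReps : List M :=
  ([0, 1, 2] : List (Fin 3)).flatMap fun a => bools.map fun b => (sgn false, a, b)

theorem eList_spec : ∀ k ∈ ([0, 1, 2] : List (Fin 3)), (eList k).Nodup ∧ (eList k).length = 8 ∧
    oneM ∈ eList k ∧ cs ∈ eList k ∧ repE k ∈ eList k ∧ repE k ≠ oneM ∧ repE k ≠ cs := by
  decide +kernel

theorem e_closed : ∀ sw ∈ bools, ∀ k ∈ ([0, 1, 2] : List (Fin 3)), okE sw k → ∀ a ∈ eList k,
    mm sw false a a = oneM ∧ ∀ b ∈ eList k, inE k (mm sw false a b) = true ∧
      mm sw false a b = mm sw false b a := by decide +kernel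

theorem e_norm : ∀ sw ∈ bools, ∀ k ∈ ([0, 1, 2] : List (Fin 3)), okE sw k → ∀ g ∈ all,
    ∀ a ∈ eList k, inE k (cjg sw g a) = true := by decide +kernel

theorem e_orbit : ∀ sw ∈ bools, ∀ k ∈ ([0, 1, 2] : List (Fin 3)), okE sw k → ∀ a ∈ eList k,
    a ≠ oneM → a ≠ cs → ∃ g ∈ all, mm sw false g (repE k) = mm sw false a g := by decide +kernel

theorem e_cent : ∀ sw ∈ bools, ∀ k ∈ ([0, 1, 2] : List (Fin 3)), okE sw k → ∀ g ∈ all,
    (∀ a ∈ eList k, mm sw false g a = mm sw false a g) → inE k g = true := by decide +kernel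

theorem e_fix : ∀ sw ∈ bools, ∀ k ∈ ([0, 1, 2] : List (Fin 3)), okE sw k → ∀ a ∈ eList k,
    mm sw false xE a = mm sw false a xE → a = oneM ∨ a = cs := by decide +kernel

theorem q_step : ∀ sw ∈ bools, ∀ k ∈ ([0, 1, 2] : List (Fin 3)), okE sw k → ∀ w ∈ all,
    inE k w = false → inQ w = true ∨
      ∃ g ∈ all, inQ (com sw false w g) = true ∧ inE k (com sw false w g) = false := by
  decide +kernel

theorem q_cover : ∀ sw ∈ bools, ∀ k ∈ ([0, 1, 2] : List (Fin 3)), okE sw k → ∀ w ∈ qList,
    inE k w = false → ∀ q ∈ qList, inE k q = true ∨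
      ∃ g ∈ xPows, inE k (mm sw false q (minv sw false (cjg sw g w))) = true := by
  decide +kernel

theorem cs_step : ∀ sw ∈ bools, ∀ w ∈ all, isInv sw false w → w ≠ cs →
    (∃ g ∈ qList, com sw false w g = cs) ∨
      ∃ g ∈ qList, ∃ h ∈ qList, com sw false (com sw false w g) h = cs := by decide +kernel

theorem top_step : ∀ sw ∈ bools, ∀ u ∈ all, isInv sw false u → inQ u = false → ∀ m ∈ tReps,
    ∃ g ∈ all, inQ (mm sw false m (com sw false u g)) = true ∨
      inQ (mm sw false (mm sw false m u) (com sw false u g)) = true := by decide +kernel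

theorem q_closed : ∀ sw ∈ bools, ∀ a ∈ qList, ∀ b ∈ qList, inQ (mm sw false a b) = true := by
  decide +kernel

theorem t_closed : ∀ sw ∈ bools, ∀ a ∈ all, inT a → inT (minv sw false a) = true ∧
    ∀ b ∈ all, inT b → inT (mm sw false a b) = true := by decide +kernel

theorem t_centre : ∀ sw ∈ bools, ∀ a ∈ all,
    (∀ b ∈ all, inT b → mm sw false a b = mm sw false b a) → a = oneM ∨ a = cs := by
  decide +kernel

theorem t_count : (all.filter inT).length = 64 := by decide +kernel

theorem t_self : ∀ sw ∈ bools, ∀ g ∈ all,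
    (∀ a ∈ all, inT a → inT (cjg sw g a) = true) → inT g = true := by decide +kernel

theorem no_odd_centre : ∀ sw ∈ bools, ∀ a ∈ all,
    (∀ b ∈ qList, mm sw false a b = mm sw false b a) → a = oneM ∨ a = cs := by decide +kernel

theorem mem_xPows {g : M} (h : g ∈ xPows) : g ∈ all := mem_all g

theorem mem_eList {k : Fin 3} {a : M} : a ∈ eList k ↔ inE k a = true := by
  simp only [eList, List.mem_filter, mem_qList]
  exact ⟨And.right, fun h => ⟨(Bool.and_eq_true_iff.1 h).1, h⟩⟩

end Cfsg.Agent.SymThirtyTwo
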