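import Cfsg.Agent.Lib.SymThirtyTwo.Exclude

/-
A normal form for the fused classes in the case with exchanged factors (helper22).

* `Nm` : the classes `0`, `1` inside and the first outside are fused, the others not
* `Fz.exists_nm` : it can always be reached
-/

set_option autoImplicit false
set_option synthInstance.maxSize 4096
set_option maxRecDepth 100000

namespace Cfsg.Agent.SymThirtyTwo

/-- The normal flags. -/
def fNorm : Fin 5 → Bool := flagsOf true true false true false

/-- The six possible flags. -/
def fOld (v : Fin 6) : Fin 5 → Bool :=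
  ![flagsOf false true true true false, flagsOf false true true false true,
    flagsOf true false true true false, flagsOf true false true false true,
    flagsOf true true false true false, flagsOf true true false false true] v

/-- The images of `i, i', x, t` under six automorphisms of the model. -/
def autImg (v : Fin 6) : Fin 4 → M :=
  ![
  ![((false, (false, true), (false, false)), 0, false), ((false, (false, false), (true, true)), 0, false), ((false, (false, false), (false, false)), 1, false), ((false, (false, false), (false, false)), 0, true)],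
  ![((false, (false, true), (false, false)), 0, false), ((false, (false, false), (true, true)), 0, false), ((false, (false, false), (false, false)), 1, false), ((true, (false, false), (false, false)), 0, true)],
  ![((false, (false, false), (false, true)), 0, false), ((false, (false, true), (false, false)), 0, false), ((false, (false, false), (false, false)), 1, false), ((false, (false, false), (false, false)), 2, true)],
  ![((false, (false, false), (false, true)), 0, false), ((false, (false, true), (false, false)), 0, false), ((false, (false, false), (false, false)), 1, false), ((true, (false, false), (false, false)), 2, true)],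
  ![((false, (false, true), (false, false)), 0, false), ((false, (false, false), (false, true)), 0, false), ((false, (false, false), (false, false)), 1, false), ((false, (false, false), (false, false)), 2, true)],
  ![((false, (false, true), (false, false)), 0, false), ((false, (false, false), (false, true)), 0, false), ((false, (false, false), (false, false)), 1, false), ((true, (false, false), (false, false)), 2, true)]] v

/-- The image of `j`. -/
def autJ (v : Fin 6) (q : Fin 4) : M :=
  mm true false (mm true false (autImg v 2) (autImg v q)) (minv true false (autImg v 2))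

def bpM (g : M) (b : Bool) : M := if b then g else oneM

/-- An automorphism of the model. -/
def aut (v : Fin 6) (m : M) : M :=
  mm true false
    (mm true false (bpM cs m.1.1)
      (mm true false (mm true false (bpM (autImg v 0) m.1.2.1.1) (bpM (autJ v 0) m.1.2.1.2))
        (mm true false (bpM (autImg v 1) m.1.2.2.1) (bpM (autJ v 1) m.1.2.2.2))))
    (mm true false
      (if m.2.1 = 0 then oneM else if m.2.1 = 1 then autImg v 2 else mm true false (autImg v 2) (autImg v 2))
      (bpM (autImg v 3) m.2.2))

theorem aut_rel : ∀ v ∈ fins6,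
    let z := cs
    let i := autImg v 0
    let i' := autImg v 1
    let x := autImg v 2
    let t := autImg v 3
    let j := autJ v 0
    let j' := autJ v 1
    let w := fun a b => mm true false a b
    let cj := fun g a => w (w g a) (minv true false g)
    w z z = oneM ∧ w i i = z ∧ w j j = z ∧ w i' i' = z ∧ w j' j' = z ∧ w j i = w (w i j) z ∧
      w j' i' = w (w i' j') z ∧ w i i' = w i' i ∧ w i j' = w j' i ∧ w j i' = w i' j ∧
      w j j' = w j' j ∧ w (w x x) x = oneM ∧ cj x i = j ∧ cj x j = w i j ∧ cj x i' = j' ∧
      cj x j' = w i' j' ∧ w t t = oneM ∧ cj t x = minv true false x ∧ cj t i = w z i' ∧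
      cj t i' = w z i := by decide +kernel

theorem aut_nodup : ∀ v ∈ fins6, (all.map (aut v)).Nodup := by decide +kernel

theorem aut_flags : ∀ v ∈ fins6, ∀ a ∈ all, flagSet fNorm a = flagSet (fOld v) (aut v a) := by
  decide +kernel

theorem fNorm_rep : flagSet fNorm (repE 0) = true ∧ ∀ v ∈ fins6, aut v cs = cs := by decide +kernel

theorem fOld_cases : ∀ b0 ∈ bools, ∀ b1 ∈ bools, ∀ b2 ∈ bools, ∀ b3 ∈ bools, ∀ b4 ∈ bools,
    shape (flagsOf b0 b1 b2 b3 b4) = (2, 1) →
    ∃ v ∈ fins6, ∀ q ∈ ([0, 1, 2, 3, 4] : List (Fin 5)),
      fOld v q = flagsOf b0 b1 b2 b3 b4 q := by decide +kernel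

/-- The fused classes are the normal ones. -/
structure Nm {G : Type*} [Group G] (s : G) extends Fz s true 0 where
  flags : ∀ a, flagSet fNorm a = true ↔ IsConj s (φ a)

namespace Fz

variable {G : Type*} [Group G] {s : G} {k : Fin 3} (F : Fz s true k)

local notation "φ" => F.toCd.φ

include F

/-- Relabelling by an automorphism of the model. -/
theorem exists_nm_of (v : Fin 6) (hf : ∀ a, flagSet (fOld v) a = true ↔ IsConj s (φ a)) :
    Nonempty (Nm s) := by
  have hv : v ∈ fins6 := by clear hf; revert v; decide
  have R := aut_rel v hv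
  simp only at R
  obtain ⟨r0, r1, r2, r3, r4, r5, r6, r7, r8, r9, r10, r11, r12, r13, r14, r15, r16, r17, r18,
    r19⟩ := R
  have hm : ∀ {a b c : M}, mm true false a b = c → φ a * φ b = φ c := fun h => by
    rw [F.toCd.mul, h]
  have hc : ∀ {a b c : M}, mm true false (mm true false a b) (minv true false a) = c →
      φ a * φ b * (φ a)⁻¹ = φ c := fun h => by
    rw [← F.toCd.map_inv, F.toCd.mul, F.toCd.mul, h]
  have hcm : ∀ {a b : M}, mm true false a b = mm true false b a → Commute (φ a) (φ b) :=
    fun h => F.toCd.commute_iff.2 h
  have hz := F.toCd.map_cs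
  have hR : Rel true false s (φ (autImg v 0)) (φ (autJ v 0)) (φ (autImg v 1)) (φ (autJ v 1))
      (φ (autImg v 2)) (φ (autImg v 3)) :=
    { z_sq := by rw [← hz, hm r0, F.toCd.map_one]
      i_sq := by rw [hm r1, hz]
      j_sq := by rw [hm r2, hz]
      i'_sq := by rw [hm r3, hz]
      j'_sq := by rw [hm r4, hz]
      ji := by rw [hm r5, ← F.toCd.mul, ← F.toCd.mul, hz]
      j'i' := by rw [hm r6, ← F.toCd.mul, ← F.toCd.mul, hz]
      ii' := hcm r7
      ij' := hcm r8
      ji' := hcm r9
      jj' := hcm r10
      x_three := by rw [pow_succ, pow_two, F.toCd.mul, hm r11, F.toCd.map_one]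
      xi := hc r12
      xj := by rw [hc r13, F.toCd.mul]
      xi' := hc r14
      xj' := by rw [hc r15, F.toCd.mul]
      t_sq := by rw [hm r16, F.toCd.map_one]; rfl
      tx := by rw [hc r17, F.toCd.map_inv]
      ti := by rw [hc r18, ← F.toCd.mul, hz]; rfl
      ti' := by rw [hc r19, ← F.toCd.mul, hz]; rfl }
  set φ' := ev s (φ (autImg v 0)) (φ (autJ v 0)) (φ (autImg v 1)) (φ (autJ v 1)) (φ (autImg v 2))
    (φ (autImg v 3)) with hφ'
  have hbp : ∀ g c, bp (φ g) c = φ (bpM g c) := fun g c => by
    cases c <;> simp [bp, bpM, F.toCd.map_one]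
  have hev : ∀ m, φ' m = φ (aut v m) := by
    intro m
    simp only [hφ', ev, evQ, pv, aut]
    have hbs : bp s m.1.1 = φ (bpM cs m.1.1) := by
      cases m.1.1 <;> simp [bp, bpM, F.toCd.map_one, hz]
    rw [hbs, hbp, hbp, hbp, hbp, hbp]
    have hp : φ (autImg v 2) ^ (m.2.1 : ℕ) = φ (if m.2.1 = 0 then oneM else if m.2.1 = 1 then
        autImg v 2 else mm true false (autImg v 2) (autImg v 2)) := by
      obtain h | h | h : m.2.1 = 0 ∨ m.2.1 = 1 ∨ m.2.1 = 2 := by
        have h3 : ∀ a : Fin 3, a = 0 ∨ a = 1 ∨ a = 2 := by decide
        exact h3 _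
      · simp [h, F.toCd.map_one]
      · simp [h]
      · simp [h, pow_two, F.toCd.mul]
    rw [hp]
    simp only [F.toCd.mul]
  have hinj : Function.Injective (aut v) := fun a b h =>
    List.inj_on_of_nodup_map (aut_nodup v hv) (mem_all a) (mem_all b) h
  have hsurj : Function.Surjective (aut v) := Finite.injective_iff_surjective.1 hinj
  have hflag : ∀ a, flagSet fNorm a = true ↔ IsConj s (φ' a) := fun a => by
    rw [hev, aut_flags v hv a (mem_all a)]; exact hf _
  have hcomm : ∀ a, Commute (φ' a) s := fun a => by rw [hev]; exact F.toCd.comm _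
  have hsu : ∀ g, Commute g s → ∃ a, φ' a = g := fun g hg => by
    obtain ⟨a, rfl⟩ := F.toCd.surj g hg
    obtain ⟨b, rfl⟩ := hsurj a
    exact ⟨b, hev b⟩
  have hin : Function.Injective φ' := fun a b h => hinj (F.toCd.inj (by rw [← hev, ← hev, h]))
  have hcs : φ' cs = s := by rw [hev, fNorm_rep.2 v hv, hz]
  exact ⟨⟨⟨⟨φ', hcomm, hsu, hin, hR.ev_mul, hcs⟩, rfl, (hflag _).1 fNorm_rep.1⟩, hflag⟩⟩

theorem exists_nm [Finite G] [IsSimpleGroup G] : Nonempty (Nm s) := by
  obtain ⟨f, hf, hshape⟩ := F.shape_eq
  have h := fOld_cases (f 0) (mem_bools _) (f 1) (mem_bools _) (f 2) (mem_bools _) (f 3)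
    (mem_bools _) (f 4) (mem_bools _)
  rw [flagsOf_eta] at h
  obtain ⟨v, -, hv⟩ := h hshape
  refine F.exists_nm_of v fun a => ?_
  rw [show fOld v = f from funext fun q => hv q (by revert q; decide)]
  exact hf a

end Fz

end Cfsg.Agent.SymThirtyTwo
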