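import Cfsg.Agent.Lib.SymThirtyTwo.Embed

/-
Evaluations of the two lists of permutations of nine points (helper22).
-/

set_option autoImplicit false
set_option synthInstance.maxSize 4096
set_option maxRecDepth 100000

namespace Cfsg.Agent.SymThirtyTwo

/-- A code of an image list. -/
def code9 (l : List (Fin 9)) : ℕ := l.foldl (fun r a => 9 * r + a.val) 0

theorem cent8_nodup : (cent8List.map code9).Nodup := by decide +kernel

theorem cent9_nodup : (cent9List.map code9).Nodup := by decide +kernel

theorem cent8_count : cent8List.length = 96 := by decide +kernel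

theorem cent9_count : cent9List.length = 480 := by decide +kernel

theorem dImgs_eq : dList.map tabImg = dImgs := by decide +kernel

theorem cent8_eq : (vpList.flatMap fun b => ([0, 1, 2] : List ℕ).flatMap fun i => dList.map fun a =>
    wimg (wordM b ++ List.replicate i 8 ++ wordM a)) = cent8List := by decide +kernel

theorem cent9_eq : (evens9.flatMap fun e => dImgs.map (comp9 e)) = cent9List := by decide +kernel

theorem cent8_shape : cent8List.Nodup ∧ cent8List.length = 96 ∧ ∀ l ∈ cent8List,
    ∃ b ∈ vpList, ∃ i ∈ ([0, 1, 2] : List ℕ), ∃ a ∈ dList,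
      wimg (wordM b ++ List.replicate i 8 ++ wordM a) = l := by
  refine ⟨cent8_nodup.of_map _, cent8_count, fun l hl => ?_⟩
  rw [← cent8_eq] at hl
  simpa only [List.mem_flatMap, List.mem_map] using hl

theorem cent9_shape : cent9List.Nodup ∧ cent9List.length = 480 ∧
    ∀ l ∈ cent9List, ∃ e ∈ evens9, ∃ a ∈ dList, comp9 e (tabImg a) = l := by
  refine ⟨cent9_nodup.of_map _, cent9_count, fun l hl => ?_⟩
  rw [← cent9_eq, ← dImgs_eq] at hl
  simp only [List.mem_flatMap, List.mem_map] at hl
  obtain ⟨e, he, _, ⟨a, ha, rfl⟩, h⟩ := hl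
  exact ⟨e, he, a, ha, h⟩

def evens5 : List (Equiv.Perm (Fin 5)) :=
  (permsOfList (List.finRange 5)).filter fun σ => Equiv.Perm.sign σ == 1

theorem evens9_shape : ∀ e ∈ evens9, e ∈ evens5.map (fun σ => img9 (emb5 σ)) := by decide +kernel

theorem cent8_pairs : (cnt9 cent8List).length = 27 := by decide +kernel

theorem cent9_pairs : (cnt9 cent9List).length = 555 := by decide +kernel

/-- The involutions with a given number of moved points. -/
def invsOf (l : List (List (Fin 9))) (n : ℕ) : List (List (Fin 9)) :=
  l.filter fun p => comp9 p p == id9 && moved9 p == n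

def ordOK (l : List (List (Fin 9))) : Bool :=
  (invsOf l 8).all fun p => (invsOf l 4).all fun q => (powList comp9 (comp9 p q) 12).contains id9

theorem cent8_ord : ordOK cent8List = true := by decide +kernel

theorem cent9_ord : ordOK cent9List = true := by decide +kernel

theorem of_ordOK {l : List (List (Fin 9))} (h : ordOK l = true) : ∀ p ∈ l, ∀ q ∈ l,
    comp9 p p = id9 → comp9 q q = id9 → moved9 p = 8 → moved9 q = 4 →
    (powList comp9 (comp9 p q) 12).contains id9 = true := by
  intro p hp q hq hp2 hq2 hp8 hq4
  refine List.all_eq_true.1 (List.all_eq_true.1 h p ?_) q ?_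
  · simp [invsOf, hp, hp2, hp8]
  · simp [invsOf, hq, hq2, hq4]

end Cfsg.Agent.SymThirtyTwo
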