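import Cfsg.Agent.Lib.SymThirtyTwo.Labels
import Cfsg.Agent.Lib.SymThirtyTwo.RepFacts

/-
The two possible centralisers of `uM` as permutation groups (helper22).

* `Loc.exists_rep_eight` : order 96, as in the alternating group of degree eight
* `Loc.exists_rep_nine` : order 480, as in the alternating group of degree nine
-/

set_option autoImplicit false
set_option synthInstance.maxSize 4096
set_option maxRecDepth 100000

open Subgroup

namespace Cfsg.Agent.SymThirtyTwo

namespace Loc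

variable {G : Type*} [Group G] {s : G} {N : Nm s} (L : Loc N) [Finite G]

local notation "φ" => N.toCd.φ

include L

/-- The smaller centraliser. -/
theorem exists_rep_eight (h96 : Nat.card (centralizer ({φ uM} : Set G)) = 96) :
    ∃ π : centralizer ({φ uM} : Set G) →* Equiv.Perm (Fin 9), Function.Injective π ∧
      (∀ a (ha : a ∈ t32), img9 (π ⟨φ a, N.t32_mem ha⟩) = tabImg a) ∧
      (∀ l ∈ cent8List, ∃ x, img9 (π x) = l) := by
  classical
  obtain ⟨ψ, hψi, hψ⟩ := L.exists_inj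
  obtain ⟨hnd, hlen, hshape⟩ := cent8_shape
  have hdX : Commute L.d (φ uM) := mul_inv_eq_iff_eq_mul.1 L.du
  have ht6 := t32_facts.2.2.2.2.2
  have hword : ∀ b i a,
      ψ (wval aA (wordM b ++ List.replicate i 8 ++ wordM a)) = φ b * L.d ^ i * φ a := fun b i a => by
    rw [hψ, wval_append, wval_append, L.wval_word, L.wval_dpow, L.wval_word]
  have hchoose : ∀ l : {l // l ∈ cent8List}, ∃ p : alternatingGroup (Fin 8),
      Commute (ψ p) (φ uM) ∧ img9 (ext9 (p : Equiv.Perm (Fin 8))) = l.1 := by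
    rintro ⟨l, hl⟩
    obtain ⟨b, hb, i, -, a, ha, rfl⟩ := hshape l hl
    refine ⟨wval aA (wordM b ++ List.replicate i 8 ++ wordM a), ?_, ?_⟩
    · rw [hword]
      exact ((N.mem_X.1 (N.t32_mem (ht6 b (List.contains_iff_mem.1 (vp_facts b hb).1)))).mul_left
        (hdX.pow_left i)).mul_left (N.mem_X.1 (N.t32_mem (d_list.2.2.2.1 a ha).1))
    · rw [img9_ext9, L.coe_wval]; rfl
  choose p hp using hchoose
  set X := centralizer ({φ uM} : Set G) with hX
  let f : {l // l ∈ cent8List} → X := fun l => ⟨ψ (p l), N.mem_X.2 (hp l).1⟩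
  have hf : Function.Bijective f := by
    refine Function.Injective.bijective_of_nat_card_le (fun l l' h => Subtype.ext ?_) ?_
    · rw [← (hp l).2, ← (hp l').2, hψi (congrArg Subtype.val h)]
    · rw [h96, Nat.subtype_card cent8List.toFinset (fun _ => List.mem_toFinset),
        List.toFinset_card_of_nodup hnd, hlen]
  have hle : X ≤ ψ.range := fun x hx => by
    obtain ⟨l, hl⟩ := hf.2 ⟨x, hx⟩
    exact ⟨p l, congrArg Subtype.val hl⟩
  let e := MonoidHom.ofInjective hψi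
  let π : X →* Equiv.Perm (Fin 9) :=
    ext9.comp ((alternatingGroup (Fin 8)).subtype.comp (e.symm.toMonoidHom.comp (inclusion hle)))
  have hπ : ∀ (q : alternatingGroup (Fin 8)) (x : X), ψ q = x →
      π x = ext9 (q : Equiv.Perm (Fin 8)) := by
    intro q x hq
    show ext9 ((e.symm (inclusion hle x) : alternatingGroup (Fin 8)) : Equiv.Perm (Fin 8)) = _
    rw [show e.symm (inclusion hle x) = q from e.symm_apply_eq.2 (Subtype.ext hq.symm)]
  refine ⟨π, ?_, fun a ha => ?_, fun l hl => ?_⟩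
  · exact ext9_injective.comp ((alternatingGroup (Fin 8)).subtype_injective.comp
      (e.symm.injective.comp (inclusion_injective hle)))
  · rw [hπ (wval aA (wordM a)) ⟨φ a, N.t32_mem ha⟩ ((hψ _).trans (L.wval_word a)), img9_ext9,
      L.coe_wval]
    rfl
  · exact ⟨f ⟨l, hl⟩, by rw [hπ (p ⟨l, hl⟩) _ rfl, (hp ⟨l, hl⟩).2]⟩

/-- The larger centraliser. -/
theorem exists_rep_nine {K : Subgroup G} (hKc : ∀ x ∈ K, Commute x (φ uM))
    (hKn : ∀ g, Commute g (φ uM) → ∀ x ∈ K, g * x * g⁻¹ ∈ K)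
    (hKt : ∀ a ∈ t32, φ a ∈ K ↔ a ∈ vpList) (hdK : L.d ∈ K)
    (hsplit : ∀ g, Commute g (φ uM) → ∃ k ∈ K, ∃ a ∈ dList, k * φ a = g)
    (hcus : ∀ k ∈ K, Commute k (φ usM) → ∃ a ∈ vpList, φ a = k)
    (h60 : Nat.card K = 60) :
    ∃ π : centralizer ({φ uM} : Set G) →* Equiv.Perm (Fin 9), Function.Injective π ∧
      (∀ a (ha : a ∈ t32), img9 (π ⟨φ a, N.t32_mem ha⟩) = tabImg a) ∧
      (∀ l ∈ cent9List, ∃ x, img9 (π x) = l) := by
  classical
  obtain ⟨ρ, hρt, hρi, hρs⟩ := L.exists_labels hKc hKn hKt hdK hsplit hcus h60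
  obtain ⟨-, -, hd1, hd4, hd5, hd6⟩ := d_list
  -- the component in the complement
  have hex : ∀ x : centralizer ({φ uM} : Set G), ∃ a ∈ dList, (x : G) * (φ a)⁻¹ ∈ K := fun x => by
    obtain ⟨k, hk, a, ha, e⟩ := hsplit x (N.mem_X.1 x.2)
    exact ⟨a, ha, by rw [← e, mul_inv_cancel_right]; exact hk⟩
  choose δ hδD hδK using hex
  have huniq : ∀ (x : centralizer ({φ uM} : Set G)) (a : M), a ∈ dList →
      (x : G) * (φ a)⁻¹ ∈ K → δ x = a := by
    intro x a ha hk
    have h := mul_mem (inv_mem hk) (hδK x)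
    rw [show ((x : G) * (φ a)⁻¹)⁻¹ * ((x : G) * (φ (δ x))⁻¹) = φ a * (φ (δ x))⁻¹ by group,
      ← N.toCd.map_inv, N.toCd.mul] at h
    have hm := hd5 a ha _ (hd4 _ (hδD x)).2
    have e := hd6 _ hm ((hKt _ (hd4 _ hm).1).1 h)
    have := congrArg φ e
    rw [← N.toCd.mul, N.toCd.map_inv, N.toCd.map_one] at this
    exact (N.toCd.inj (mul_inv_eq_one.1 this)).symm
  have hδmul : ∀ x y, δ (x * y) = mm true false (δ x) (δ y) := by
    intro x y
    refine huniq _ _ (hd5 _ (hδD x) _ (hδD y)) ?_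
    have h := mul_mem (hδK x)
      (hKn _ (N.mem_X.1 (N.t32_mem (hd4 _ (hδD x)).1)) _ (hδK y))
    rw [Subgroup.coe_mul, ← N.toCd.mul]
    rwa [show (x : G) * (φ (δ x))⁻¹ * (φ (δ x) * ((y : G) * (φ (δ y))⁻¹) * (φ (δ x))⁻¹) =
      (x : G) * y * (φ (δ x) * φ (δ y))⁻¹ by group] at h
  have htab4 : ∀ x y, tab4 (δ (x * y)) = tab4 (δ x) * tab4 (δ y) := fun x y =>
    img9_injective (by rw [hδmul, tab4_mul _ (hδD x) _ (hδD y), img9_mul])
  let π : centralizer ({φ uM} : Set G) →* Equiv.Perm (Fin 9) :=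
    MonoidHom.mk' (fun x => emb5 (ρ x) * tab4 (δ x)) fun x y => by
      rw [map_mul, map_mul, htab4]
      calc emb5 (ρ x) * emb5 (ρ y) * (tab4 (δ x) * tab4 (δ y))
          = emb5 (ρ x) * (emb5 (ρ y) * tab4 (δ x)) * tab4 (δ y) := by simp only [mul_assoc]
        _ = _ := by rw [(emb5_comm (ρ y) (hδD x)).eq]; simp only [mul_assoc]
  have hπ : ∀ x, π x = emb5 (ρ x) * tab4 (δ x) := fun _ => rfl
  have hπt : ∀ a (ha : a ∈ t32), img9 (π ⟨φ a, N.t32_mem ha⟩) = tabImg a := by
    intro a ha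
    obtain ⟨hdp, hvp, himg⟩ := tab_split a ha
    have e : δ ⟨φ a, N.t32_mem ha⟩ = dpart a := huniq _ _ hdp (by
      show φ a * (φ (dpart a))⁻¹ ∈ K
      rw [← N.toCd.map_inv, N.toCd.mul]
      exact (hKt _ (t32_facts.2.2.2.2.2 _ (List.contains_iff_mem.1 (vp_facts _ hvp).1))).2 hvp)
    rw [hπ, hρt a ha, e, himg]
  refine ⟨π, ?_, hπt, fun l hl => ?_⟩
  · rw [injective_iff_map_eq_one]
    intro x hx
    rw [hπ] at hx
    have ht : tab4 (δ x) = 1 := by
      refine Equiv.ext fun a => ?_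
      cases h : unl a with
      | none =>
        have e : emb5 (ρ x) (tab4 (δ x) a) = a := congrArg (fun p => p a) hx
        refine (emb5 (ρ x)).injective (e.trans ?_)
        show a = emb5Fun (ρ x) a
        simp [emb5Fun, h]
      | some k =>
        rw [← lab_unl a k h]
        exact (tab4_facts _ (hδD x)).1 k
    have hδ1 : δ x = oneM := (tab4_facts _ (hδD x)).2 (by rw [ht, img9_one])
    rw [ht, mul_one, ← map_one emb5] at hx
    refine hρi x ?_ (emb5_injective hx)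
    have := hδK x
    rwa [hδ1, N.toCd.map_one, inv_one, mul_one] at this
  · obtain ⟨ev, hev, a, ha, rfl⟩ := cent9_shape.2.2 l hl
    obtain ⟨σ, hσ, rfl⟩ := List.mem_map.1 (evens9_shape ev hev)
    obtain ⟨x, hxK, hx⟩ := hρs σ (by simpa [evens5] using (List.mem_filter.1 hσ).2)
    have e1 : δ x = oneM := huniq x oneM hd1 (by rw [N.toCd.map_one, inv_one, mul_one]; exact hxK)
    have e2 : tab4 oneM = 1 := img9_injective (by rw [img9_one]; decide +kernel)
    refine ⟨x * ⟨φ a, N.t32_mem (hd4 a ha).1⟩, ?_⟩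
    rw [map_mul, img9_mul, hπt a (hd4 a ha).1, hπ x, e1, e2, mul_one, hx]

end Loc

end Cfsg.Agent.SymThirtyTwo
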