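import Mathlib
import Cfsg.Agent.EqLemmas

/-
Proof traces of coset enumerations (helper22).

A trace is a list of facts `(x, a, y)`, each meaning that `R x * el a * (R y)⁻¹` lies in the
subgroup, where the last letter stands for the identity.  A fact either defines the node `y` or
closes a cycle spelling a relator, or a generator of the subgroup at the base node.

* `Trace.check`, `Trace.index_le` : a checked trace bounds the index
-/

set_option autoImplicit false

namespace Cfsg.Agent.SymThirtyTwo

/-- The data of a trace. -/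
structure Trace where
  /-- number of letters -/
  k : ℕ
  /-- number of facts -/
  nf : ℕ
  /-- facts, packed -/
  facts : List ℕ
  /-- kinds and cycles -/
  steps : List (ℕ × List ℕ)
  rels : List (List ℕ)
  subs : List (List ℕ)
  live : List ℕ
  /-- for each live node and letter, a path with that label -/
  final : List (List (List ℕ))

namespace Trace

variable (D : Trace)

def fact (j : ℕ) : ℕ := (D.facts.getD (j / 64) 0) >>> (32 * (j % 64)) &&& 4294967295

def fx (j : ℕ) : ℕ := D.fact j &&& 8191

def fa (j : ℕ) : ℕ := (D.fact j >>> 13) &&& 15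

def fy (j : ℕ) : ℕ := (D.fact j >>> 17) &&& 8191

def invl (a : ℕ) : ℕ := if a < D.k then (if a % 2 = 0 then a + 1 else a - 1) else a

def src (q : ℕ) : ℕ := if q % 2 = 0 then D.fx (q / 2) else D.fy (q / 2)

def dst (q : ℕ) : ℕ := if q % 2 = 0 then D.fy (q / 2) else D.fx (q / 2)

def lab (q : ℕ) : ℕ := if q % 2 = 0 then D.fa (q / 2) else D.invl (D.fa (q / 2))

/-- The segments form a path from `c` to `e`. -/
def path : List ℕ → ℕ → ℕ → Bool
  | [], c, e => c == e
  | q :: l, c, e => D.src q == c && path l (D.dst q) e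

def word (l : List ℕ) : List ℕ := (l.map D.lab).filter fun a => a != D.k

def stepOK (i nd : ℕ) (st : ℕ × List ℕ) : Bool :=
  if st.1 == 0 then D.fx i < nd && D.fy i == nd && D.fa i < D.k
  else
    let pre := st.2.takeWhile fun q => q != 2 * i
    let post := (st.2.dropWhile fun q => q != 2 * i).drop 1
    let c := D.src (st.2.headD 0)
    D.fx i < nd && D.fy i < nd && D.fa i ≤ D.k && c < nd &&
      st.2 == pre ++ 2 * i :: post &&
      pre.all (fun q => q / 2 < i) && post.all (fun q => q / 2 < i) &&
      D.path st.2 c c &&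
      (decide (st.1 ≤ D.rels.length) && D.word st.2 == D.rels.getD (st.1 - 1) [] ||
        decide (D.rels.length < st.1 ∧ st.1 ≤ D.rels.length + D.subs.length) && c == 0 &&
          D.word st.2 == D.subs.getD (st.1 - 1 - D.rels.length) [])

def scanAll : List (ℕ × List ℕ) → ℕ → ℕ → Bool
  | [], i, _ => i == D.nf
  | st :: l, i, nd => D.stepOK i nd st && scanAll l (i + 1) (if st.1 == 0 then nd + 1 else nd)

def finalOK : Bool :=
  D.live.headD 1 == 0 && D.final.length == D.live.length &&
    (D.live.zip D.final).all fun p =>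
      p.2.length == D.k && (List.range D.k).all fun a =>
        let l := p.2.getD a []
        l.all (fun q => q / 2 < D.nf) && D.word l == [a] &&
          D.live.contains (l.foldl (fun _ q => D.dst q) p.1) &&
          D.path l p.1 (l.foldl (fun _ q => D.dst q) p.1)

def check : Bool := D.k % 2 == 0 && D.scanAll D.steps 0 1 && D.finalOK

variable {G : Type*} [Group G] (el : ℕ → G)

def elv (a : ℕ) : G := if a < D.k then el a else 1

def evw (w : List ℕ) : G := (w.map (D.elv el)).prod

theorem elv_invl (hk : D.k % 2 = 0) (hel : ∀ a, 2 * a + 1 < D.k → el (2 * a + 1) = (el (2 * a))⁻¹)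
    (a : ℕ) : D.elv el (D.invl a) = (D.elv el a)⁻¹ := by
  by_cases ha : a < D.k
  · obtain ⟨b, rfl | rfl⟩ := Nat.even_or_odd' a
    · have e : D.invl (2 * b) = 2 * b + 1 := by simp [invl, ha]
      rw [e, elv, elv, if_pos (by omega), if_pos ha, hel b (by omega)]
    · have e : D.invl (2 * b + 1) = 2 * b := by simp [invl, ha, Nat.add_mod]
      rw [e, elv, elv, if_pos (by omega), if_pos ha, hel b ha, inv_inv]
  · simp [invl, elv, ha]

/-- A fact holds for representatives `R`. -/
def Holds (L : Subgroup G) (R : List G) (j : ℕ) : Prop :=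
  D.fx j < R.length ∧ D.fy j < R.length ∧
    R.getD (D.fx j) 1 * D.elv el (D.fa j) * (R.getD (D.fy j) 1)⁻¹ ∈ L

variable {D} {el} {L : Subgroup G}

theorem evw_word (l : List ℕ) : D.evw el (D.word l) = (l.map fun q => D.elv el (D.lab q)).prod := by
  induction l with
  | nil => rfl
  | cons q l ih =>
    have hc : D.word (q :: l) = if D.lab q != D.k then D.lab q :: D.word l else D.word l := by
      simp only [word, List.map_cons, List.filter_cons]
    rw [hc, List.map_cons, List.prod_cons, ← ih]
    split
    · simp [evw]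
    · rename_i h
      have e : D.lab q = D.k := by simpa using h
      rw [e, elv, if_neg (lt_irrefl _), one_mul]

theorem Holds.seg (hk : D.k % 2 = 0)
    (hel : ∀ a, 2 * a + 1 < D.k → el (2 * a + 1) = (el (2 * a))⁻¹) {R : List G} {q : ℕ}
    (h : D.Holds el L R (q / 2)) :
    R.getD (D.src q) 1 * D.elv el (D.lab q) * (R.getD (D.dst q) 1)⁻¹ ∈ L := by
  simp only [src, dst, lab]
  split
  · exact h.2.2
  · rw [D.elv_invl el hk hel]
    have := L.inv_mem h.2.2
    simpa [mul_assoc] using this

theorem path_sound (hk : D.k % 2 = 0)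
    (hel : ∀ a, 2 * a + 1 < D.k → el (2 * a + 1) = (el (2 * a))⁻¹) {R : List G} :
    ∀ (l : List ℕ) (c e : ℕ), D.path l c e = true → (∀ q ∈ l, D.Holds el L R (q / 2)) →
      R.getD c 1 * (l.map fun q => D.elv el (D.lab q)).prod * (R.getD e 1)⁻¹ ∈ L := by
  intro l
  induction l with
  | nil =>
    intro c e h _
    simp only [path, beq_iff_eq] at h
    simp [h]
  | cons q l ih =>
    intro c e h hq
    simp only [path, Bool.and_eq_true, beq_iff_eq] at h
    have h1 := Holds.seg hk hel (hq q List.mem_cons_self)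
    have h2 := ih (D.dst q) e h.2 fun q' hq' => hq q' (List.mem_cons_of_mem _ hq')
    have h3 := L.mul_mem h1 h2
    rw [h.1] at h3
    simpa [mul_assoc] using h3

theorem path_split : ∀ (pre : List ℕ) (q : ℕ) (post : List ℕ) (c e : ℕ),
    D.path (pre ++ q :: post) c e = true →
      D.path pre c (D.src q) = true ∧ D.path post (D.dst q) e = true := by
  intro pre
  induction pre with
  | nil =>
    intro q post c e h
    simp only [List.nil_append, path, Bool.and_eq_true, beq_iff_eq] at h
    exact ⟨by simp [path, h.1], h.2⟩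
  | cons p pre ih =>
    intro q post c e h
    simp only [List.cons_append, path, Bool.and_eq_true, beq_iff_eq] at h
    obtain ⟨h1, h2⟩ := ih q post _ e h.2
    exact ⟨by simp [path, h.1, h1], h2⟩

theorem Holds.append {R : List G} {j : ℕ} (h : D.Holds el L R j) (g : G) :
    D.Holds el L (R ++ [g]) j := by
  refine ⟨by simp; exact le_of_lt h.1, by simp; exact le_of_lt h.2.1, ?_⟩
  rw [List.getD_append _ _ _ _ h.1, List.getD_append _ _ _ _ h.2.1]
  exact h.2.2

theorem scan_sound (hk : D.k % 2 = 0)
    (hel : ∀ a, 2 * a + 1 < D.k → el (2 * a + 1) = (el (2 * a))⁻¹)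
    (hrels : ∀ r ∈ D.rels, D.evw el r = 1) (hsubs : ∀ r ∈ D.subs, D.evw el r ∈ L) :
    ∀ (l : List (ℕ × List ℕ)) (i : ℕ) (R : List G), D.scanAll l i R.length = true →
      R.getD 0 1 = 1 → R ≠ [] → (∀ j < i, D.Holds el L R j) →
        ∃ R' : List G, R'.getD 0 1 = 1 ∧ ∀ j < D.nf, D.Holds el L R' j := by
  intro l
  induction l with
  | nil =>
    intro i R h h0 _ hR
    simp only [scanAll, beq_iff_eq] at h
    exact ⟨R, h0, h ▸ hR⟩
  | cons st l ih =>
    intro i R h h0 hne hR
    simp only [scanAll, Bool.and_eq_true] at h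
    obtain ⟨hst, hrest⟩ := h
    have hpos : 0 < R.length := List.length_pos_iff.2 hne
    by_cases h1 : st.1 = 0
    · simp only [stepOK, h1, beq_self_eq_true, if_true, Bool.and_eq_true, decide_eq_true_eq,
        beq_iff_eq] at hst
      obtain ⟨⟨hx, hy⟩, ha⟩ := hst
      set g := R.getD (D.fx i) 1 * D.elv el (D.fa i) with hg
      refine ih (i + 1) (R ++ [g]) ?_ ?_ (by simp) fun j hj => ?_
      · simpa [h1] using hrest
      · rw [List.getD_append _ _ _ _ hpos]; exact h0
      · rcases Nat.lt_succ_iff_lt_or_eq.1 hj with hj | rfl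
        · exact (hR j hj).append g
        · refine ⟨by simp; omega, by simp; omega, ?_⟩
          rw [List.getD_append _ _ _ _ hx, hy, List.getD_append_right _ _ _ _ le_rfl, Nat.sub_self,
            List.getD_cons_zero, ← hg, mul_inv_cancel]
          exact L.one_mem
    · have hb : (st.1 == 0) = false := by simpa using h1
      simp only [stepOK, hb, Bool.false_eq_true, if_false, Bool.and_eq_true, Bool.or_eq_true,
        decide_eq_true_eq, beq_iff_eq, List.all_eq_true] at hst
      simp only [hb, Bool.false_eq_true, if_false] at hrest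
      refine ih (i + 1) R hrest h0 hne fun j hj => ?_
      rcases Nat.lt_succ_iff_lt_or_eq.1 hj with hj | rfl
      · exact hR j hj
      obtain ⟨⟨⟨⟨⟨⟨⟨⟨hx, hy⟩, -⟩, -⟩, hl⟩, hpre⟩, hpost⟩, hpath⟩, hw⟩ := hst
      refine ⟨hx, hy, ?_⟩
      set c := D.src (st.2.headD 0)
      set pre := st.2.takeWhile fun q => q != 2 * j
      set post := (st.2.dropWhile fun q => q != 2 * j).drop 1
      rw [hl] at hpath
      obtain ⟨h2, h3⟩ := path_split pre (2 * j) post c c hpath
      have e1 := path_sound hk hel pre c _ h2 fun q hq => hR _ (hpre q hq)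
      have e2 := path_sound hk hel post _ c h3 fun q hq => hR _ (hpost q hq)
      have hword : R.getD c 1 * D.evw el (D.word st.2) * (R.getD c 1)⁻¹ ∈ L := by
        rcases hw with ⟨hle, hw⟩ | ⟨⟨⟨hlt, hle⟩, hc⟩, hw⟩
        · rw [hw, List.getD_eq_getElem _ _ (show st.1 - 1 < D.rels.length by omega),
            hrels _ (List.getElem_mem _)]
          simp
        · rw [hw, hc, h0, List.getD_eq_getElem _ _
            (show st.1 - 1 - D.rels.length < D.subs.length by omega)]
          simpa using hsubs _ (List.getElem_mem _)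
      rw [evw_word, hl, List.map_append, List.map_cons, List.prod_append, List.prod_cons] at hword
      have es : D.src (2 * j) = D.fx j := by simp [src]
      have ed : D.dst (2 * j) = D.fy j := by simp [dst]
      have el' : D.lab (2 * j) = D.fa j := by simp [lab]
      rw [el'] at hword
      rw [es] at e1
      rw [ed] at e2
      have := L.mul_mem (L.mul_mem (L.inv_mem e1) hword) (L.inv_mem e2)
      simpa [mul_assoc] using this

/-- Representatives of right cosets closed under the letters. -/
theorem reps_of_check (h : D.check = true)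
    (hel : ∀ a, 2 * a + 1 < D.k → el (2 * a + 1) = (el (2 * a))⁻¹)
    (hrels : ∀ r ∈ D.rels, D.evw el r = 1) (hsubs : ∀ r ∈ D.subs, D.evw el r ∈ L) :
    ∃ R : Fin D.live.length → G, (∃ c, R c = 1) ∧
      ∀ c, ∀ a < D.k, ∃ c', R c * el a * (R c')⁻¹ ∈ L := by
  simp only [check, Bool.and_eq_true, beq_iff_eq] at h
  obtain ⟨⟨hk, hscan⟩, hfin⟩ := h
  obtain ⟨R', h0, hR'⟩ := scan_sound hk hel hrels hsubs D.steps 0 [(1 : G)] hscan rfl (by simp)
    (fun j hj => absurd hj (Nat.not_lt_zero j))
  simp only [finalOK, Bool.and_eq_true, beq_iff_eq, List.all_eq_true, List.mem_range] at hfin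
  obtain ⟨⟨hhead, hlen⟩, hfin⟩ := hfin
  refine ⟨fun c => R'.getD (D.live[c.1]) 1, ?_, fun c a ha => ?_⟩
  · have hpos : 0 < D.live.length := by
      rcases hl : D.live with - | ⟨x, l⟩
      · rw [hl] at hhead; simp at hhead
      · simp
    refine ⟨⟨0, hpos⟩, ?_⟩
    have : D.live[0] = 0 := by
      simpa [List.headD_eq_head?_getD, List.head?_eq_getElem?, hpos] using hhead
    simp only [this, h0]
  · have hz : (D.live[c.1], D.final[c.1]'(by omega)) ∈ D.live.zip D.final := by
      have hc : c.1 < (D.live.zip D.final).length := by simp [hlen]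
      have := List.getElem_mem hc
      simpa using this
    obtain ⟨-, h1⟩ := hfin _ hz
    have h2 := h1 a ha
    simp only [List.contains_iff_mem] at h2
    obtain ⟨⟨⟨hq, hw⟩, hmem⟩, hp⟩ := h2
    obtain ⟨c', hc', he⟩ := List.mem_iff_getElem.1 hmem
    refine ⟨⟨c', hc'⟩, ?_⟩
    have := path_sound hk hel _ _ _ hp fun q hq' => hR' _ (of_decide_eq_true (hq q hq'))
    rw [← evw_word, hw] at this
    simp only [evw, List.map_cons, List.map_nil, List.prod_cons, List.prod_nil, mul_one, elv,
      ha, if_true] at this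
    simpa [he] using this

/-- A checked trace bounds the index of the subgroup in the group generated by the letters. -/
theorem index_le [Finite L] (h : D.check = true)
    (hel : ∀ a, 2 * a + 1 < D.k → el (2 * a + 1) = (el (2 * a))⁻¹)
    (hrels : ∀ r ∈ D.rels, D.evw el r = 1) (hsubs : ∀ r ∈ D.subs, D.evw el r ∈ L)
    (hk : D.k % 2 = 0) (hLle : L ≤ Subgroup.closure {g | ∃ a < D.k, el a = g}) :
    (Subgroup.closure {g | ∃ a < D.k, el a = g} : Set G).Finite ∧
      Nat.card (Subgroup.closure {g | ∃ a < D.k, el a = g}) ≤ Nat.card L * D.live.length := by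
  classical
  obtain ⟨R, ⟨c₀, hc₀⟩, hstep⟩ := reps_of_check h hel hrels hsubs
  set S : Set G := Set.range fun p : L × Fin D.live.length => (p.1 : G) * R p.2
  have hSfin : S.Finite := Set.finite_range _
  have hmul : ∀ g ∈ S, ∀ a < D.k, g * el a ∈ S := by
    rintro _ ⟨⟨l, c⟩, rfl⟩ a ha
    obtain ⟨c', hc'⟩ := hstep c a ha
    exact ⟨⟨⟨(l : G) * (R c * el a * (R c')⁻¹), L.mul_mem l.2 hc'⟩, c'⟩, by simp [mul_assoc]⟩
  have hinv : ∀ a < D.k, ∃ b < D.k, (el a)⁻¹ = el b := by
    intro a ha
    obtain ⟨b, rfl | rfl⟩ := Nat.even_or_odd' a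
    · exact ⟨2 * b + 1, by omega, (hel b (by omega)).symm⟩
    · exact ⟨2 * b, by omega, by rw [hel b ha, inv_inv]⟩
  have hsub : (Subgroup.closure {g | ∃ a < D.k, el a = g} : Set G) ⊆ S := by
    intro g hg
    have key : ∀ x ∈ S, x * g ∈ S := by
      induction hg using Subgroup.closure_induction_right with
      | one => intro x hx; simpa using hx
      | mul_right y z _ hz ih =>
        obtain ⟨a, ha, rfl⟩ := hz
        intro x hx
        rw [← mul_assoc]
        exact hmul _ (ih x hx) a ha
      | mul_inv_cancel y z _ hz ih =>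
        obtain ⟨a, ha, rfl⟩ := hz
        obtain ⟨b, hb, e⟩ := hinv a ha
        intro x hx
        rw [e, ← mul_assoc]
        exact hmul _ (ih x hx) b hb
    simpa using key 1 ⟨⟨1, c₀⟩, by simp [hc₀]⟩
  refine ⟨hSfin.subset hsub, ?_⟩
  calc Nat.card (Subgroup.closure {g | ∃ a < D.k, el a = g})
      = (Subgroup.closure {g | ∃ a < D.k, el a = g} : Set G).ncard := Nat.card_coe_set_eq _
    _ ≤ S.ncard := Set.ncard_le_ncard hsub hSfin
    _ ≤ Nat.card (L × Fin D.live.length) := Finite.card_range_le _
    _ = _ := by rw [Nat.card_prod, Nat.card_fin]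

end Trace

end Cfsg.Agent.SymThirtyTwo
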