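import Mathlib
import Cfsg.Agent.EqLemmas

/-
Values of a transfer into the group of signs (helper22).

* `transfer_invol` : the transfer of an involution whose conjugates in the subgroup all have the
  same sign, for a subgroup of odd index
-/

set_option autoImplicit false

namespace Cfsg.Agent.SymThirtyTwo

/-- The transfer of an element of square one whose conjugates in the subgroup have equal images. -/
theorem transfer_invol {X A : Type*} [Group X] [CommGroup A] {H : Subgroup X} [H.FiniteIndex]
    (f : H →* A) {x : X} (hx : x * x = 1) (hodd : Odd H.index) {a : A} (ha : a * a = 1)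
    (hfix : ∀ (g : X) (hg : g⁻¹ * x * g ∈ H), f ⟨_, hg⟩ = a) : f.transfer x = a := by
  classical
  haveI : Fintype (X ⧸ H) := H.fintypeQuotientOfFiniteIndex
  haveI : Fintype (Quotient (MulAction.orbitRel (Subgroup.zpowers x) (X ⧸ H))) :=
    Fintype.ofFinite _
  rw [MonoidHom.transfer_eq_prod_quotient_orbitRel_zpowers_quot]
  have hterm : ∀ q : Quotient (MulAction.orbitRel (Subgroup.zpowers x) (X ⧸ H)),
      f ⟨q.out.out⁻¹ * x ^ Function.minimalPeriod (x • ·) q.out * q.out.out,
          QuotientGroup.out_conj_pow_minimalPeriod_mem H x q.out⟩ =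
        a ^ Function.minimalPeriod (x • ·) q.out := by
    intro q
    have h2 : Function.minimalPeriod (x • ·) q.out ∣ 2 := by
      refine Function.IsPeriodicPt.minimalPeriod_dvd ?_
      show ((x • ·)^[2]) q.out = q.out
      simp [smul_smul, hx]
    have hmem := QuotientGroup.out_conj_pow_minimalPeriod_mem H x q.out
    rcases (Nat.dvd_prime Nat.prime_two).1 h2 with e | e
    · have key : ∀ (n : ℕ) (h : q.out.out⁻¹ * x ^ n * q.out.out ∈ H), n = 1 →
          f ⟨_, h⟩ = a ^ n := by
        rintro n h rfl
        simp only [pow_one] at h ⊢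
        exact hfix _ h
      exact key _ hmem e
    · have key : ∀ (n : ℕ) (h : q.out.out⁻¹ * x ^ n * q.out.out ∈ H), n = 2 →
          f ⟨_, h⟩ = a ^ n := by
        rintro n h rfl
        rw [pow_two a, ha, ← f.map_one]
        congr 1
        exact Subtype.ext (by simp [pow_two, hx])
      exact key _ hmem e
  rw [Finset.prod_congr rfl fun q _ => hterm q, Finset.prod_pow_eq_pow_sum,
    ← Subgroup.index_eq_sum_minimalPeriod H x]
  obtain ⟨k, hk⟩ := hodd
  rw [hk, pow_succ, pow_mul, pow_two, ha, one_pow, one_mul]

end Cfsg.Agent.SymThirtyTwo
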