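import Cfsg.Agent.Lib.SymThirtyTwo.Frame
import Cfsg.Agent.Lib.TwelveCent.Model

/-
The model without exchange of the factors is the centraliser in the Mathieu group of degree twelve
(helper22).

* `tw` : the code of an element of the model
* `Cd.coding` : the coding
-/

set_option autoImplicit false
set_option synthInstance.maxSize 4096

open Cfsg.Agent.MathieuFusion

namespace Cfsg.Agent.SymThirtyTwo

def cbp (g : ℕ) (b : Bool) : ℕ := if b then g else idCode

/-- The code of an element of the model. -/
def tw (m : M) : ℕ :=
  comp (comp (cbp 982224272407457424162902122185203753 m.1.1)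
      (comp (comp (cbp 297963136269143599398474002393575472 m.1.2.1.1) (cbp 886244577226903460504110514330248226 m.1.2.1.2))
        (comp (cbp 962739364800516061384660403327381618 m.1.2.2.1) (cbp 980911370139654030782469375272297890 m.1.2.2.2))))
    (comp
      (if m.2.1 = 0 then idCode else if m.2.1 = 1 then 298125576371506366378979829772035212
        else comp 298125576371506366378979829772035212 298125576371506366378979829772035212)
      (cbp 298125219612389862739723852245479465 m.2.2))

theorem tw_mem : (all.all fun m => TwelveCent.cents.contains (tw m)) = true := by decide +kernel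

theorem tw_nodup : (all.map tw).Nodup := by decide +kernel

theorem tw_cs : tw cs = TwelveCent.zc := by decide +kernel

/-- The generators `z, i, j, i', j', x, t`. -/
def gens : List M :=
  [cs, ((false, (true, false), (false, false)), 0, false),
    ((false, (false, true), (false, false)), 0, false),
    ((false, (false, false), (true, false)), 0, false),
    ((false, (false, false), (false, true)), 0, false),
    (sgn false, 1, false), (sgn false, 0, true)]

def kp (g : M) (b : Bool) : List M := if b then [g] else []

/-- An element as a product of generators. -/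
def word (m : M) : List M :=
  kp cs m.1.1 ++ kp ((false, (true, false), (false, false)), 0, false) m.1.2.1.1 ++
    kp ((false, (false, true), (false, false)), 0, false) m.1.2.1.2 ++
    kp ((false, (false, false), (true, false)), 0, false) m.1.2.2.1 ++
    kp ((false, (false, false), (false, true)), 0, false) m.1.2.2.2 ++
    List.replicate (m.2.1 : ℕ) (sgn false, 1, false) ++ kp (sgn false, 0, true) m.2.2

theorem word_spec : ∀ m ∈ all, (word m).all (fun g => gens.contains g) = true ∧
    (word m).foldl (mm false false) oneM = m := by decide +kernel

theorem tw_gen : (all.all fun a => gens.all fun g =>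
    comp (tw a) (tw g) == tw (mm false false a g)) = true := by decide +kernel

theorem tw_one : tw oneM = idCode := by decide +kernel

namespace Cd

variable {G : Type*} [Group G] {s : G} (c : Cd s false false)

include c

theorem assoc (a b g : M) :
    mm false false (mm false false a b) g = mm false false a (mm false false b g) :=
  c.inj (by rw [← c.mul, ← c.mul, ← c.mul, ← c.mul, mul_assoc])

theorem one_mm (a : M) : mm false false oneM a = a := by
  revert a
  decide +kernel

/-- The coding of the centraliser. -/
theorem coding : Nonempty (TwelveCent.Coding s) := by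
  classical
  have hmem : ∀ m, tw m ∈ TwelveCent.cents := fun m =>
    List.contains_iff_mem.1 (List.all_eq_true.1 tw_mem m (mem_all m))
  choose P hPc hP using fun m => TwelveCent.exists_cents (hmem m)
  have hgen : ∀ a, ∀ g ∈ gens, P (mm false false a g) = P a * P g := fun a g hg => by
    refine Subtype.ext (TwelveCent.codeOf_injective ?_)
    rw [Subgroup.coe_mul, TwelveCent.codeOf_mul, hP, hP, hP]
    have h := List.all_eq_true.1 (List.all_eq_true.1 tw_gen a (mem_all a)) g hg
    exact (beq_iff_eq.1 h).symm
  have hword : ∀ (w : List M), (∀ g ∈ w, g ∈ gens) → ∀ a,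
      P (w.foldl (mm false false) a) = P a * (w.map P).prod := by
    intro w
    induction w with
    | nil => intro _ a; simp
    | cons g w ih =>
      intro hw a
      rw [List.foldl_cons, ih (fun u hu => hw u (List.mem_cons_of_mem _ hu)),
        hgen a g (hw g List.mem_cons_self), List.map_cons, List.prod_cons, mul_assoc]
  have hfold : ∀ (w : List M) (a b : M), w.foldl (mm false false) (mm false false a b) =
      mm false false a (w.foldl (mm false false) b) := by
    intro w
    induction w with
    | nil => intro a b; rfl
    | cons g w ih => intro a b; rw [List.foldl_cons, List.foldl_cons, c.assoc, ih]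
  have hone : P oneM = 1 := by
    refine Subtype.ext (TwelveCent.codeOf_injective ?_)
    rw [hP, tw_one, Subgroup.coe_one]
    exact (TwelveCent.codeOf_eq_of_rep MathieuFusion.rep_one MathieuFusion.canon_idCode).symm
  have hmul : ∀ a b, tw (mm false false a b) = comp (tw a) (tw b) := by
    intro a b
    obtain ⟨hw, hb⟩ := word_spec b (mem_all b)
    have hw' : ∀ g ∈ word b, g ∈ gens := fun g hg =>
      List.contains_iff_mem.1 (List.all_eq_true.1 hw g hg)
    have h1 : P (mm false false a b) = P a * P b := by
      have hPb : P b = ((word b).map P).prod := by
        conv_lhs => rw [← hb]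
        rw [hword _ hw', hone, one_mul]
      have e : (word b).foldl (mm false false) a = mm false false a b := by
        have h := hfold (word b) a oneM
        rw [hb] at h
        have key : ∀ a ∈ all, mm false false a oneM = a := by decide +kernel
        rwa [key a (mem_all a)] at h
      rw [← e, hword _ hw', hPb]
    rw [← hP, h1, Subgroup.coe_mul, TwelveCent.codeOf_mul, hP, hP]
  choose inv hinv using fun g : {g : G // Commute g s} => c.surj g g.2
  let f : G → ℕ := fun g => if h : Commute g s then tw (inv ⟨g, h⟩) else 0
  have hf : ∀ m, f (c.φ m) = tw m := fun m => by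
    simp only [f, dif_pos (c.comm m)]
    rw [c.inj (hinv ⟨c.φ m, c.comm m⟩)]
  have hsurj : ∀ d ∈ TwelveCent.cents, ∃ m, tw m = d := by
    intro d hd
    have h1 : (all.map tw).toFinset = TwelveCent.cents.toFinset := by
      refine Finset.eq_of_subset_of_card_le (fun x hx => ?_) ?_
      · simp only [List.mem_toFinset, List.mem_map] at hx ⊢
        obtain ⟨m, -, rfl⟩ := hx
        exact hmem m
      · rw [List.toFinset_card_of_nodup tw_nodup, List.length_map, all_nodup.2,
          List.toFinset_card_of_nodup TwelveCent.check_cents_nodup.1,
          TwelveCent.check_cents_nodup.2]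
    have := List.mem_toFinset.2 hd
    rw [← h1, List.mem_toFinset, List.mem_map] at this
    obtain ⟨m, -, h⟩ := this
    exact ⟨m, h⟩
  refine ⟨⟨f, ?_, ?_, ?_, ?_, ?_⟩⟩
  · intro a ha
    obtain ⟨m, rfl⟩ := c.surj a ha
    rw [hf]; exact hmem m
  · intro a b ha hb
    obtain ⟨m, rfl⟩ := c.surj a ha
    obtain ⟨n, rfl⟩ := c.surj b hb
    rw [c.mul, hf, hf, hf, hmul]
  · intro a b ha hb h
    obtain ⟨m, rfl⟩ := c.surj a ha
    obtain ⟨n, rfl⟩ := c.surj b hb
    rw [hf, hf] at h
    exact congrArg c.φ (List.inj_on_of_nodup_map tw_nodup (mem_all m) (mem_all n) h)
  · intro d hd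
    obtain ⟨m, rfl⟩ := hsurj d hd
    exact ⟨c.φ m, c.comm m, hf m⟩
  · rw [← c.map_cs, hf]; exact tw_cs

end Cd

end Cfsg.Agent.SymThirtyTwo
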