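import Cfsg.Agent.Lib.SymThirtyTwo.XSylow
import Cfsg.Agent.Lib.TwelveCent.Klein

/-
The centraliser of an unfused involution (helper22).

* `Loc.exists_core` : the centraliser of `uM` is a normal subgroup with Sylow subgroup of order
  four and centralisers of its involutions equal to it, extended by a complement of order eight
-/

set_option autoImplicit false
set_option synthInstance.maxSize 4096
set_option maxRecDepth 100000

open Subgroup

namespace Cfsg.Agent.SymThirtyTwo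

namespace Loc

variable {G : Type*} [Group G] {s : G} {N : Nm s} (L : Loc N) [Finite G]

local notation "φ" => N.toCd.φ

include L

/-- The value of a transfer of a sign. -/
theorem transfer_sign (c : M → Bool)
    (f : N.p32.subgroupOf (centralizer ({φ uM} : Set G)) →* ℤˣ)
    (hf : ∀ a ∈ t32, ∀ p : N.p32.subgroupOf (centralizer ({φ uM} : Set G)),
      ((p : centralizer ({φ uM} : Set G)) : G) = φ a → f p = if c a then -1 else 1)
    (hc : ∀ a ∈ t32, ∀ b ∈ t32, c (mm true false a b) = (c a ^^ c b))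
    (hcon : ∀ x ∈ [tauM, vM, uM], ∀ g ∈ centralizer ({φ uM} : Set G), ∀ b ∈ t32,
      g⁻¹ * φ x * g = φ b → c b = c x)
    (hcus : c usM = false) (hcw : c v2M = false) (hc1 : c oneM = false) {a : M} (ha : a ∈ t32) :
    f.transfer ⟨φ a, N.t32_mem ha⟩ = if c a then -1 else 1 := by
  obtain ⟨t1, t2, ⟨tone, ttau, tv, tu, tus, tv2⟩, t4, t5, t6⟩ := t32_facts
  let Good : M → Prop := fun x => ∃ hx : x ∈ t32,
    f.transfer ⟨φ x, N.t32_mem hx⟩ = if c x then -1 else 1
  have hinv : ∀ x ∈ t32, mm true false x x = oneM →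
      (∀ g ∈ centralizer ({φ uM} : Set G), ∀ b ∈ t32, g⁻¹ * φ x * g = φ b → c b = c x) →
      Good x := by
    intro x hx hxx hh
    refine ⟨hx, transfer_invol f (Subtype.ext ?_) N.odd_index (Int.units_mul_self _) fun g hg => ?_⟩
    · show φ x * φ x = 1
      rw [N.toCd.mul, hxx, N.toCd.map_one]
    · obtain ⟨b, hb, e⟩ := mem_subgroupOf.1 hg
      exact (hf b hb (⟨_, hg⟩ : N.p32.subgroupOf _) e.symm).trans (by rw [hh g g.2 b hb e.symm])
  have hmul : ∀ {x y}, Good x → Good y → Good (mm true false x y) := by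
    rintro x y ⟨hx, h1⟩ ⟨hy, h2⟩
    refine ⟨(t5 x hx y hy).1, ?_⟩
    have e : (⟨φ (mm true false x y), N.t32_mem (t5 x hx y hy).1⟩ : centralizer ({φ uM} : Set G)) =
        ⟨φ x, N.t32_mem hx⟩ * ⟨φ y, N.t32_mem hy⟩ := Subtype.ext (N.toCd.mul x y).symm
    rw [e, map_mul, h1, h2, hc x hx y hy]
    cases c x <;> cases c y <;> simp
  have hone : Good oneM := by
    refine ⟨tone, ?_⟩
    have e : (⟨φ oneM, N.t32_mem tone⟩ : centralizer ({φ uM} : Set G)) = 1 :=
      Subtype.ext N.toCd.map_one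
    rw [e, map_one, hc1]
    simp
  have hbp : ∀ {x}, Good x → ∀ b : Bool, Good (bpM x b) := by
    intro x hx b
    cases b
    exacts [hone, hx]
  have hsq : mm true false tauM tauM = oneM ∧ mm true false vM vM = oneM ∧
      mm true false uM uM = oneM := by decide +kernel
  have gτ := hinv tauM ttau hsq.1 (hcon _ (by simp))
  have gv := hinv vM tv hsq.2.1 (hcon _ (by simp))
  have gu := hinv uM tu hsq.2.2 (hcon _ (by simp))
  have hdX : L.d ∈ centralizer ({φ uM} : Set G) := N.mem_X.2 (mul_inv_eq_iff_eq_mul.1 L.du)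
  have hd : f.transfer ⟨L.d, hdX⟩ = 1 := by
    have h : f.transfer ⟨L.d, hdX⟩ * f.transfer ⟨L.d, hdX⟩ * f.transfer ⟨L.d, hdX⟩ = 1 := by
      rw [← map_mul, ← map_mul, ← map_one f.transfer]; exact congrArg _ (Subtype.ext L.d3)
    rwa [Int.units_mul_self, one_mul] at h
  have h1 : f.transfer ⟨φ v2M, N.t32_mem tv2⟩ = f.transfer ⟨φ usM, N.t32_mem tus⟩ := by
    have e : (⟨φ v2M, N.t32_mem tv2⟩ : centralizer ({φ uM} : Set G)) =
        ⟨L.d, hdX⟩ * ⟨φ usM, N.t32_mem tus⟩ * ⟨L.d, hdX⟩⁻¹ := Subtype.ext L.dus.symm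
    rw [e, map_mul, map_mul, map_inv, hd, one_mul, inv_one, mul_one]
  have h2 : f.transfer ⟨φ usM, N.t32_mem tus⟩ = 1 := by
    have e : (⟨φ usM, N.t32_mem tus⟩ : centralizer ({φ uM} : Set G)) * ⟨φ v2M, N.t32_mem tv2⟩ =
        ⟨L.d, hdX⟩ * ⟨φ v2M, N.t32_mem tv2⟩ * ⟨L.d, hdX⟩⁻¹ :=
      Subtype.ext ((N.toCd.mul _ _).trans L.dv2.symm)
    have e2 := congrArg f.transfer e
    rw [map_mul, map_mul, map_mul, map_inv, hd, one_mul, inv_one, mul_one, h1] at e2
    exact mul_eq_right.1 e2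
  have gus : Good usM := ⟨tus, by rw [h2, hcus]; simp⟩
  have gv2 : Good v2M := ⟨tv2, by rw [h1, h2, hcw]; simp⟩
  have hlin : Good (lin5 (co a)) :=
    hmul (hmul (hbp gτ _) (hbp gv _)) (hmul (hbp gu _) (hmul (hbp gus _) (hbp gv2 _)))
  rw [(t4 a ha).1] at hlin
  exact hlin.2

/-- The kernel of the two signs. -/
theorem exists_kernel : ∃ Y : Subgroup G, Y ≤ centralizer ({φ uM} : Set G) ∧
    4 * Nat.card Y = Nat.card (centralizer ({φ uM} : Set G)) ∧
    (∀ a ∈ t32, φ a ∈ Y ↔ co1 a = false ∧ co2 a = false) ∧ L.d ∈ Y ∧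
    ∀ g ∈ centralizer ({φ uM} : Set G), ∀ y ∈ Y, g * y * g⁻¹ ∈ Y := by
  classical
  haveI := Fact.mk Nat.prime_two
  obtain ⟨t1, t2, ⟨tone, ttau, tv, tu, tus, tv2⟩, t4, t5, t6⟩ := t32_facts
  obtain ⟨cτ1, cτ2, cv1, cv2, cu1, cu2, cu3, cus1, cus2, cus3, cw1, cw2, cw3, cout, cin⟩ := co_values
  set X := centralizer ({φ uM} : Set G) with hX
  have hXmem : ∀ {g : G}, g ∈ X ↔ Commute g (φ uM) := fun {g} => N.mem_X
  have hinX : ∀ a ∈ t32, φ a ∈ X := fun a ha => N.t32_mem ha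
  let PX : Subgroup X := N.p32.subgroupOf X
  have hoddP : Odd PX.index := N.odd_index
  have hconjτ := N.conj_tau
  have hconjv := N.conj_v
  have hconju := N.conj_u
  obtain ⟨f1, hf1⟩ := N.exists_signHom tone (fun a ha => (t4 a ha).2) (fun a ha b hb => (t5 a ha b hb).1)
    X co1 (fun a ha b hb => (t5 a ha b hb).2.1)
  obtain ⟨f2, hf2⟩ := N.exists_signHom tone (fun a ha => (t4 a ha).2) (fun a ha b hb => (t5 a ha b hb).1)
    X co2 (fun a ha b hb => (t5 a ha b hb).2.2)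
  haveI : PX.FiniteIndex := inferInstance
  have hdX : L.d ∈ X := hXmem.2 (mul_inv_eq_iff_eq_mul.1 L.du)
  have hd3 : ∀ (χ : X →* ℤˣ), χ ⟨L.d, hdX⟩ = 1 := fun χ => by
    have h : χ ⟨L.d, hdX⟩ * χ ⟨L.d, hdX⟩ * χ ⟨L.d, hdX⟩ = 1 := by
      rw [← map_mul, ← map_mul, ← map_one χ]; exact congrArg χ (Subtype.ext L.d3)
    rwa [Int.units_mul_self, one_mul] at h
  have hχ1 : ∀ a (ha : a ∈ t32), f1.transfer ⟨φ a, hinX a ha⟩ = if co1 a then -1 else 1 :=
    fun a ha => L.transfer_sign co1 f1 hf1 (fun a ha b hb => (t5 a ha b hb).2.1)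
    (by
      intro x hx g hg b hb e
      simp only [List.mem_cons, List.not_mem_nil, or_false] at hx
      rcases hx with rfl | rfl | rfl
      · rw [(hconjτ g hg b hb e).1, cτ1]
      · rw [(hconjv g hg b hb e).1, cv1]
      · rw [hconju g hg b e])
    cus1 cw1 (by decide +kernel) ha
  have hχ2 : ∀ a (ha : a ∈ t32), f2.transfer ⟨φ a, hinX a ha⟩ = if co2 a then -1 else 1 :=
    fun a ha => L.transfer_sign co2 f2 hf2 (fun a ha b hb => (t5 a ha b hb).2.2)
    (by
      intro x hx g hg b hb e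
      simp only [List.mem_cons, List.not_mem_nil, or_false] at hx
      rcases hx with rfl | rfl | rfl
      · rw [(hconjτ g hg b hb e).2, cτ2]
      · rw [(hconjv g hg b hb e).2, cv2]
      · rw [hconju g hg b e])
    cus2 cw2 (by decide +kernel) ha
  -- the kernel
  set χ : X →* ℤˣ × ℤˣ := f1.transfer.prod f2.transfer with hχ
  have hχsurj : Function.Surjective χ := by
    have hτv : χ ⟨φ tauM, hinX _ ttau⟩ = (-1, 1) ∧ χ ⟨φ vM, hinX _ tv⟩ = (1, -1) := by
      refine ⟨?_, ?_⟩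
      · show (f1.transfer ⟨φ tauM, _⟩, f2.transfer ⟨φ tauM, _⟩) = _
        rw [hχ1 tauM ttau, hχ2 tauM ttau, cτ1, cτ2]; simp
      · show (f1.transfer ⟨φ vM, _⟩, f2.transfer ⟨φ vM, _⟩) = _
        rw [hχ1 vM tv, hχ2 vM tv, cv1, cv2]; simp
    rintro ⟨p, q⟩
    rcases Int.units_eq_one_or p with rfl | rfl <;> rcases Int.units_eq_one_or q with rfl | rfl
    · exact ⟨1, map_one χ⟩
    · exact ⟨_, hτv.2⟩
    · exact ⟨_, hτv.1⟩
    · exact ⟨⟨φ tauM, hinX _ ttau⟩ * ⟨φ vM, hinX _ tv⟩, by rw [map_mul, hτv.1, hτv.2]; simp⟩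
  set Y := χ.ker.map X.subtype with hY
  have hYcard : 4 * Nat.card Y = Nat.card X := by
    rw [hY, card_map_of_injective X.subtype_injective, ← χ.ker.card_mul_index, index_ker,
      MonoidHom.range_eq_top.2 hχsurj, card_top, mul_comm]
    simp
  have hYmem : ∀ a (ha : a ∈ t32), φ a ∈ Y ↔ co1 a = false ∧ co2 a = false := by
    intro a ha
    constructor
    · rintro ⟨x, hx, e⟩
      obtain rfl : x = ⟨φ a, hinX a ha⟩ := Subtype.ext e
      rw [SetLike.mem_coe, MonoidHom.mem_ker, hχ, MonoidHom.prod_apply, hχ1 a ha, hχ2 a ha,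
        Prod.mk_eq_one] at hx
      obtain ⟨h1, h2⟩ := hx
      constructor
      · cases h : co1 a
        · rfl
        · rw [h] at h1; exact absurd h1 (by decide)
      · cases h : co2 a
        · rfl
        · rw [h] at h2; exact absurd h2 (by decide)
    · rintro ⟨h1, h2⟩
      refine ⟨⟨φ a, hinX a ha⟩, ?_, rfl⟩
      rw [SetLike.mem_coe, MonoidHom.mem_ker, hχ, MonoidHom.prod_apply, hχ1 a ha, hχ2 a ha, h1, h2]
      simp
  have hYX : Y ≤ X := map_subtype_le _
  have hdY : L.d ∈ Y := ⟨⟨L.d, hdX⟩, by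
    rw [SetLike.mem_coe, MonoidHom.mem_ker, hχ, MonoidHom.prod_apply, hd3, hd3]; simp, rfl⟩
  refine ⟨Y, hYX, hYcard, hYmem, hdY, ?_⟩
  intro g hg y hy
  obtain ⟨y', hy', e⟩ := mem_map.1 hy
  refine mem_map.2 ⟨(⟨g, hg⟩ : X) * y' * (⟨g, hg⟩ : X)⁻¹,
    MonoidHom.mem_ker.2 ?_, ?_⟩
  · have h' : χ y' = 1 := MonoidHom.mem_ker.1 hy'
    rw [map_mul, map_mul, map_inv, h', mul_one, mul_inv_cancel]
  · rw [← e]; simp

/-- The normal subgroup. -/
theorem exists_normal : ∃ (K : Subgroup G) (m : ℕ), K ≤ centralizer ({φ uM} : Set G) ∧ Odd m ∧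
    Nat.card (centralizer ({φ uM} : Set G)) = 32 * m ∧ Nat.card K = 4 * m ∧
    (∀ a ∈ t32, φ a ∈ K ↔ a ∈ vpList) ∧ L.d ∈ K ∧
    ∀ g ∈ centralizer ({φ uM} : Set G), ∀ x ∈ K, g * x * g⁻¹ ∈ K := by
  classical
  haveI := Fact.mk Nat.prime_two
  obtain ⟨t1, t2, ⟨tone, ttau, tv, tu, tus, tv2⟩, t4, t5, t6⟩ := t32_facts
  obtain ⟨q1, q2, ⟨qone, qu, qus, qv2⟩, q4, q5, q6⟩ := p8_facts
  obtain ⟨cτ1, cτ2, cv1, cv2, cu1, cu2, cu3, cus1, cus2, cus3, cw1, cw2, cw3, cout, cin⟩ := co_values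
  set X := centralizer ({φ uM} : Set G) with hX
  have hXmem : ∀ {g : G}, g ∈ X ↔ Commute g (φ uM) := fun {g} => N.mem_X
  have hinX : ∀ a ∈ t32, φ a ∈ X := fun a ha => N.t32_mem ha
  let PX : Subgroup X := N.p32.subgroupOf X
  have hoddP : Odd PX.index := N.odd_index
  have hPXcard : Nat.card PX = 32 := by
    rw [Nat.card_congr (subgroupOfEquivOfLe N.p32_le).toEquiv, N.card_p32]
  have hconju := N.conj_u
  obtain ⟨Y, hYX, hYc, hYmem, hdY, hYn0⟩ := L.exists_kernel
  have hYcard : 4 * Nat.card Y = Nat.card X := hYc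
  set P8 := listSub N p8List qone (fun a ha => (q4 a ha).1) (fun a ha b hb => (q5 a ha b hb).1)
    with hP8
  have hP8Y : P8 ≤ Y := by
    rintro _ ⟨a, ha, rfl⟩
    have h := (List.mem_filter.1 ha).2
    simp only [Bool.and_eq_true, Bool.not_eq_true'] at h
    exact (hYmem a (q4 a ha).2).2 h
  obtain ⟨m, hm⟩ : ∃ m, Odd m ∧ Nat.card X = 32 * m :=
    ⟨PX.index, hoddP, by rw [← PX.card_mul_index, hPXcard]⟩
  have h8 : Nat.card (P8.subgroupOf Y) = 8 := by
    rw [Nat.card_congr (subgroupOfEquivOfLe hP8Y).toEquiv]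
    exact (N.card_listSub _ _ _ q1).trans q2
  have hodd8 : Odd (P8.subgroupOf Y).index := by
    have h := (P8.subgroupOf Y).card_mul_index
    rw [h8] at h
    have : (P8.subgroupOf Y).index = m := by
      have h2 := hYcard
      rw [hm.2] at h2
      omega
    rw [this]; exact hm.1
  obtain ⟨f3, hf3⟩ := N.exists_signHom qone (fun a ha => (q4 a ha).1) (fun a ha b hb => (q5 a ha b hb).1)
    Y co3 (fun a ha b hb => (q5 a ha b hb).2)
  haveI : (P8.subgroupOf Y).FiniteIndex := inferInstance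
  set ψ := f3.transfer with hψ
  have hinY : ∀ a ∈ p8List, φ a ∈ Y := fun a ha => hP8Y ⟨a, ha, rfl⟩
  have hψu : ψ ⟨φ uM, hinY _ qu⟩ = -1 := by
    refine transfer_invol f3 (Subtype.ext ?_) hodd8 (Int.units_mul_self _) fun g hg => ?_
    · show φ uM * φ uM = 1
      exact N.toFz.sq_W (N.toFz.mem_W.2 (loc_facts.1 uM (by simp)))
    · obtain ⟨b, hb, e⟩ := mem_subgroupOf.1 hg
      refine (hf3 b hb (⟨_, hg⟩ : P8.subgroupOf Y) e.symm).trans ?_
      rw [hconju g (hYX g.2) b e.symm, cu3]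
      rfl
  have hψd : ψ ⟨L.d, hdY⟩ = 1 := by
    have h : ψ ⟨L.d, hdY⟩ * ψ ⟨L.d, hdY⟩ * ψ ⟨L.d, hdY⟩ = 1 := by
      rw [← map_mul, ← map_mul, ← map_one ψ]; exact congrArg ψ (Subtype.ext L.d3)
    rwa [Int.units_mul_self, one_mul] at h
  have hψ1 : ψ ⟨φ v2M, hinY _ qv2⟩ = ψ ⟨φ usM, hinY _ qus⟩ := by
    have e : (⟨φ v2M, hinY _ qv2⟩ : Y) = ⟨L.d, hdY⟩ * ⟨φ usM, hinY _ qus⟩ * ⟨L.d, hdY⟩⁻¹ :=
      Subtype.ext L.dus.symm
    rw [e, map_mul, map_mul, map_inv, hψd, one_mul, inv_one, mul_one]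
  have hψ2 : ψ ⟨φ usM, hinY _ qus⟩ = 1 := by
    have e : (⟨φ usM, hinY _ qus⟩ : Y) * ⟨φ v2M, hinY _ qv2⟩ =
        ⟨L.d, hdY⟩ * ⟨φ v2M, hinY _ qv2⟩ * ⟨L.d, hdY⟩⁻¹ :=
      Subtype.ext ((N.toCd.mul _ _).trans L.dv2.symm)
    have e2 := congrArg ψ e
    rw [map_mul, map_mul, map_mul, map_inv, hψd, one_mul, inv_one, mul_one, hψ1] at e2
    exact mul_eq_right.1 e2
  have hψp : ∀ a (ha : a ∈ p8List), ψ ⟨φ a, hinY a ha⟩ = if co3 a then -1 else 1 := by
    have key : ∀ a ∈ p8List, ∃ x ∈ [oneM, uM], ∃ y ∈ [oneM, usM], ∃ z ∈ [oneM, v2M],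
        mm true false x (mm true false y z) = a ∧ co3 a = (x == uM) := by decide +kernel
    intro a ha
    obtain ⟨x, hx, y, hy, z, hz, e, hc⟩ := key a ha
    have hx' : x ∈ p8List ∧ (∀ h, ψ ⟨φ x, h⟩ = if x == uM then -1 else 1) := by
      simp only [List.mem_cons, List.not_mem_nil, or_false] at hx
      rcases hx with rfl | rfl
      · refine ⟨qone, fun h => ?_⟩
        rw [show (oneM == uM) = false by decide +kernel]
        exact (congrArg ψ (Subtype.ext N.toCd.map_one)).trans (map_one ψ)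
      · refine ⟨qu, fun h => ?_⟩
        simpa using hψu
    have hy' : y ∈ p8List ∧ ∀ h, ψ ⟨φ y, h⟩ = 1 := by
      simp only [List.mem_cons, List.not_mem_nil, or_false] at hy
      rcases hy with rfl | rfl
      · exact ⟨qone, fun h => (congrArg ψ (Subtype.ext N.toCd.map_one)).trans (map_one ψ)⟩
      · exact ⟨qus, fun h => hψ2⟩
    have hz' : z ∈ p8List ∧ ∀ h, ψ ⟨φ z, h⟩ = 1 := by
      simp only [List.mem_cons, List.not_mem_nil, or_false] at hz
      rcases hz with rfl | rfl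
      · exact ⟨qone, fun h => (congrArg ψ (Subtype.ext N.toCd.map_one)).trans (map_one ψ)⟩
      · exact ⟨qv2, fun h => hψ1.trans hψ2⟩
    have e' : (⟨φ a, hinY a ha⟩ : Y) =
        ⟨φ x, hinY x hx'.1⟩ * (⟨φ y, hinY y hy'.1⟩ * ⟨φ z, hinY z hz'.1⟩) :=
      Subtype.ext (by
        show φ a = φ x * (φ y * φ z)
        rw [N.toCd.mul, N.toCd.mul, e])
    rw [e', map_mul, map_mul, hx'.2, hy'.2, hz'.2, mul_one, mul_one, hc]
  set K := ψ.ker.map Y.subtype with hK
  have hKY : K ≤ Y := map_subtype_le _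
  have hKcard : 2 * Nat.card K = Nat.card Y := by
    have hsurj : Function.Surjective ψ := fun p => by
      rcases Int.units_eq_one_or p with rfl | rfl
      exacts [⟨1, map_one ψ⟩, ⟨_, hψu⟩]
    rw [hK, card_map_of_injective Y.subtype_injective, ← ψ.ker.card_mul_index, index_ker,
      MonoidHom.range_eq_top.2 hsurj, card_top, mul_comm]
    simp
  have hKt : ∀ a ∈ t32, φ a ∈ K ↔ a ∈ vpList := by
    intro a ha
    rw [← q6 a ha]
    constructor
    · intro h
      obtain ⟨h1, h2⟩ := (hYmem a ha).1 (hKY h)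
      refine ⟨h1, h2, ?_⟩
      have hap : a ∈ p8List := List.mem_filter.2 ⟨ha, by simp [h1, h2]⟩
      obtain ⟨y, hy, e⟩ := h
      obtain rfl : y = ⟨φ a, hinY a hap⟩ := Subtype.ext e
      rw [SetLike.mem_coe, MonoidHom.mem_ker, hψp a hap] at hy
      cases h3 : co3 a
      · rfl
      · rw [h3] at hy; exact absurd hy (by decide)
    · rintro ⟨h1, h2, h3⟩
      have hap : a ∈ p8List := List.mem_filter.2 ⟨ha, by simp [h1, h2]⟩
      refine ⟨⟨φ a, hinY a hap⟩, ?_, rfl⟩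
      rw [SetLike.mem_coe, MonoidHom.mem_ker, hψp a hap, h3]
      simp
  have hdK : L.d ∈ K := ⟨⟨L.d, hdY⟩, hψd, rfl⟩
  have hK4 : Nat.card K = 4 * m := by
    have := hYcard; have := hKcard; have := hm.2
    omega
  have hVK : ∀ b ∈ vpList, φ b ∈ K := by
    intro b hb
    exact (hKt b (t6 b (List.contains_iff_mem.1 (vp_facts b hb).1))).2 hb
  -- `K` is generated by its elements of odd order
  set K' := closure {g : G | g ∈ K ∧ Odd (orderOf g)} with hK'
  have hK'le : K' ≤ K := (closure_le _).2 fun g hg => hg.1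
  have hnormX : ∀ g ∈ X, ∀ x ∈ K', g * x * g⁻¹ ∈ K' := by
    intro g hg x hx
    have hYn : ∀ y ∈ Y, g * y * g⁻¹ ∈ Y := hYn0 g hg
    induction hx using closure_induction with
    | mem y hy =>
      obtain ⟨hyK, hyo⟩ := hy
      refine subset_closure ⟨?_, ?_⟩
      · refine ⟨⟨g * y * g⁻¹, hYn y (hKY hyK)⟩, ?_, rfl⟩
        rw [SetLike.mem_coe, MonoidHom.mem_ker]
        set z : Y := ⟨g * y * g⁻¹, hYn y (hKY hyK)⟩
        have ho : Odd (orderOf z) := by
          rw [← Subgroup.orderOf_coe]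
          show Odd (orderOf (g * y * g⁻¹))
          rwa [show g * y * g⁻¹ = MulAut.conj g y from rfl, MulEquiv.orderOf_eq]
        rcases Int.units_eq_one_or (ψ z) with e | e
        · exact e
        · have h := orderOf_map_dvd ψ z
          rw [e, show orderOf (-1 : ℤˣ) = 2 from orderOf_eq_prime (by simp) (by decide)] at h
          obtain ⟨k, hk⟩ := ho
          omega
      · show Odd (orderOf (g * y * g⁻¹))
        rwa [show g * y * g⁻¹ = MulAut.conj g y from rfl, MulEquiv.orderOf_eq]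
    | one => rw [mul_one, mul_inv_cancel]; exact one_mem _
    | mul y z _ _ hy hz =>
      rw [show g * (y * z) * g⁻¹ = (g * y * g⁻¹) * (g * z * g⁻¹) by group]
      exact mul_mem hy hz
    | inv y _ hy =>
      rw [show g * y⁻¹ * g⁻¹ = (g * y * g⁻¹)⁻¹ by group]
      exact inv_mem hy
  have hdK' : L.d ∈ K' := subset_closure ⟨hdK, by
    have h : orderOf L.d ∣ 3 := orderOf_dvd_of_pow_eq_one (by
      rw [pow_succ, pow_two, L.d3])
    rcases (Nat.dvd_prime (by norm_num)).1 h with e | e <;> rw [e] <;> decide⟩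
  have hVK' : ∀ b ∈ vpList, φ b ∈ K' := by
    have hc : ∀ b, φ b ∈ X → φ b * L.d * (φ b)⁻¹ * L.d⁻¹ ∈ K' := fun b hb =>
      mul_mem (hnormX _ hb _ hdK') (inv_mem hdK')
    have e1 : φ usM * L.d * (φ usM)⁻¹ * L.d⁻¹ = φ (mm true false usM v2M) := by
      rw [← N.toCd.mul, N.inW_inv (loc_facts.1 usM (by simp))]
      calc φ usM * L.d * φ usM * L.d⁻¹ = φ usM * (L.d * φ usM * L.d⁻¹) := by group
        _ = _ := by rw [L.dus]
    have e2 : φ v2M * L.d * (φ v2M)⁻¹ * L.d⁻¹ = φ usM := by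
      rw [N.inW_inv (loc_facts.1 v2M (by simp))]
      calc φ v2M * L.d * φ v2M * L.d⁻¹ = φ v2M * (L.d * φ v2M * L.d⁻¹) := by group
        _ = _ := by
          rw [L.dv2, N.toCd.mul]
          exact congrArg φ (by decide +kernel)
    have m1 : φ (mm true false usM v2M) ∈ K' := e1 ▸ hc usM (hinX _ tus)
    have m2 : φ usM ∈ K' := e2 ▸ hc v2M (hinX _ tv2)
    intro b hb
    simp only [vpList, List.mem_cons, List.not_mem_nil, or_false] at hb
    rcases hb with rfl | rfl | rfl | rfl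
    · rw [N.toCd.map_one]; exact one_mem _
    · exact m2
    · have := K'.mul_mem m2 m1
      rw [N.toCd.mul, show mm true false usM (mm true false usM v2M) = v2M by decide +kernel] at this
      exact this
    · exact m1
  have hKK : K' = K := by
    refine le_antisymm hK'le fun g hg => ?_
    have hV : Nat.card (listSub N vpList (by decide +kernel) (by decide +kernel) (by decide +kernel)) = 4 :=
      (N.card_listSub _ _ _ (by decide +kernel)).trans rfl
    have hdvd : 4 ∣ Nat.card K' := hV ▸ card_dvd_of_le (by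
      rintro _ ⟨b, hb, rfl⟩; exact hVK' b hb)
    haveI : (K'.subgroupOf K).Normal := ⟨fun x hx y => mem_subgroupOf.2 (hnormX _
      (hYX (hKY y.2)) _ (mem_subgroupOf.1 hx))⟩
    have hodd : Odd (K'.subgroupOf K).index := by
      have h := (K'.subgroupOf K).card_mul_index
      rw [Nat.card_congr (subgroupOfEquivOfLe hK'le).toEquiv, hK4] at h
      obtain ⟨j, hj⟩ := hdvd
      rw [hj, mul_assoc] at h
      exact hm.1.of_dvd_nat ⟨j, by rw [mul_comm]; omega⟩
    have hg4 : g ^ 4 ∈ K' := by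
      refine subset_closure ⟨pow_mem hg 4, ?_⟩
      have h1 : orderOf g ∣ 4 * m := by
        rw [← hK4, show g = ((⟨g, hg⟩ : K) : G) from rfl, Subgroup.orderOf_coe]
        exact orderOf_dvd_natCard _
      have h2 : orderOf (g ^ 4) ∣ m := by
        refine orderOf_dvd_of_pow_eq_one ?_
        rw [← pow_mul]
        exact orderOf_dvd_iff_pow_eq_one.1 h1
      exact hm.1.of_dvd_nat h2
    let q : K ⧸ K'.subgroupOf K := QuotientGroup.mk ⟨g, hg⟩
    have hq4 : q ^ 4 = 1 := (QuotientGroup.eq_one_iff _).2 (mem_subgroupOf.2 hg4)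
    have hqo : orderOf q = 1 := by
      refine Nat.eq_one_of_dvd_coprimes (a := 4) (b := (K'.subgroupOf K).index) ?_
        (orderOf_dvd_of_pow_eq_one hq4) (by rw [Subgroup.index]; exact orderOf_dvd_natCard q)
      rw [show (4 : ℕ) = 2 ^ 2 by norm_num]
      exact (Nat.Prime.coprime_iff_not_dvd Nat.prime_two).2 hodd.not_two_dvd_nat |>.pow_left 2
    exact mem_subgroupOf.1 ((QuotientGroup.eq_one_iff _).1 (orderOf_eq_one_iff.1 hqo))
  refine ⟨K, m, le_trans hKY hYX, hm.1, hm.2, hK4, hKt, hdK, fun g hg x hx => ?_⟩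
  rw [← hKK] at hx ⊢
  exact hnormX g hg x hx

/-- The structure of the centraliser of `uM`. -/
theorem exists_core : ∃ K : Subgroup G,
    (∀ x ∈ K, Commute x (φ uM)) ∧
    (∀ g, Commute g (φ uM) → ∀ x ∈ K, g * x * g⁻¹ ∈ K) ∧
    (∀ a ∈ t32, φ a ∈ K ↔ a ∈ vpList) ∧ L.d ∈ K ∧
    (∀ g, Commute g (φ uM) → ∃ k ∈ K, ∃ a ∈ dList, k * φ a = g) ∧
    Nat.card (centralizer ({φ uM} : Set G)) = 8 * Nat.card K ∧
    (∀ k ∈ K, Commute k (φ usM) → ∃ a ∈ vpList, φ a = k) ∧
    (Nat.card K = 12 ∨ Nat.card K = 60) := by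
  classical
  haveI := Fact.mk Nat.prime_two
  set X := centralizer ({φ uM} : Set G) with hX
  have hXmem : ∀ {g : G}, g ∈ X ↔ Commute g (φ uM) := fun {g} => N.mem_X
  have hcentsu := N.cent_su
  obtain ⟨K, m, hKX, hm1, hm2, hK4, hKt, hdK, hKn⟩ := L.exists_normal
  have hm : Odd m ∧ Nat.card X = 32 * m := ⟨hm1, hm2⟩
  have hinX : ∀ a ∈ t32, φ a ∈ X := fun a ha => N.t32_mem ha
  have hVK : ∀ b ∈ vpList, φ b ∈ K := fun b hb =>
    (hKt b (t32_facts.2.2.2.2.2 b (List.contains_iff_mem.1 (vp_facts b hb).1))).2 hb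
  have hcus : ∀ k ∈ K, Commute k (φ usM) → ∃ a ∈ vpList, φ a = k := by
    intro k hk hku
    have hu : Commute k (φ uM) := hXmem.1 (hKX hk)
    have hs : Commute k s := by
      rw [← N.toCd.map_cs, ← cent_us.2.2, ← N.toCd.mul]
      exact hu.mul_right hku
    obtain ⟨a, ha, rfl⟩ := hcentsu k hu hs
    exact ⟨a, (hKt a ha).1 hk, rfl⟩
  have hsplit : ∀ g, Commute g (φ uM) → ∃ k ∈ K, ∃ a ∈ dList, k * φ a = g := by
    let F : K × {a // a ∈ dList} → X := fun p => ⟨p.1 * φ p.2.1,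
      X.mul_mem (hKX p.1.2) (hinX _ (d_list.2.2.2.1 _ p.2.2).1)⟩
    have hF : Function.Injective F := by
      rintro ⟨k, a, ha⟩ ⟨k', a', ha'⟩ h
      have h' : (k : G) * φ a = k' * φ a' := congrArg Subtype.val h
      obtain ⟨-, -, -, hd4, hd5, hd6⟩ := d_list
      have hq : φ (mm true false a (minv true false a')) ∈ K := by
        rw [← N.toCd.mul, N.toCd.map_inv,
          show φ a * (φ a')⁻¹ = (k : G)⁻¹ * k' by
            rw [mul_inv_eq_iff_eq_mul, eq_comm, mul_assoc, ← h', inv_mul_cancel_left]]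
        exact mul_mem (inv_mem k.2) k'.2
      have hmem := hd5 a ha _ (hd4 a' ha').2
      have e := hd6 _ hmem ((hKt _ (hd4 _ hmem).1).1 hq)
      have ea : a = a' := N.toCd.inj (by
        have := congrArg φ e
        rw [← N.toCd.mul, N.toCd.map_inv, N.toCd.map_one] at this
        exact mul_inv_eq_one.1 this)
      subst ea
      simp only [mul_left_inj] at h'
      exact Prod.ext (Subtype.ext h') rfl
    have hbij : Function.Bijective F := hF.bijective_of_nat_card_le (by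
      rw [Nat.card_prod, Nat.subtype_card dList.toFinset (fun _ => List.mem_toFinset),
        List.toFinset_card_of_nodup d_list.1, d_list.2.1, hK4, hm.2]
      omega)
    intro g hg
    obtain ⟨⟨k, a, ha⟩, e⟩ := hbij.2 ⟨g, hXmem.2 hg⟩
    exact ⟨k, k.2, a, ha, congrArg Subtype.val e⟩
  refine ⟨K, fun x hx => hXmem.1 (hKX hx), fun g hg x hx => hKn g (hXmem.2 hg) x hx, hKt, hdK,
    hsplit, ?_, hcus, ?_⟩
  · rw [hK4, hm.2]; ring
  -- the order
  let V : Subgroup K := (listSub N vpList (by decide +kernel) (by decide +kernel) (by decide +kernel)).subgroupOf K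
  have hVle : listSub N vpList (by decide +kernel) (by decide +kernel) (by decide +kernel) ≤ K := by
    rintro _ ⟨b, hb, rfl⟩; exact hVK b hb
  have hVc : Nat.card V = 4 := by
    rw [Nat.card_congr (subgroupOfEquivOfLe hVle).toEquiv]
    exact (N.card_listSub _ _ _ (by decide +kernel)).trans rfl
  have hVmem : ∀ {x : K}, x ∈ V ↔ ∃ b ∈ vpList, φ b = (x : G) := fun {x} => mem_subgroupOf
  have hsq : ∀ x ∈ V, x * x = 1 := by
    intro x hx
    obtain ⟨b, hb, e⟩ := hVmem.1 hx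
    refine Subtype.ext ?_
    show (x : G) * x = 1
    rw [← e]; exact N.toFz.sq_W (N.toFz.mem_W.2 (vp_facts b hb).1)
  have h8 : ¬ 8 ∣ Nat.card K := by
    rw [hK4]
    rintro ⟨j, hj⟩
    obtain ⟨i, hi⟩ := hm.1
    omega
  have hcent : ∀ x ∈ V, x ≠ 1 → centralizer ({x} : Set K) = V := by
    intro x hx hx1
    obtain ⟨b, hb, e⟩ := hVmem.1 hx
    refine le_antisymm (fun y hy => ?_) (fun y hy => ?_)
    · have hyx : Commute (y : G) (φ b) := by
        rw [e]; exact congrArg Subtype.val (mem_centralizer_singleton_iff.1 hy)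
      obtain ⟨hbW, -, -⟩ := vp_facts b hb
      -- reduce to `usM`
      have hcase : ∀ (h : G), h ∈ K → h * φ usM * h⁻¹ = φ b →
          (∀ v ∈ vpList, ∃ v' ∈ vpList, h * φ v * h⁻¹ = φ v') → y ∈ V := by
        intro h hh he hperm
        obtain ⟨v, hv, ev⟩ := hcus (h⁻¹ * y * h) (mul_mem (mul_mem (inv_mem hh) y.2) hh) (by
          show h⁻¹ * y * h * φ usM = φ usM * (h⁻¹ * y * h)
          calc h⁻¹ * y * h * φ usM = h⁻¹ * (y * (h * φ usM * h⁻¹)) * h := by group
            _ = h⁻¹ * (h * φ usM * h⁻¹ * y) * h := by rw [he, hyx.eq]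
            _ = _ := by group)
        obtain ⟨v', hv', ev'⟩ := hperm v hv
        refine hVmem.2 ⟨v', hv', ?_⟩
        rw [← ev', ev]; group
      have hact : ∀ v ∈ vpList, ∃ v' ∈ vpList, L.d * φ v * L.d⁻¹ = φ v' := by
        intro v hv
        have hvv : ∀ v ∈ vpList, dW v ∈ vpList := by decide +kernel
        exact ⟨dW v, hvv v hv, L.act (vp_facts v hv).1⟩
      simp only [vpList, List.mem_cons, List.not_mem_nil, or_false] at hb
      rcases hb with rfl | rfl | rfl | rfl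
      · exact absurd (Subtype.ext (by rw [← e, N.toCd.map_one]; rfl)) hx1
      · exact hcase 1 (one_mem _) (by group) fun v hv => ⟨v, hv, by group⟩
      · exact hcase L.d hdK L.dus hact
      · refine hcase (L.d * L.d) (mul_mem hdK hdK) ?_ fun v hv => ?_
        · calc L.d * L.d * φ usM * (L.d * L.d)⁻¹ = L.d * (L.d * φ usM * L.d⁻¹) * L.d⁻¹ := by group
            _ = _ := by rw [L.dus, L.dv2]
        · obtain ⟨v1, hv1, h1⟩ := hact v hv
          obtain ⟨v2, hv2, h2⟩ := hact v1 hv1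
          exact ⟨v2, hv2, by rw [← h2, ← h1]; group⟩
    · obtain ⟨b', hb', e'⟩ := hVmem.1 hy
      refine mem_centralizer_singleton_iff.2 (Subtype.ext ?_)
      show (y : G) * x = x * y
      rw [← e, ← e']
      exact (N.toFz.comm_W (N.toFz.mem_W.2 (vp_facts b' hb').1) (N.toFz.mem_W.2 (vp_facts b hb).1)).eq
  rcases TwelveCent.klein_cases hVc hsq h8 hcent with ⟨h, -⟩ | ⟨h, -⟩ | ⟨h, -⟩
  · exfalso
    have hd : orderOf (⟨L.d, hdK⟩ : K) ∣ Nat.gcd 4 3 := Nat.dvd_gcd (h ▸ orderOf_dvd_natCard _)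
      (orderOf_dvd_of_pow_eq_one (Subtype.ext (by
        show L.d ^ 3 = 1
        rw [pow_succ, pow_two, L.d3])))
    have hd0 : (⟨L.d, hdK⟩ : K) = 1 :=
      orderOf_eq_one_iff.1 (Nat.dvd_one.1 (by simpa using hd))
    have hd1 : L.d = 1 := congrArg Subtype.val hd0
    have := L.dus
    rw [hd1, one_mul, inv_one, mul_one] at this
    exact absurd (N.toCd.inj this) (by decide +kernel)
  · exact Or.inl h
  · exact Or.inr h

end Loc

end Cfsg.Agent.SymThirtyTwo

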