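import Cfsg.Agent.Lib.SymThirtyTwo.Local
import Cfsg.Agent.Lib.SymThirtyTwo.TransferSign

/-
The Sylow subgroup of the centraliser of an unfused involution and its fusion (helper22).

* `Nm.isConj_u` : an unfused involution is conjugate to `uM`
* `Nm.p32` : a Sylow subgroup of the centraliser of `uM`
-/

set_option autoImplicit false
set_option synthInstance.maxSize 4096
set_option maxRecDepth 100000

open Subgroup

namespace Cfsg.Agent.SymThirtyTwo

/-- The Sylow subgroup of the centraliser of `uM`. -/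
def t32 : List M := all.filter fun a => inT a && cjg true a uM == uM

def lin5 (c : Bool × Bool × Bool × Bool × Bool) : M :=
  mm true false (mm true false (bpM tauM c.1) (bpM vM c.2.1))
    (mm true false (bpM uM c.2.2.1) (mm true false (bpM usM c.2.2.2.1) (bpM v2M c.2.2.2.2)))

def combos5 : List (Bool × Bool × Bool × Bool × Bool) :=
  bools.flatMap fun a => combos.map fun c => (a, c)

def co (a : M) : Bool × Bool × Bool × Bool × Bool :=
  (combos5.find? fun c => lin5 c == a).getD (false, false, false, false, false)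

def co1 (a : M) : Bool := (co a).1
def co2 (a : M) : Bool := (co a).2.1
def co3 (a : M) : Bool := (co a).2.2.1

def p8List : List M := t32.filter fun a => !co1 a && !co2 a

/-- The complement. -/
def dList : List M := t32.filter fun a => !(co a).2.2.2.1 && !(co a).2.2.2.2

theorem t32_facts : t32.Nodup ∧ t32.length = 32 ∧ (oneM ∈ t32 ∧ tauM ∈ t32 ∧ vM ∈ t32 ∧ uM ∈ t32 ∧
    usM ∈ t32 ∧ v2M ∈ t32) ∧
    (∀ a ∈ t32, lin5 (co a) = a ∧ minv true false a ∈ t32) ∧
    (∀ a ∈ t32, ∀ b ∈ t32, mm true false a b ∈ t32 ∧ co1 (mm true false a b) = (co1 a ^^ co1 b) ∧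
      co2 (mm true false a b) = (co2 a ^^ co2 b)) ∧
    (∀ a ∈ wList, a ∈ t32) := by decide +kernel

theorem p8_facts : p8List.Nodup ∧ p8List.length = 8 ∧ (oneM ∈ p8List ∧ uM ∈ p8List ∧
    usM ∈ p8List ∧ v2M ∈ p8List) ∧
    (∀ a ∈ p8List, minv true false a ∈ p8List ∧ a ∈ t32) ∧
    (∀ a ∈ p8List, ∀ b ∈ p8List, mm true false a b ∈ p8List ∧
      co3 (mm true false a b) = (co3 a ^^ co3 b)) ∧
    (∀ a ∈ t32, (co1 a = false ∧ co2 a = false ∧ co3 a = false) ↔ a ∈ vpList) := by decide +kernel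

theorem d_list : dList.Nodup ∧ dList.length = 8 ∧ oneM ∈ dList ∧
    (∀ a ∈ dList, a ∈ t32 ∧ minv true false a ∈ dList) ∧
    (∀ a ∈ dList, ∀ b ∈ dList, mm true false a b ∈ dList) ∧
    (∀ a ∈ dList, a ∈ vpList → a = oneM) := by decide +kernel

theorem co_values : co1 tauM = true ∧ co2 tauM = false ∧ co1 vM = false ∧ co2 vM = true ∧
    co1 uM = false ∧ co2 uM = false ∧ co3 uM = true ∧ co1 usM = false ∧ co2 usM = false ∧
    co3 usM = false ∧ co1 v2M = false ∧ co2 v2M = false ∧ co3 v2M = false ∧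
    (∀ a ∈ t32, isInv true false a = true → inW a = false →
      co1 a = true ∧ co2 a = false ∧ ∃ g ∈ t32, cjg true g tauM = a) ∧
    (∀ a ∈ t32, inW a = true → co1 a = false) := by decide +kernel

theorem tau_cent : inW tauM = false ∧
    (∀ a ∈ t32, mm true false a tauM = mm true false tauM a →
      flagSet fNorm a = true → a = cs) ∧
    (all.filter fun a => inT a && cjg true a uM == uM &&
      mm true false a tauM == mm true false tauM a).length = 8 ∧ cs ∈ t32 ∧
      mm true false cs tauM = mm true false tauM cs ∧ flagSet fNorm cs = true ∧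
    (∀ a ∈ all, cjg true a uM = uM → inT a = true) := by decide +kernel

theorem unfused_cls : ∀ a ∈ all, isInv true false a = true → flagSet fNorm a = false →
    clsIdx a = 3 ∨ clsIdx a = 5 := by decide +kernel

theorem cent_us : usM ∈ t32 ∧ (∀ a ∈ t32, a ∈ vpList ∨ co1 a || co2 a || co3 a) ∧
    mm true false uM usM = cs := by decide +kernel

/-- A list closed under products and inverses as a subgroup. -/
def listSub {G : Type*} [Group G] {s : G} (N : Nm s) (l : List M) (h1 : oneM ∈ l)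
    (hi : ∀ a ∈ l, minv true false a ∈ l) (hm : ∀ a ∈ l, ∀ b ∈ l, mm true false a b ∈ l) :
    Subgroup G where
  carrier := {g | ∃ a ∈ l, N.φ a = g}
  mul_mem' := by
    rintro _ _ ⟨a, ha, rfl⟩ ⟨b, hb, rfl⟩
    exact ⟨_, hm a ha b hb, (N.toCd.mul a b).symm⟩
  one_mem' := ⟨oneM, h1, N.toCd.map_one⟩
  inv_mem' := by
    rintro _ ⟨a, ha, rfl⟩
    exact ⟨_, hi a ha, N.toCd.map_inv a⟩

namespace Nm

variable {G : Type*} [Group G] {s : G} (N : Nm s)

local notation "φ" => N.toCd.φ

include N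

theorem card_listSub {l : List M} (h1 : oneM ∈ l) (hi : ∀ a ∈ l, minv true false a ∈ l)
    (hm : ∀ a ∈ l, ∀ b ∈ l, mm true false a b ∈ l) (hnd : l.Nodup) :
    Nat.card (listSub N l h1 hi hm) = l.length := by
  classical
  let f : {a // a ∈ l} → listSub N l h1 hi hm := fun a => ⟨φ a, a.1, a.2, rfl⟩
  have hf : Function.Bijective f :=
    ⟨fun a b h => Subtype.ext (N.toCd.inj (congrArg Subtype.val h)),
      fun ⟨g, a, ha, e⟩ => ⟨⟨a, ha⟩, Subtype.ext e⟩⟩
  rw [← Nat.card_eq_of_bijective f hf, Nat.subtype_card l.toFinset (fun _ => List.mem_toFinset),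
    List.toFinset_card_of_nodup hnd]

/-- An additive flag gives a sign. -/
theorem exists_signHom {l : List M} (h1 : oneM ∈ l) (hi : ∀ a ∈ l, minv true false a ∈ l)
    (hm : ∀ a ∈ l, ∀ b ∈ l, mm true false a b ∈ l) (Y : Subgroup G) (c : M → Bool)
    (hc : ∀ a ∈ l, ∀ b ∈ l, c (mm true false a b) = (c a ^^ c b)) :
    ∃ f : ((listSub N l h1 hi hm).subgroupOf Y) →* ℤˣ, ∀ a ∈ l,
      ∀ p : (listSub N l h1 hi hm).subgroupOf Y,
      ((p : Y) : G) = φ a → f p = if c a then -1 else 1 := by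
  classical
  haveI : Inhabited M := ⟨oneM⟩
  have hex : ∀ p : (listSub N l h1 hi hm).subgroupOf Y, ∃ a ∈ l, φ a = ((p : Y) : G) :=
    fun p => mem_subgroupOf.1 p.2
  choose g hg using hex
  refine ⟨MonoidHom.mk' (fun p => if c (g p) then -1 else 1) fun p q => ?_, fun a ha p hp => ?_⟩
  · have e : g (p * q) = mm true false (g p) (g q) := N.toCd.inj (by
      rw [← N.toCd.mul, (hg _).2, (hg p).2, (hg q).2]; rfl)
    show (if c (g (p * q)) then (-1 : ℤˣ) else 1) = _
    rw [e, hc _ (hg p).1 _ (hg q).1]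
    cases c (g p) <;> cases c (g q) <;> simp
  · show (if c (g p) then (-1 : ℤˣ) else 1) = _
    rw [N.toCd.inj ((hg p).2.trans hp)]

theorem isInv_of_order {a : M} (h2 : φ a * φ a = 1) (h1 : φ a ≠ 1) : isInv true false a = true := by
  simp only [isInv, Bool.and_eq_true, beq_iff_eq, bne_iff_ne]
  exact ⟨N.toCd.inj (by rw [← N.toCd.mul, h2, N.toCd.map_one]),
    fun e => h1 (by rw [e, N.toCd.map_one])⟩

variable [Finite G]

theorem not_conj : ¬ IsConj s (φ uM) := fun h => by
  have := (N.flags uM).2 h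
  exact absurd this (by decide +kernel)

/-- An unfused involution of the centraliser of `s` is conjugate to `uM`. -/
theorem isConj_u {a : M} (hI : isInv true false a = true) (hf : flagSet fNorm a = false) :
    IsConj (φ uM) (φ a) := by
  have key : ∀ b : M, isInv true false b = true → flagSet fNorm b = false →
      IsConj (φ (repE 2)) (φ b) := by
    intro b hb hbf
    rcases unfused_cls b (mem_all b) hb hbf with e | e
    · have := N.toFz.isConj_cls hb
      rwa [e] at this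
    · obtain ⟨l, hl⟩ := N.toFz.outside 0 N.fused true
      have h1 := N.toFz.isConj_cls hb
      rw [e] at h1
      have h3 : ∀ i : Fin 3, i = 0 ∨ i = 1 ∨ i = 2 := by decide
      obtain rfl | rfl | rfl := h3 l
      · exact absurd ((N.flags _).2 (((N.flags _).1 (by decide +kernel)).trans hl)) (by decide +kernel)
      · exact absurd ((N.flags _).2 (((N.flags _).1 (by decide +kernel)).trans hl)) (by decide +kernel)
      · exact hl.trans h1
  exact (key uM (by decide +kernel) (by decide +kernel)).symm.trans (key a hI hf)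

/-- There are two classes of involutions. -/
theorem two_classes {t : G} (ht : orderOf t = 2) : IsConj s t ∨ IsConj (φ uM) t := by
  have ht2 : t * t = 1 := by rw [← pow_two, ← ht, pow_orderOf_eq_one]
  have ht1 : t ≠ 1 := fun h => by rw [h, orderOf_one] at ht; omega
  obtain ⟨a, ha⟩ := N.toFz.invol_conj ht2
  obtain ⟨g, hg⟩ := isConj_iff.1 ha
  have hI : isInv true false a = true := N.isInv_of_order
    (by
      calc φ a * φ a = g⁻¹ * (g * φ a * g⁻¹ * (g * φ a * g⁻¹)) * g := by group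
        _ = 1 := by rw [hg, ht2]; group)
    (fun e => ht1 (by rw [← hg, e]; group))
  cases hf : flagSet fNorm a
  · exact Or.inr ((N.isConj_u hI hf).trans ha)
  · exact Or.inl (((N.flags a).1 hf).trans ha)

/-- The subgroup `W` controls fusion inside the centraliser of `uM`. -/
theorem conj_wu {x g : G} (hx : x ∈ N.toFz.W) (hy : g * x * g⁻¹ ∈ N.toFz.W)
    (hgu : g * φ uM * g⁻¹ = φ uM) :
    ∃ n ∈ normalizer (N.toFz.W : Set G), n * φ uM * n⁻¹ = φ uM ∧ n * x * n⁻¹ = g * x * g⁻¹ := by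
  haveI := Fact.mk Nat.prime_two
  set y := g * x * g⁻¹ with hydef
  have hU : φ uM ∈ N.toFz.W := N.toFz.mem_W.2 (loc_facts.1 uM (by simp))
  set C := centralizer ({y, φ uM} : Set G) with hC
  set W' := N.toFz.W.map (MulAut.conj g).toMonoidHom with hW'
  have hcC : ∀ {z : G}, z ∈ C ↔ z * y = y * z ∧ z * φ uM = φ uM * z := by
    intro z
    rw [hC, mem_centralizer_iff]
    constructor
    · intro h; exact ⟨(h y (by simp)).symm, (h _ (by simp)).symm⟩
    · rintro ⟨h1, h2⟩ w hw
      simp only [Set.mem_insert_iff, Set.mem_singleton_iff] at hw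
      rcases hw with rfl | rfl
      exacts [h1.symm, h2.symm]
  have h1 : N.toFz.W ≤ C := fun w hw =>
    hcC.2 ⟨(N.toFz.comm_W hw hy).eq, (N.toFz.comm_W hw hU).eq⟩
  have h2 : W' ≤ C := by
    rintro _ ⟨w, hw, rfl⟩
    refine hcC.2 ⟨?_, ?_⟩
    · show g * w * g⁻¹ * (g * x * g⁻¹) = g * x * g⁻¹ * (g * w * g⁻¹)
      calc g * w * g⁻¹ * (g * x * g⁻¹) = g * (w * x) * g⁻¹ := by group
        _ = g * (x * w) * g⁻¹ := by rw [(N.toFz.comm_W hw hx).eq]
        _ = _ := by group
    · show g * w * g⁻¹ * φ uM = φ uM * (g * w * g⁻¹)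
      conv_lhs => rw [← hgu]
      conv_rhs => rw [← hgu]
      calc g * w * g⁻¹ * (g * φ uM * g⁻¹) = g * (w * φ uM) * g⁻¹ := by group
        _ = g * (φ uM * w) * g⁻¹ := by rw [(N.toFz.comm_W hw hU).eq]
        _ = _ := by group
  have hc' : Nat.card W' = 16 :=
    (card_map_of_injective (MulAut.conj g).injective).trans N.toFz.card_W
  have hp : ∀ A : Subgroup G, Nat.card A = 16 → IsPGroup 2 (A.subgroupOf C) := fun A hA =>
    (IsPGroup.of_card (n := 4) (hA.trans (by norm_num))).comap_subtype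
  obtain ⟨P1, hP1⟩ := (hp _ N.toFz.card_W).exists_le_sylow
  obtain ⟨P2, hP2⟩ := (hp _ hc').exists_le_sylow
  obtain ⟨c, hc⟩ := MulAction.exists_smul_eq C P2 P1
  set W'' := W'.map (MulAut.conj (c : G)).toMonoidHom with hW''
  have hle1 : N.toFz.W ≤ (P1 : Subgroup C).map C.subtype := fun w hw =>
    ⟨⟨w, h1 hw⟩, hP1 hw, rfl⟩
  have hle2 : W'' ≤ (P1 : Subgroup C).map C.subtype := by
    rintro _ ⟨w, hw, rfl⟩
    refine ⟨c * ⟨w, h2 hw⟩ * c⁻¹, ?_, rfl⟩
    rw [← hc, Sylow.coe_subgroup_smul]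
    exact ⟨⟨w, h2 hw⟩, hP2 hw, rfl⟩
  have heq : W'' = N.toFz.W := N.toFz.w_eq_of_le (P1.2.map C.subtype) hle2 hle1
    ((card_map_of_injective (MulAut.conj (c : G)).injective).trans hc') N.toFz.card_W
    (by
      rintro _ ⟨_, ⟨w, hw, rfl⟩, rfl⟩
      rw [← map_mul, ← map_mul, N.toFz.sq_W hw, map_one, map_one])
    (fun w hw => N.toFz.sq_W hw)
  obtain ⟨hcy, hcu⟩ := hcC.1 c.2
  refine ⟨(c : G) * g, mem_normalizer_fintype fun w hw => ?_, ?_, ?_⟩
  · have h : (c : G) * (g * w * g⁻¹) * (c : G)⁻¹ ∈ W'' := ⟨_, ⟨w, hw, rfl⟩, rfl⟩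
    rw [heq] at h
    show (c : G) * g * w * ((c : G) * g)⁻¹ ∈ N.toFz.W
    convert h using 1
    group
  · calc (c : G) * g * φ uM * ((c : G) * g)⁻¹ = (c : G) * (g * φ uM * g⁻¹) * (c : G)⁻¹ := by group
      _ = φ uM := by rw [hgu, hcu, mul_inv_cancel_right]
  · calc (c : G) * g * x * ((c : G) * g)⁻¹ = (c : G) * y * (c : G)⁻¹ := by rw [hydef]; group
      _ = y := by rw [hcy, mul_inv_cancel_right]

omit [Finite G] in
theorem mem_X {g : G} : g ∈ centralizer ({φ uM} : Set G) ↔ Commute g (φ uM) := by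
  rw [mem_centralizer_singleton_iff]; exact Iff.rfl

/-- The Sylow subgroup of the centraliser. -/
def p32 : Subgroup G :=
  listSub N t32 t32_facts.2.2.1.1 (fun a ha => (t32_facts.2.2.2.1 a ha).2)
    (fun a ha b hb => (t32_facts.2.2.2.2.1 a ha b hb).1)

omit [Finite G] in
theorem mem_p32 {g : G} : g ∈ N.p32 ↔ ∃ a ∈ t32, φ a = g := Iff.rfl

omit [Finite G] in
theorem card_p32 : Nat.card N.p32 = 32 := (N.card_listSub _ _ _ t32_facts.1).trans t32_facts.2.1

omit [Finite G] in
theorem t32_mem {a : M} (ha : a ∈ t32) : φ a ∈ centralizer ({φ uM} : Set G) := by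
  refine N.mem_X.2 (N.toCd.commute_iff.2 ?_)
  have h := (List.mem_filter.1 ha).2
  simp only [Bool.and_eq_true, beq_iff_eq] at h
  have := congrArg φ h.2
  rw [← N.conj_eq] at this
  exact N.toCd.inj (by rw [← N.toCd.mul, ← N.toCd.mul]; exact mul_inv_eq_iff_eq_mul.1 this)

omit [Finite G] in
theorem p32_le : N.p32 ≤ centralizer ({φ uM} : Set G) := by
  rintro _ ⟨a, ha, rfl⟩; exact N.t32_mem ha

omit [Finite G] in
theorem cent_su : ∀ g, Commute g (φ uM) → Commute g s → ∃ a ∈ t32, φ a = g := by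
    intro g hgu hgs
    obtain ⟨a, rfl⟩ := N.toCd.surj g hgs
    refine ⟨a, List.mem_filter.2 ⟨mem_all a, ?_⟩, rfl⟩
    have hc : cjg true a uM = uM := N.toCd.inj (by rw [← N.conj_eq, hgu.eq, mul_inv_cancel_right])
    simp only [tau_cent.2.2.2.2.2.2 a (mem_all a) hc, hc, beq_self_eq_true, Bool.and_self]

theorem odd_index : Odd (N.p32.subgroupOf (centralizer ({φ uM} : Set G))).index := by
  classical
  haveI := Fact.mk Nat.prime_two
  set X := centralizer ({φ uM} : Set G) with hX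
  have hXmem : ∀ {g : G}, g ∈ X ↔ Commute g (φ uM) := fun {g} => N.mem_X
  set P := N.p32 with hPdef
  have hPX : P ≤ X := N.p32_le
  have hPcard : Nat.card P = 32 := N.card_p32
  have hmax : ∀ R : Subgroup G, R ≤ X → IsPGroup 2 R → Nat.card R ≤ 32 := by
    intro R hRX hR
    by_contra hlt
    obtain ⟨S, hS, -⟩ := N.toFz.exists_sylow
    obtain ⟨R', hR'⟩ := hR.exists_le_sylow
    have hcardR' : Nat.card (R' : Subgroup G) = 64 := by
      rw [← N.toFz.card_T, ← hS]
      obtain ⟨g, hg⟩ := MulAction.exists_smul_eq G S R'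
      rw [← hg, Sylow.coe_subgroup_smul]
      exact Subgroup.card_map_of_injective (MulAut.conj g).injective
    obtain ⟨m, hm⟩ := IsPGroup.iff_card.1 hR
    have hm6 : Nat.card R = 64 := by
      have h := card_dvd_of_le hR'
      rw [hcardR', hm, show (64 : ℕ) = 2 ^ 6 by norm_num, Nat.pow_dvd_pow_iff_le_right (by norm_num)] at h
      rw [hm] at hlt ⊢
      have : 5 < m := by
        by_contra h5
        exact hlt (le_trans (Nat.pow_le_pow_right two_pos (not_lt.1 h5)) (by norm_num))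
      rw [show m = 6 by omega]
      norm_num
    have hRR : R = (R' : Subgroup G) := eq_of_le_of_card_ge hR' (by rw [hcardR', hm6])
    obtain ⟨g, hg⟩ := MulAction.exists_smul_eq G R' S
    have hc : ∀ b, inT b = true → Commute (g * φ uM * g⁻¹) (φ b) := by
      intro b hb
      have hbS : φ b ∈ (S : Subgroup G) := hS ▸ ⟨b, hb, rfl⟩
      rw [← hg, Sylow.coe_subgroup_smul] at hbS
      obtain ⟨r, hr, hrb⟩ := hbS
      have hru : Commute r (φ uM) := hXmem.1 (hRX (hRR ▸ hr))
      have hrb' : g * r * g⁻¹ = φ b := hrb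
      rw [← hrb']
      exact (SemiconjBy.conj_iff).2 hru.symm
    have hsC : Commute (g * φ uM * g⁻¹) s := by
      have := hc cs (by decide +kernel)
      rwa [N.toCd.map_cs] at this
    obtain ⟨a, ha⟩ := N.toCd.surj _ hsC
    rcases t_centre true (mem_bools _) a (mem_all a) (fun b _ hb => N.toCd.commute_iff.1 (ha ▸ hc b hb))
      with e | e
    · rw [e, N.toCd.map_one] at ha
      exact absurd (N.toCd.inj ((conj_eq_one_iff.1 ha.symm).trans N.toCd.map_one.symm)) (by decide +kernel)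
    · rw [e, N.toCd.map_cs] at ha
      exact N.not_conj (isConj_iff.2 ⟨g, ha.symm⟩).symm
  let PX : Subgroup X := P.subgroupOf X
  have hPXcard : Nat.card PX = 32 := by
    rw [Nat.card_congr (subgroupOfEquivOfLe hPX).toEquiv, hPcard]
  show Odd PX.index
  obtain ⟨R, hR⟩ := (IsPGroup.of_card (p := 2) (n := 5) (hPXcard.trans (by norm_num))).exists_le_sylow
  have hle := hmax ((R : Subgroup X).map X.subtype) (map_subtype_le _) (R.2.map X.subtype)
  rw [card_map_of_injective X.subtype_injective] at hle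
  have e : PX = R := eq_of_le_of_card_ge hR (by rw [hPXcard]; exact hle)
  rw [e, ← Nat.not_even_iff_odd, even_iff_two_dvd]
  exact R.not_dvd_index

theorem not_w : ∀ g, Commute g (φ uM) → g⁻¹ * φ tauM * g ∈ N.toFz.W → False := by
  classical
  haveI := Fact.mk Nat.prime_two
  obtain ⟨t1, t2, ⟨tone, ttau, tv, tu, tus, tv2⟩, t4, t5, t6⟩ := t32_facts
  set X := centralizer ({φ uM} : Set G) with hX
  have hXmem : ∀ {g : G}, g ∈ X ↔ Commute g (φ uM) := fun {g} => N.mem_X
  have hinX : ∀ a ∈ t32, φ a ∈ X := fun a ha => N.t32_mem ha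
  have hcentsu := N.cent_su
  intro g hgu hgW
  set w := g⁻¹ * φ tauM * g with hw
  let C := centralizer ({φ tauM, φ uM} : Set G)
  have hcC : ∀ {z : G}, z ∈ C ↔ z * φ tauM = φ tauM * z ∧ z * φ uM = φ uM * z := by
    intro z
    rw [mem_centralizer_iff]
    constructor
    · intro h; exact ⟨(h _ (by simp)).symm, (h _ (by simp)).symm⟩
    · rintro ⟨h1, h2⟩ y hy
      simp only [Set.mem_insert_iff, Set.mem_singleton_iff] at hy
      rcases hy with rfl | rfl
      exacts [h1.symm, h2.symm]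
  set l := all.filter fun a => inT a && cjg true a uM == uM &&
    mm true false a tauM == mm true false tauM a with hl
  have hE : ∀ a, a ∈ l ↔ a ∈ t32 ∧ Commute (φ a) (φ tauM) := by
    intro a
    rw [N.toCd.commute_iff]
    simp only [hl, t32, List.mem_filter, Bool.and_eq_true, beq_iff_eq, and_assoc]
  have hl1 : oneM ∈ l := (hE _).2 ⟨tone, by rw [N.toCd.map_one]; exact Commute.one_left _⟩
  have hli : ∀ a ∈ l, minv true false a ∈ l := fun a ha => (hE _).2
    ⟨(t4 a ((hE a).1 ha).1).2, by rw [N.toCd.map_inv]; exact ((hE a).1 ha).2.inv_left⟩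
  have hlm : ∀ a ∈ l, ∀ b ∈ l, mm true false a b ∈ l := fun a ha b hb => (hE _).2
    ⟨(t5 a ((hE a).1 ha).1 b ((hE b).1 hb).1).1, by
      rw [← N.toCd.mul]; exact ((hE a).1 ha).2.mul_left ((hE b).1 hb).2⟩
  let E := listSub N l hl1 hli hlm
  have hEcard : Nat.card E = 8 :=
    (N.card_listSub hl1 hli hlm (all_nodup.1.filter _)).trans tau_cent.2.2.1
  have hEC : E ≤ C := by
    rintro _ ⟨a, ha, rfl⟩
    exact hcC.2 ⟨((hE a).1 ha).2.eq, (hXmem.1 (hinX a ((hE a).1 ha).1)).eq⟩
  -- a larger 2-subgroup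
  set W' := N.toFz.W.map (MulAut.conj g).toMonoidHom with hW'
  have hU : φ uM ∈ N.toFz.W := N.toFz.mem_W.2 (loc_facts.1 uM (by simp))
  have hW'C : W' ≤ C := by
    rintro _ ⟨x, hx, rfl⟩
    show g * x * g⁻¹ ∈ C
    refine hcC.2 ⟨?_, ?_⟩
    · have h := (N.toFz.comm_W hx hgW).eq
      calc g * x * g⁻¹ * φ tauM = g * (x * w) * g⁻¹ := by rw [hw]; group
        _ = g * (w * x) * g⁻¹ := by rw [h]
        _ = _ := by rw [hw]; group
    · have h := ((SemiconjBy.conj_iff (b := g)).2 (N.toFz.comm_W hx hU)).eq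
      rwa [hgu.eq, mul_inv_cancel_right] at h
  have hW'card : Nat.card W' = 16 :=
    (card_map_of_injective (MulAut.conj g).injective).trans N.toFz.card_W
  obtain ⟨R, hR⟩ := ((IsPGroup.of_card (p := 2) (n := 3) (hEcard.trans (by norm_num))).comap_subtype :
    IsPGroup 2 (E.subgroupOf C)).exists_le_sylow
  obtain ⟨R', hR'⟩ := ((IsPGroup.of_card (p := 2) (n := 4) (hW'card.trans (by norm_num))).comap_subtype :
    IsPGroup 2 (W'.subgroupOf C)).exists_le_sylow
  have h16 : 16 ≤ Nat.card (R : Subgroup C) := by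
    rw [Nat.card_congr (Sylow.equiv R R').toEquiv]
    rw [← hW'card, ← Nat.card_congr (subgroupOfEquivOfLe hW'C).toEquiv]
    exact Subgroup.card_le_of_le hR'
  haveI : Group.IsNilpotent (R : Subgroup C) := R.2.isNilpotent
  set ER := (E.subgroupOf C).subgroupOf (R : Subgroup C) with hER
  have hlt : ER < ⊤ := by
    refine lt_top_iff_ne_top.2 fun e => ?_
    have h : Nat.card ER = Nat.card (E.subgroupOf C) :=
      Nat.card_congr (subgroupOfEquivOfLe hR).toEquiv
    rw [e, Subgroup.card_top, Nat.card_congr (subgroupOfEquivOfLe hEC).toEquiv, hEcard] at h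
    omega
  obtain ⟨y, hyN, hyE⟩ := SetLike.exists_of_lt (Group.normalizerCondition_of_isNilpotent ER hlt)
  have hyy : ∀ a ∈ l, ∃ b ∈ l, φ b = ((y : C) : G) * φ a * ((y : C) : G)⁻¹ := by
    intro a ha
    have haE : φ a ∈ E := ⟨a, ha, rfl⟩
    have h := (mem_normalizer_iff.1 hyN ⟨⟨φ a, hEC haE⟩, hR haE⟩).1 haE
    exact h
  have hcsl : cs ∈ l := (hE _).2 ⟨tau_cent.2.2.2.1, N.toCd.commute_iff.2 tau_cent.2.2.2.2.1⟩
  obtain ⟨b, hb, hby⟩ := hyy cs hcsl
  have hbf : flagSet fNorm b = true := (N.flags b).2 (isConj_iff.2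
    ⟨((y : C) : G), by rw [hby, N.toCd.map_cs]⟩)
  have hbc := tau_cent.2.1 b ((hE b).1 hb).1 (N.toCd.commute_iff.1 ((hE b).1 hb).2) hbf
  rw [hbc, N.toCd.map_cs] at hby
  have hys : Commute ((y : C) : G) s := by
    show ((y : C) : G) * s = s * ((y : C) : G)
    exact mul_inv_eq_iff_eq_mul.1 hby.symm
  obtain ⟨hyt, hyu⟩ := hcC.1 (y : C).2
  obtain ⟨a, haT, ha⟩ := hcentsu _ hyu hys
  exact hyE ⟨a, (hE a).2 ⟨haT, by rw [ha]; exact hyt⟩, ha⟩

theorem conj_tau : ∀ g ∈ centralizer ({φ uM} : Set G), ∀ b ∈ t32, g⁻¹ * φ tauM * g = φ b →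
    co1 b = true ∧ co2 b = false := by
  classical
  haveI := Fact.mk Nat.prime_two
  obtain ⟨cτ1, cτ2, cv1, cv2, cu1, cu2, cu3, cus1, cus2, cus3, cw1, cw2, cw3, cout, cin⟩ := co_values
  set X := centralizer ({φ uM} : Set G) with hX
  have hXmem : ∀ {g : G}, g ∈ X ↔ Commute g (φ uM) := fun {g} => N.mem_X
  have hnotW := N.not_w
  intro g hg b hb e
  have hI : isInv true false b = true := N.toCd.isInv_of_isConj (isConj_iff.2 ⟨g⁻¹, by rw [inv_inv]; exact e⟩)
    (loc_facts.2.2.2.1 tauM (by simp))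
  cases hW : inW b
  · exact ⟨(cout b hb hI hW).1, (cout b hb hI hW).2.1⟩
  · exact (hnotW g (hXmem.1 hg) (e ▸ N.toFz.mem_W.2 hW)).elim

theorem conj_v : ∀ g ∈ centralizer ({φ uM} : Set G), ∀ b ∈ t32, g⁻¹ * φ vM * g = φ b →
    co1 b = false ∧ co2 b = true := by
  classical
  haveI := Fact.mk Nat.prime_two
  obtain ⟨cτ1, cτ2, cv1, cv2, cu1, cu2, cu3, cus1, cus2, cus3, cw1, cw2, cw3, cout, cin⟩ := co_values
  set X := centralizer ({φ uM} : Set G) with hX
  have hXmem : ∀ {g : G}, g ∈ X ↔ Commute g (φ uM) := fun {g} => N.mem_X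
  have hnotW := N.not_w
  have hinX : ∀ a ∈ t32, φ a ∈ X := fun a ha => N.t32_mem ha
  intro g hg b hb e
  have hvW : inW vM = true := loc_facts.1 vM (by simp)
  have hvI : isInv true false vM = true := by decide +kernel
  have hI : isInv true false b = true := N.toCd.isInv_of_isConj (isConj_iff.2 ⟨g⁻¹, by rw [inv_inv]; exact e⟩) hvI
  cases hW : inW b
  · exfalso
    obtain ⟨-, -, h, hh, hhb⟩ := cout b hb hI hW
    have hb' : φ b = φ h * φ tauM * (φ h)⁻¹ := by rw [← hhb, N.conj_eq]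
    refine hnotW ((φ h)⁻¹ * g⁻¹)
      ((hXmem.1 (hinX h hh)).inv_left.mul_left (hXmem.1 hg).inv_left) ?_
    rw [show ((φ h)⁻¹ * g⁻¹)⁻¹ * φ tauM * ((φ h)⁻¹ * g⁻¹) = g * (φ h * φ tauM * (φ h)⁻¹) * g⁻¹ by group,
      ← hb', ← e, show g * (g⁻¹ * φ vM * g) * g⁻¹ = φ vM by group, N.toFz.mem_W]
    exact hvW
  · have hgu : g⁻¹ * φ uM * g⁻¹⁻¹ = φ uM := by rw [(hXmem.1 hg).inv_left.eq, mul_inv_cancel_right]
    obtain ⟨n, hn, hnu, hnv⟩ := N.conj_wu (g := g⁻¹) (N.toFz.mem_W.2 hvW)
      (by rw [inv_inv, e]; exact N.toFz.mem_W.2 hW) hgu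
    rw [inv_inv, e] at hnv
    obtain ⟨-, -, hvU, -, hP', hP'', -⟩ := u_facts
    have hbU : ∀ c, inW c = true → IsConj (φ vM) (φ c) ∨ IsConj (φ (mm true false vM uM)) (φ c) →
        c ∈ uList := by
      intro c hc hcon
      have huv : ∀ a ∈ [vM, mm true false vM uM],
          isInv true false a = true ∧ flagSet fNorm a = false := by decide +kernel
      obtain ⟨a, ha, haC⟩ : ∃ a ∈ [vM, mm true false vM uM], IsConj (φ a) (φ c) := by
        rcases hcon with h | h
        exacts [⟨_, by simp, h⟩, ⟨_, by simp, h⟩]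
      refine List.mem_filter.2 ⟨List.contains_iff_mem.1 hc, ?_⟩
      simp only [N.toCd.isInv_of_isConj haC (huv a ha).1, Bool.true_and, Bool.not_eq_true']
      refine Bool.eq_false_iff.2 fun h => ?_
      have := (N.flags a).2 (((N.flags c).1 h).trans haC.symm)
      rw [(huv a ha).2] at this
      exact Bool.noConfusion this
    have e2 : n * φ (mm true false vM uM) * n⁻¹ = φ (mm true false b uM) := by
      rw [← N.toCd.mul, ← N.toCd.mul]
      calc n * (φ vM * φ uM) * n⁻¹ = n * φ vM * n⁻¹ * (n * φ uM * n⁻¹) := by group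
        _ = _ := by rw [hnv, hnu]
    have h1 := hbU b hW (Or.inl (isConj_iff.2 ⟨n, hnv⟩))
    have h2 := hbU _ (by
      have := ((w_closed b (List.contains_iff_mem.1 hW)).2.2 uM
        (List.mem_filter.1 u_facts.2.1).1).1
      exact this) (Or.inr (isConj_iff.2 ⟨n, e2⟩))
    have h3 := hP' (List.mem_filter.2 ⟨h1, List.contains_iff_mem.2 h2⟩)
    simp only [List.mem_cons, List.not_mem_nil, or_false] at h3
    rcases h3 with rfl | rfl
    · exact ⟨cv1, cv2⟩
    · exact ⟨by decide +kernel, by decide +kernel⟩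

omit [Finite G] in
theorem conj_u : ∀ g ∈ centralizer ({φ uM} : Set G), ∀ b, g⁻¹ * φ uM * g = φ b → b = uM := by
  intro g hg b e
  rw [(N.mem_X.1 hg).inv_left.eq, inv_mul_cancel_right] at e
  exact (N.toCd.inj e).symm

end Nm

end Cfsg.Agent.SymThirtyTwo
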